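/-
An involution with centraliser `2 × M₁₂`: the setting, the elements of the model used later, and their conjugates
under the swap of the pair.
-/
import Cfsg.Agent.M12Cent.Concrete
import Cfsg.Agent.M12Cent.Classes
import Cfsg.Prelude.Def_Transfer

set_option autoImplicit false
set_option linter.unusedSectionVars false
set_option linter.style.haveILetI false
set_option maxRecDepth 10000

namespace Cfsg.Lib.CoThreeM

open Subgroup Cfsg.Lib.M12Cent Cfsg.Lib.PermCert Cfsg.Lib.Golay

universe u

/-- element of order three of the complement -/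
def yM : M := M.mk 1
/-- involution of the complement centralising the pair -/
def piM : M := M.mk 3
/-- involution of the two-group centralising the pair -/
def uM : M := M.mk 114
/-- element of order four of the two-group centralising the pair -/
def qM : M := M.mk 12
/-- involution of the two-group outside the centraliser of the pair -/
def nM : M := M.mk 60
/-- carries `a6` to `a6 * tau` -/
def dM : M := M.mk 18

/-- membership in the two-group -/
def inQ (m : M) : Bool := (sp m).val == 0
/-- outside the kernel of the sign -/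
def chi (m : M) : Bool := decide (3 ≤ (sp m).val)
/-- conjugation by the swap on the centraliser of the pair -/
def nC (m : M) : M := sw0 (kidx m)

theorem elt_facts : inK tau = true ∧ inK a6 = true ∧ inK piM = true ∧ inK uM = true ∧ inK qM = true ∧
    nC tau = a6 ∧ nC a6 = tau ∧ dM * a6 * dM⁻¹ = a6 * tau ∧ dM * (a6 * tau) * dM⁻¹ = a6 ∧
    piM = M.mk 21 * M.mk 15 * (M.mk 21)⁻¹ ∧ yM * M.mk 144 * yM⁻¹ = a6 ∧ inK (M.mk 15) = true ∧
    nC (M.mk 15) = M.mk 144 ∧ nM * a6 * nM⁻¹ = a6 * tau ∧ tau * a6 = a6 * tau := by decide +kernel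

theorem chi_mul : ∀ s t : Fin 6, decide (3 ≤ (smul6 s t).val) = xor (decide (3 ≤ s.val)) (decide (3 ≤ t.val)) := by
  decide +kernel

theorem chi_hom (a b : M) : chi (a * b) = xor (chi a) (chi b) := by
  show decide (3 ≤ (sp (pr _ _)).val) = _
  rw [(qp_pr _ _).2]
  exact chi_mul _ _

variable {G : Type u} [Group G] [Finite G]

/-- the setting -/
structure Setup (G : Type u) [Group G] where
  /-- the involution -/
  e : G
  /-- the simple component of its centraliser -/
  φ : X12 →* G
  inj : Function.Injective φ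
  ee : e * e = 1
  comm : ∀ x, e * φ x = φ x * e
  notin : ∀ x, φ x ≠ e
  cover : ∀ g, g * e = e * g → ∃ x, g = φ x ∨ g = e * φ x
  res : e ∈ Cfsg.pResidual 2 G

theorem exists_setup {e : G} (he : orderOf e = 2)
    (hC : Nonempty (↥(centralizer ({e} : Set G)) ≃* (Multiplicative (ZMod 2) × ↥Cfsg.Spor.M12)))
    (hO : e ∈ Cfsg.pResidual 2 G) : ∃ S : Setup G, S.e = e := by
  obtain ⟨f⟩ := hC
  have hee : e * e = 1 := by rw [← pow_two, ← he, pow_orderOf_eq_one]
  have hne : e ≠ 1 := fun h => by simp [h] at he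
  haveI := x12_simple
  have hmem : e ∈ centralizer ({e} : Set G) := mem_centralizer_singleton_iff.2 rfl
  set eC : ↥(centralizer ({e} : Set G)) := ⟨e, hmem⟩
  have hcen : ∀ x, f eC * x = x * f eC := fun x => by
    obtain ⟨c, rfl⟩ := f.surjective x
    rw [← map_mul, ← map_mul]
    congr 1
    exact Subtype.ext (mem_centralizer_singleton_iff.1 c.2).symm
  have hm : (f eC).2 = 1 := by
    have hz : x12Equiv.symm (f eC).2 ∈ center X12 := mem_center_iff.2 fun g => by
      have := congrArg Prod.snd (hcen (1, x12Equiv g))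
      simp only [Prod.snd_mul] at this
      apply x12Equiv.injective
      rw [map_mul, map_mul, MulEquiv.apply_symm_apply, this]
    rcases
      Subgroup.Normal.eq_bot_or_eq_top (H := center X12) inferInstance with h | h
    · rw [h, mem_bot] at hz
      simpa using congrArg x12Equiv hz
    · exfalso
      have h1 : n12 * d12 = d12 * n12 := (mem_center_iff.1 (h ▸ mem_top d12) n12)
      have h2 : FusionCert.same (nW ++ dW) (dW ++ nW) = true := by
        refine FusionCert.same_of_eq (okw_valid (okw_append ok_nW ok_dW)) (okw_valid (okw_append ok_dW ok_nW)) ?_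
        rw [wperm_append, wperm_append]
        exact congrArg Subtype.val h1
      exact absurd h2 (by decide +kernel)
  let φ : X12 →* G := (centralizer ({e} : Set G)).subtype.comp
    (f.symm.toMonoidHom.comp ((MonoidHom.inr _ _).comp x12Equiv.toMonoidHom))
  have hφ : ∀ x, φ x = (f.symm ((1 : Multiplicative (ZMod 2)), x12Equiv x) : G) := fun x => rfl
  refine ⟨⟨e, φ, fun a b h => ?_, hee, fun x => ?_, fun x h => ?_, fun g hg => ?_, hO⟩, rfl⟩
  · have := f.symm.injective (Subtype.ext h)
    exact x12Equiv.injective (Prod.ext_iff.1 this).2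
  · exact (mem_centralizer_singleton_iff.1 (f.symm _).2).symm
  · have h1 : f eC = ((1 : Multiplicative (ZMod 2)), x12Equiv x) := by
      rw [show eC = f.symm ((1 : Multiplicative (ZMod 2)), x12Equiv x) from Subtype.ext h.symm,
        MulEquiv.apply_symm_apply]
    have h2 : f eC = 1 := Prod.ext ((Prod.ext_iff.1 h1).1) hm
    exact hne (congrArg Subtype.val (f.map_eq_one_iff.1 h2))
  · set gC : ↥(centralizer ({e} : Set G)) := ⟨g, mem_centralizer_singleton_iff.2 hg⟩
    refine ⟨x12Equiv.symm (f gC).2, ?_⟩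
    have hcases : ∀ a c : Multiplicative (ZMod 2), c ≠ 1 → a = 1 ∨ a = c := by decide
    have hc1 : (f eC).1 ≠ 1 := fun h => hne (congrArg Subtype.val
      (f.map_eq_one_iff.1 (Prod.ext h hm : f eC = 1)))
    rw [hφ, MulEquiv.apply_symm_apply]
    rcases hcases (f gC).1 _ hc1 with h | h
    · left
      rw [show ((1 : Multiplicative (ZMod 2)), (f gC).2) = f gC from Prod.ext h.symm rfl,
        MulEquiv.symm_apply_apply]
    · right
      have h3 : f gC = f eC * ((1 : Multiplicative (ZMod 2)), (f gC).2) :=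
        Prod.ext (by simp [h]) (by simp [hm])
      have h4 : gC = eC * f.symm ((1 : Multiplicative (ZMod 2)), (f gC).2) := by
        apply f.injective
        rw [map_mul, MulEquiv.apply_symm_apply, ← h3]
      exact congrArg Subtype.val h4

namespace Setup

variable (S : Setup G)

/-- the model inside -/
def ψ : M →* G := S.φ.comp emb
/-- the central involution of the model -/
def z : G := S.ψ tau
/-- its companion -/
def v : G := S.ψ a6
/-- the swap of the pair -/
def n : G := S.φ n12
/-- cycles the three involutions of the pair -/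
def d : G := S.n * S.ψ dM
/-- the centraliser of the central involution -/
def K : Subgroup G := centralizer ({S.z} : Set G)

theorem ψ_inj : Function.Injective S.ψ := fun a b h => emb_inj (S.inj h)

theorem e_ψ (m : M) : S.e * S.ψ m = S.ψ m * S.e := S.comm _
theorem e_n : S.e * S.n = S.n * S.e := S.comm _

theorem ψ_ne_e (m : M) : S.ψ m ≠ S.e := S.notin _

theorem e_inv : S.e⁻¹ = S.e := inv_eq_of_mul_eq_one_right S.ee

theorem e_ne : S.e ≠ 1 := fun h => S.notin 1 (by rw [map_one, h])

theorem ψ_mul_ne (a b : M) : S.e * S.ψ a ≠ S.ψ b := fun h => S.notin (emb (b * a⁻¹)) (by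
  show S.ψ (b * a⁻¹) = S.e
  rw [map_mul, map_inv, ← h, mul_inv_cancel_right])

/-- powers of the involution -/
def E (i : Bool) : G := bif i then S.e else 1

theorem E_mul (i j : Bool) : S.E i * S.E j = S.E (xor i j) := by
  cases i <;> cases j <;> simp [E, S.ee]

theorem E_ψ (i : Bool) (m : M) : S.E i * S.ψ m = S.ψ m * S.E i := by
  cases i
  · simp [E]
  · exact S.e_ψ m

theorem Eψ_mul (i j : Bool) (a b : M) : S.E i * S.ψ a * (S.E j * S.ψ b) = S.E (xor i j) * S.ψ (a * b) := by
  rw [mul_assoc, ← mul_assoc (S.ψ a), ← S.E_ψ, ← S.E_mul, map_mul]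
  simp only [mul_assoc]

theorem Eψ_inj {i j : Bool} {a b : M} (h : S.E i * S.ψ a = S.E j * S.ψ b) : i = j ∧ a = b := by
  cases i <;> cases j <;> simp only [E, cond_true, cond_false, one_mul] at h
  · exact ⟨rfl, S.ψ_inj h⟩
  · exact absurd h.symm (S.ψ_mul_ne _ _)
  · exact absurd h (S.ψ_mul_ne _ _)
  · exact ⟨rfl, S.ψ_inj (mul_left_cancel h)⟩

theorem zz : S.z * S.z = 1 := by rw [z, ← map_mul, tau_sq.1, map_one]
theorem z_inv : S.z⁻¹ = S.z := inv_eq_of_mul_eq_one_right S.zz
theorem z_ne : S.z ≠ 1 := fun h => tau_sq.2 (S.ψ_inj (by rw [map_one]; exact h))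
theorem e_z : S.e * S.z = S.z * S.e := S.e_ψ _
theorem z_ψ (m : M) : S.z * S.ψ m = S.ψ m * S.z := by rw [z, ← map_mul, ← map_mul, tau_central]

theorem nn : S.n * S.n = 1 := by rw [n, ← map_mul, nn12, map_one]
theorem n_inv : S.n⁻¹ = S.n := inv_eq_of_mul_eq_one_right S.nn

theorem n_conj {l : M} (h : inK l = true) : S.n * S.ψ l * S.n = S.ψ (nC l) := by
  have := congrArg S.φ (gen12.nk (kidx l))
  rw [map_mul, map_mul, kel_kidx h] at this
  exact this

theorem n_z : S.n * S.z * S.n = S.v := by rw [z, S.n_conj elt_facts.1, elt_facts.2.2.2.2.2.1]; rfl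
theorem n_v : S.n * S.v * S.n = S.z := by rw [v, S.n_conj elt_facts.2.1, elt_facts.2.2.2.2.2.2.1]; rfl

theorem cent_ez {g : G} (he : g * S.e = S.e * g) (hz : g * S.z = S.z * g) :
    ∃ m : M, g = S.ψ m ∨ g = S.e * S.ψ m := by
  obtain ⟨x, hx⟩ := S.cover g he
  have hxz : S.φ x * S.z = S.z * S.φ x := by
    rcases hx with rfl | rfl
    · exact hz
    · have h1 : S.e * S.φ x * S.z = S.e * (S.z * S.φ x) := by rw [hz, ← mul_assoc, ← mul_assoc, S.e_z]
      rw [mul_assoc] at h1
      exact mul_left_cancel h1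
  have hxc : x ∈ centralizer ({emb tau} : Set X12) := mem_centralizer_singleton_iff.2 (S.inj (by
    rw [map_mul, map_mul]; exact hxz))
  rw [centralizer_tau] at hxc
  obtain ⟨m, rfl⟩ := hxc
  exact ⟨m, hx⟩

theorem pi_conj : ∃ k : G, k * S.e = S.e * k ∧ k * S.z * k⁻¹ = S.ψ piM := by
  obtain ⟨-, -, -, -, -, -, -, -, -, hπ, hy, h15, hn15, -, -⟩ := elt_facts
  refine ⟨S.ψ (M.mk 21) * (S.n * ((S.ψ yM)⁻¹ * S.n)), ?_, ?_⟩
  · have h : ∀ g : G, g * S.e = S.e * g → ∀ h : G, h * S.e = S.e * h → g * h * S.e = S.e * (g * h) :=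
      fun g hg h hh => Commute.mul_left hg hh
    refine h _ (S.e_ψ _).symm _ (h _ S.e_n.symm _ (h _ ?_ _ S.e_n.symm))
    rw [← map_inv]; exact (S.e_ψ _).symm
  · have h1 : (S.ψ yM)⁻¹ * (S.n * S.z * S.n) * S.ψ yM = S.ψ (M.mk 144) := by
      rw [S.n_z, v, ← map_inv, ← map_mul, ← map_mul, ← hy]
      congr 1
    have h2 : S.n * S.ψ (M.mk 144) * S.n = S.ψ (M.mk 15) := by
      rw [← hn15, ← S.n_conj h15]
      simp only [mul_assoc, S.nn, mul_one]
      rw [← mul_assoc, S.nn, one_mul]
    rw [hπ, map_mul, map_mul, map_inv, ← h2, ← h1]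
    simp only [mul_inv_rev, S.n_inv, inv_inv]
    group

end Setup

end Cfsg.Lib.CoThreeM
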