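/-
Finite facts about automorphisms of the model fixing the element of order three of the complement.
-/
import Cfsg.Agent.CoThreeM.Frame

set_option autoImplicit false
set_option maxRecDepth 10000

namespace Cfsg.Lib.CoThreeM

open Cfsg.Lib.M12Cent

/-- first generator of the two-group -/
def aM : M := M.mk 12
/-- second generator of the two-group -/
def bM : M := M.mk 54
/-- image of the first generator when the two factors are exchanged -/
def aS : M := M.mk 66
/-- image of the second generator when the two factors are exchanged -/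
def bS : M := M.mk 24

/-- conditional factor -/
def pw (b : Bool) (x : M) : M := bif b then x else 1

/-- the two-group in terms of two generators and an element of order three -/
def gQ (a b y : M) (i : Fin 32) : M :=
  pw (i.val.testBit 0) a * pw (i.val.testBit 1) (y * a * y⁻¹) * pw (i.val.testBit 2) b *
    pw (i.val.testBit 3) (y * b * y⁻¹) * pw (i.val.testBit 4) tau

theorem gen_cover : ∀ m : M, ∃ (i : Fin 32) (p : Fin 3) (q : Bool),
    gQ aM bM yM i * yM ^ p.val * pw q piM = m ∧ (inQ m = true → p.val = 0 ∧ q = false) := by decide +kernel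

theorem to_yM : ∀ x : M, x * (x * x) = 1 → x ≠ 1 → ∃ l : M, l * x * l⁻¹ = yM := by decide +kernel

theorem to_piM : ∀ x : M, x * x = 1 → x * yM * x⁻¹ = yM * yM →
    ∃ p : Fin 3, yM ^ p.val * x * (yM ^ p.val)⁻¹ = piM ∨ yM ^ p.val * x * (yM ^ p.val)⁻¹ = piM * tau := by
  decide +kernel

theorem y_rels : yM * (yM * yM) = 1 ∧ yM ≠ 1 ∧ piM * piM = 1 ∧ piM * yM * piM⁻¹ = yM * yM ∧
    inQ aM = true ∧ inQ bM = true ∧ aM = M.mk 2 * M.mk 30 * (M.mk 2)⁻¹ * (M.mk 30)⁻¹ ∧
    bM = M.mk 1 * M.mk 108 * (M.mk 1)⁻¹ * (M.mk 108)⁻¹ ∧ aM * piM * aM⁻¹ = piM * tau ∧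
    tau = piM * qM * piM⁻¹ * qM⁻¹ := by decide +kernel

/-- the relations of the two generators -/
def relB (p a b : M) : Bool :=
  a * a == tau && b * b == tau && p * a * p⁻¹ == a * tau && p * b * p⁻¹ == b * tau && a * b == b * a &&
    a * (yM * b * yM⁻¹) == yM * b * yM⁻¹ * a && a * (yM * a * yM⁻¹) == tau * (yM * a * yM⁻¹ * a) &&
    b * (yM * b * yM⁻¹) == tau * (yM * b * yM⁻¹ * b) &&
    (a * (yM * a * yM⁻¹) * (yM * yM * a * (yM * yM)⁻¹) == aM * (yM * aM * yM⁻¹) * (yM * yM * aM * (yM * yM)⁻¹)) &&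
    (b * (yM * b * yM⁻¹) * (yM * yM * b * (yM * yM)⁻¹) == bM * (yM * bM * yM⁻¹) * (yM * yM * bM * (yM * yM)⁻¹))

theorem relB_base : relB piM aM bM = true ∧ ∀ x : M,
    aM * (yM * aM * yM⁻¹) * (yM * yM * aM * (yM * yM)⁻¹) = x ∨
      bM * (yM * bM * yM⁻¹) * (yM * yM * bM * (yM * yM)⁻¹) = x → x = 1 ∨ x = tau := by decide +kernel

theorem rel_solutions : ∀ q : Bool, ∀ i j : Fin 32, relB (piM * pw q tau) (gQ aM bM yM i) (gQ aM bM yM j) = true →
    (gQ aM bM yM i = aM ∧ gQ aM bM yM j = bM) ∨ (gQ aM bM yM i = aS ∧ gQ aM bM yM j = bS) := by decide +kernel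

theorem rel_inQ : ∀ x : M, x * x = tau → x * (yM * x * yM⁻¹) = tau * (yM * x * yM⁻¹ * x) →
    ∃ i : Fin 32, gQ aM bM yM i = x := by decide +kernel

theorem swap_v : ∃ i : Fin 32, gQ aM bM yM i = a6 ∧ gQ aS bS yM i = a6 := by decide +kernel

end Cfsg.Lib.CoThreeM
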