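/-
Codes for the extraspecial group of order 128 generated by `e`, `f` and the two-group of the model.
-/
import Cfsg.Agent.CoThreeM.TwistFacts

set_option autoImplicit false
set_option maxRecDepth 10000

namespace Cfsg.Lib.CoThreeM

open Cfsg.Lib.M12Cent

/-- addition of codes -/
def x6 (a b : Fin 64) : Fin 64 := ⟨(a.val ^^^ b.val) % 64, Nat.mod_lt _ (by norm_num)⟩

/-- the part of a code in the two-group -/
def qrep (a : Fin 64) : M :=
  pw (a.val.testBit 0) uM * pw (a.val.testBit 1) qM * pw (a.val.testBit 2) a6 * pw (a.val.testBit 5) nM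

/-- the element of a code -/
def rC (a : Fin 64) : Bool × M × Bool := (a.val.testBit 3, qrep a, a.val.testBit 4)

/-- the square of a code -/
def q6 (a : Fin 64) : Bool :=
  (qrep a * qrep a == tau) != ((a.val.testBit 3 && a.val.testBit 4) != a.val.testBit 4)

/-- the commutator of two codes -/
def B6 (a b : Fin 64) : Bool := q6 (x6 a b) != (q6 a != q6 b)

/-- the twist of the model -/
def tw (δ : Bool) (m : M) : M := m * pw (δ && chi m) tau

/-- product of codes -/
def mulD (δ : Bool) (x y : Bool × M × Bool) : Bool × M × Bool :=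
  (xor x.1 y.1, x.2.1 * pw (x.2.2 && y.1) tau * (bif x.2.2 then tw δ y.2.1 else y.2.1) * pw (x.2.2 && y.2.2) tau,
    xor x.2.2 y.2.2)

/-- the centre of the code group -/
def tC (b : Bool) : Bool × M × Bool := (false, pw b tau, false)

theorem rC_mul : ∀ δ : Bool, ∀ a b : Fin 64, ∃ c : Bool, mulD δ (rC a) (rC b) = mulD δ (rC (x6 a b)) (tC c) := by
  intro δ; cases δ <;> decide +kernel

theorem rC_sq : ∀ δ : Bool, ∀ a : Fin 64, mulD δ (rC a) (rC a) = tC (q6 a) := by decide +kernel

theorem rC_comm : ∀ δ : Bool, ∀ a b : Fin 64,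
    mulD δ (rC a) (rC b) = mulD δ (tC (B6 a b)) (mulD δ (rC b) (rC a)) := by
  intro δ; cases δ <;> decide +kernel

theorem rC_inj : ∀ a b : Fin 64, ∀ c : Bool, rC a = mulD false (rC b) (tC c) → a = b ∧ c = false := by decide +kernel

theorem rC_cover : ∀ (i j : Bool) (m : M), inQ m = true →
    ∃ (a : Fin 64) (c : Bool), (i, m, j) = mulD false (rC a) (tC c) := by decide +kernel

theorem rC_zero : rC 0 = tC false ∧ rC 8 = (true, 1, false) ∧ rC 4 = (false, a6, false) ∧
    rC 16 = (false, 1, true) := by decide +kernel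

theorem x6_self : ∀ a : Fin 64, x6 a a = 0 := by decide +kernel
theorem x6_assoc (a b c : Fin 64) : x6 (x6 a b) c = x6 a (x6 b c) := by
  refine Fin.ext ?_
  show ((a.val ^^^ b.val) % 64 ^^^ c.val) % 64 = (a.val ^^^ (b.val ^^^ c.val) % 64) % 64
  have hlt : ∀ p q : ℕ, p < 64 → q < 64 → p ^^^ q < 64 := fun p q hp hq => Nat.xor_lt_two_pow (n := 6) hp hq
  rw [Nat.mod_eq_of_lt (hlt _ _ a.isLt b.isLt), Nat.mod_eq_of_lt (hlt _ _ b.isLt c.isLt), Nat.xor_assoc]
theorem x6_zero : ∀ a : Fin 64, x6 0 a = a ∧ x6 a 0 = a := by decide +kernel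

/-- the linear map with given images of the six unit codes -/
def lf (L : List ℕ) (a : Fin 64) : Fin 64 :=
  ⟨((List.range 6).foldl (fun r i => if a.val.testBit i then r ^^^ L.getD i 0 else r) 0) % 64,
    Nat.mod_lt _ (by norm_num)⟩

/-- the unit codes -/
def unit6 (i : Fin 6) : Fin 64 := ⟨2 ^ i.val % 64, Nat.mod_lt _ (by norm_num)⟩

theorem fix_count : ∀ l : M, inQ l = false → sp (l * l) = 0 →
    (Finset.univ.filter fun a : Fin 64 => (l * qrep a == qrep a * l || l * qrep a == qrep a * l * tau) = true).card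
      ≤ 16 := by decide +kernel

theorem refl_comm : ∀ s t : Fin 6, smul6 s s = 0 → smul6 t t = 0 → smul6 s t = smul6 t s → s ≠ 0 → t ≠ 0 → s = t := by
  decide +kernel

end Cfsg.Lib.CoThreeM
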