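/-
Tables for the conjugates of `f` and of the model acting on the group of order 128.
-/
import Cfsg.Agent.CoThreeM.RadModel
import Cfsg.Agent.CoThreeM.Frame

set_option autoImplicit false
set_option maxRecDepth 10000

namespace Cfsg.Lib.CoThreeM

open Cfsg.Lib.M12Cent

/-- action of `y` -/
def yL : List ℕ := [35, 36, 3, 8, 16, 37]
/-- action of `π` -/
def piL : List ℕ := [5, 2, 4, 8, 16, 34]
/-- action of the conjugate of `f` under the swap of the pair -/
def rhoL (δ r : Bool) : List ℕ :=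
  [1, bif δ then 6 else 2, 4, 12, bif r then 20 else 16,
    bif δ then (bif r then 61 else 49) else (bif r then 56 else 52)]

theorem conj_yM : ∀ δ : Bool, ∀ a : Fin 64, ∃ c : Bool, mulD δ (false, yM, false) (rC a) =
    mulD δ (mulD δ (rC (lf yL a)) (tC c)) (false, yM, false) := by decide +kernel

theorem conj_piM : ∀ δ : Bool, ∀ a : Fin 64, ∃ c : Bool, mulD δ (false, piM, false) (rC a) =
    mulD δ (mulD δ (rC (lf piL a)) (tC c)) (false, piM, false) := by decide +kernel

/-- the conjugate of an element of the centraliser of the pair by the conjugate of `f` -/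
def rhoM (δ : Bool) (l : M) : M := nC (tw δ (nC l))

theorem nC_facts : ∀ l : M, inK l = true → inK (nC l) = true ∧ nC (nC l) = l ∧ ∀ δ : Bool, inK (tw δ (nC l)) = true := by
  decide +kernel

theorem rho_units : ∀ δ : Bool, ∃ c d : Bool,
    (false, rhoM δ uM, false) = mulD false (rC (lf (rhoL δ false) 1)) (tC c) ∧
    (false, rhoM δ qM, false) = mulD false (rC (lf (rhoL δ false) 2)) (tC d) := by decide +kernel

theorem unit_codes : rC 1 = (false, uM, false) ∧ rC 2 = (false, qM, false) ∧ inK uM = true ∧ inK qM = true ∧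
    rC 32 = (false, nM, false) := by decide +kernel

theorem rho_last : ∀ δ r : Bool, ∀ t : Fin 64, q6 t = q6 32 →
    (∀ i : Fin 5, B6 t (lf (rhoL δ r) ⟨2 ^ i.val % 64, Nat.mod_lt _ (by norm_num)⟩) =
      B6 32 ⟨2 ^ i.val % 64, Nat.mod_lt _ (by norm_num)⟩) →
    t = lf (rhoL δ r) 32 := by decide +kernel

theorem rho_lf : ∀ δ r : Bool, (lf (rhoL δ r) 1 = lf (rhoL δ false) 1) ∧ (lf (rhoL δ r) 2 = lf (rhoL δ false) 2) ∧
    lf (rhoL δ r) 4 = 4 ∧ lf (rhoL δ r) 8 = 12 ∧ lf (rhoL δ r) 16 = (bif r then 20 else 16) := by decide +kernel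

theorem cent_CZ : ∀ m : M, (∀ i : Fin 32, m * kel i = kel i * m) → m = 1 ∨ m = tau ∨ m = a6 ∨ m = tau * a6 := by
  decide +kernel

theorem nC_pair : nC tau = a6 ∧ nC a6 = tau ∧ nC (tau * a6) = tau * a6 ∧ nC 1 = 1 ∧ tau ≠ a6 ∧
    inK (tau * a6) = true ∧ inK (1 : M) = true := by decide +kernel

theorem tw_pair : ∀ δ : Bool, ∀ m : M, m = 1 ∨ m = tau ∨ m = a6 ∨ m = tau * a6 → tw δ m = m ∧ m * m = 1 := by
  decide +kernel

theorem rho_v : ∀ r : Bool, mulD false (rC (bif r then 20 else 16)) (tC r) = (false, pw r (tau * a6), true) := by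
  decide +kernel

end Cfsg.Lib.CoThreeM
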