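/-
Codes for the group generated by the centraliser of `e` and the pair, `f` and its conjugate.
-/
import Cfsg.Agent.CoThreeM.PrimeModel

set_option autoImplicit false
set_option maxRecDepth 10000

namespace Cfsg.Lib.CoThreeM

open Cfsg.Lib.M12Cent

/-- the elements of the pair -/
def zM (s : Fin 4) : M := pw (s.val.testBit 0) tau * pw (s.val.testBit 1) a6

/-- the part of a code in the centraliser of the pair -/
def lW (a : Fin 64) : M := pw (a.val.testBit 0) uM * pw (a.val.testBit 1) qM * pw (a.val.testBit 2) piM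

/-- the element of a code -/
def wC (a : Fin 64) : Bool × M × Bool × Bool := (a.val.testBit 3, lW a, a.val.testBit 4, a.val.testBit 5)

/-- product of codes -/
def mul4 (δ r : Bool) (x y : Bool × M × Bool × Bool) : Bool × M × Bool × Bool :=
  let p := fun (j : Bool) (m : M) => bif j then tw δ m else m
  let i' := y.1
  let k := x.2.2.2
  let j := x.2.2.1
  let a := pw (k && i') a6 * (bif k then rhoM δ y.2.1 else y.2.1)
  (xor x.1 i',
    x.2.1 * pw (j && i') tau * p j (a * pw (k && y.2.2.1 && r) (tau * a6)) * pw (j && y.2.2.1) tau *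
      p (xor j y.2.2.1) (pw (k && y.2.2.2) a6),
    xor j y.2.2.1, xor k y.2.2.2)

/-- central codes -/
def zC (s : Fin 4) : Bool × M × Bool × Bool := (false, zM s, false, false)

/-- the table of squares -/
def qTab (δ r : Bool) : ℕ :=
  bif δ then (bif r then 0x2c4fd3b086b02c1ad9108c458c108c10 else 0xd3b02c4f86b02c1ad9108c458c108c10)
  else (bif r then 0x73ef8c108c1026ba8c10d9458c108c10 else 0x8c1073ef8c1026ba8c10d9458c108c10)

/-- the square of a code -/
def q4 (δ r : Bool) (a : Fin 64) : Fin 4 := ⟨(qTab δ r >>> (2 * a.val)) % 4, Nat.mod_lt _ (by norm_num)⟩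

/-- addition in the pair -/
def x4 (s t : Fin 4) : Fin 4 := ⟨(s.val ^^^ t.val) % 4, Nat.mod_lt _ (by norm_num)⟩

/-- the commutator of two codes -/
def B4 (δ r : Bool) (a b : Fin 64) : Fin 4 := x4 (q4 δ r (x6 a b)) (x4 (q4 δ r a) (q4 δ r b))

theorem zM_mul : ∀ s t : Fin 4, zM s * zM t = zM (x4 s t) ∧ (zM s = zM t → s = t) := by decide +kernel

theorem x4_facts : ∀ a b c : Fin 4, x4 a a = 0 ∧ x4 0 a = a ∧ x4 a 0 = a ∧ x4 a b = x4 b a ∧
    x4 (x4 a b) c = x4 a (x4 b c) := by decide +kernel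

theorem wC_mul : ∀ δ r : Bool, ∀ a b : Fin 64,
    (let x := mul4 δ r (wC a) (wC b)
     x.1 == (x6 a b).val.testBit 3 && x.2.2.1 == (x6 a b).val.testBit 4 && x.2.2.2 == (x6 a b).val.testBit 5 &&
      (let c := (lW (x6 a b))⁻¹ * x.2.1
       c == 1 || c == tau || c == a6 || c == tau * a6)) = true := by
  intro δ r; cases δ <;> cases r <;> decide +kernel

theorem wC_sq : ∀ δ r : Bool, ∀ a : Fin 64, mul4 δ r (wC a) (wC a) = zC (q4 δ r a) := by decide +kernel

theorem wC_cover : ∀ (i j k : Bool) (m : M), inK m = true → ∃ (a : Fin 64) (s : Fin 4),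
    (i, m, j, k) = (a.val.testBit 3, lW a * zM s, a.val.testBit 4, a.val.testBit 5) := by decide +kernel

theorem lW_inK : ∀ a : Fin 64, inK (lW a) = true := by decide +kernel

theorem lW_inj : ∀ a b : Fin 64, ∀ s : Fin 4,
    a.val.testBit 3 = b.val.testBit 3 → a.val.testBit 4 = b.val.testBit 4 → a.val.testBit 5 = b.val.testBit 5 →
      lW a = lW b * zM s → a = b ∧ s = 0 := by decide +kernel

/-- the projection from codes of the group of order 128 -/
def prV (a : Fin 64) : Fin 64 := ⟨(a.val &&& 27) % 64, Nat.mod_lt _ (by norm_num)⟩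

theorem rC_wC : ∀ a : Fin 64, a.val.testBit 5 = false → ∃ s : Fin 4,
    qrep a = lW (prV a) * zM s ∧ (prV a).val.testBit 3 = a.val.testBit 3 ∧
      (prV a).val.testBit 4 = a.val.testBit 4 ∧ (prV a).val.testBit 5 = false := by decide +kernel

theorem wC_units : wC 8 = (true, 1, false, false) ∧ wC 16 = (false, 1, true, false) ∧
    wC 32 = (false, 1, false, true) ∧ wC 0 = zC 0 ∧ zM 0 = 1 ∧ zM 1 = tau ∧ zM 2 = a6 ∧ wC 4 = (false, piM, false, false) ∧
    prV 8 = 8 ∧ inK (1 : M) = true := by decide +kernel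

end Cfsg.Lib.CoThreeM
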