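/-
The possible extensions of the actions on the group modulo the pair.
-/
import Cfsg.Agent.CoThreeM.VeeModel

set_option autoImplicit false
set_option maxRecDepth 10000

namespace Cfsg.Lib.CoThreeM

open Cfsg.Lib.M12Cent

/-- action on `R` of the element fixing `v` -/
def sL (δ r : Bool) : List ℕ :=
  bif δ then (bif r then [25, 30, 4, 11, 19, 61] else [18, 21, 4, 11, 16, 54])
  else (bif r then [29, 26, 4, 11, 19, 58] else [22, 17, 4, 11, 16, 49])

/-- its action on the group modulo the pair -/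
def sV (δ : Bool) : List ℕ := bif δ then [18, 17, 40, 11, 16, 15] else [25, 26, 44, 11, 19, 35]

/-- action of the element of order three -/
def dV (δ : Bool) : List ℕ := [1, 7, 3, 8, 32, bif δ then 49 else 56]

/-- its action on the pair -/
def dT (s : Fin 4) : Fin 4 := ⟨([0, 2, 3, 1] : List ℕ).getD s.val 0 % 4, Nat.mod_lt _ (by norm_num)⟩

theorem sL_comp : ∀ δ r : Bool, ∀ a : Fin 64, lf (sL δ r) a =
    (bif δ then lf yL (lf (rhoL δ r) (lf yL a)) else lf yL (lf (rhoL δ r) (lf piL (lf yL a)))) := by decide +kernel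

theorem sL_facts : ∀ δ r : Bool, lf (sL δ r) 4 = 4 ∧ (∀ c : Fin 64, lf (sL δ r) c = 8 → c.val.testBit 5 = false) ∧
    ∀ i : Fin 4, (lf (sL δ r) (([1, 2, 8, 16] : List (Fin 64)).getD i.val 0)).val.testBit 5 = false := by decide +kernel

/-- candidate extension -/
def sCand (δ r : Bool) (a b : Fin 64) : List ℕ :=
  [(prV (lf (sL δ r) 1)).val, (prV (lf (sL δ r) 2)).val, a.val, (prV (lf (sL δ r) 8)).val, (prV (lf (sL δ r) 16)).val,
    b.val]

theorem s_ext : ∀ δ r : Bool, ∀ a b : Fin 64,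
    ((List.range 64).all fun x => q4 δ r (lf (sCand δ r a b) ⟨x % 64, Nat.mod_lt _ (by norm_num)⟩) ==
      q4 δ r ⟨x % 64, Nat.mod_lt _ (by norm_num)⟩) = true → δ != r ∧ sCand δ r a b = sV δ := by
  intro δ r; cases δ <;> cases r <;> decide +kernel

theorem d_ext : ∀ δ r : Bool, (δ != r) = true → ∀ a b : Fin 64,
    ((List.range 64).all fun x => q4 δ r (lf [1, 7, 3, 8, a.val, b.val] ⟨x % 64, Nat.mod_lt _ (by norm_num)⟩) ==
      dT (q4 δ r ⟨x % 64, Nat.mod_lt _ (by norm_num)⟩)) = true → [1, 7, 3, 8, a.val, b.val] = dV δ := by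
  intro δ r; cases δ <;> cases r <;> decide +kernel

theorem d_units : ∀ i : Fin 3,
    inK (dM * lW (([1, 2, 4] : List (Fin 64)).getD i.val 0) * dM⁻¹) = true ∧
    ∃ s : Fin 4, nC (dM * lW (([1, 2, 4] : List (Fin 64)).getD i.val 0) * dM⁻¹) =
      lW (([1, 7, 3] : List (Fin 64)).getD i.val 0) * zM s := by decide +kernel

theorem dT_facts : Function.Bijective dT ∧ nC (dM * tau * dM⁻¹) = a6 ∧ nC (dM * a6 * dM⁻¹) = tau * a6 ∧
    inK (dM * tau * dM⁻¹) = true ∧ inK (dM * a6 * dM⁻¹) = true ∧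
    (∀ s : Fin 4, zM (dT s) = pw (s.val.testBit 0) a6 * pw (s.val.testBit 1) (tau * a6)) ∧
    prV 1 = 1 ∧ prV 2 = 2 ∧ prV 16 = 16 ∧ lW 1 = uM ∧ lW 2 = qM := by decide +kernel

end Cfsg.Lib.CoThreeM
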