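/-
Thompson's transfer lemma for one involution lying in every normal subgroup of index two, with a fully extremal
conjugate.
-/
import Cfsg.Agent.BenderSE.Thick.ExtremalTransfer
import Cfsg.Agent.TwoFusion.FusionTools

set_option autoImplicit false
set_option linter.unusedSectionVars false
set_option linter.style.haveILetI false

namespace Cfsg.Lib.CoThreeM

open Subgroup Cfsg.Lib.BenderSE.Thick

universe u

variable {G : Type u} [Group G] [Finite G]

/-- the sign of an involution on cosets from the number of its fixed points -/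
theorem exists_index_two_avoiding (Q : Subgroup G) {m : ℕ} (hm : Odd m) (hQ : Q.index = 2 * m)
    {t : G} (ht : t * t = 1) (hf : 4 ∣ Nat.card {x : G ⧸ Q // t • x = x}) :
    ∃ M : Subgroup G, M.Normal ∧ M.index = 2 ∧ t ∉ M := by
  classical
  haveI := Fintype.ofFinite (G ⧸ Q)
  let ε : G →* ℤˣ := Equiv.Perm.sign.comp (MulAction.toPermHom G (G ⧸ Q))
  set σ : Equiv.Perm (G ⧸ Q) := MulAction.toPermHom G (G ⧸ Q) t with hσ
  have hsupp : σ.support.card + Nat.card {x : G ⧸ Q // t • x = x} = 2 * m := by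
    rw [← hQ, Q.index_eq_card, Nat.card_eq_fintype_card, Nat.card_eq_fintype_card, Fintype.card_subtype]
    rw [show σ.support = Finset.univ.filter (fun x => ¬ t • x = x) from
      Finset.ext fun x => by simp [hσ]]
    rw [add_comm]
    exact Finset.card_filter_add_card_filter_not (fun x => t • x = x)
  obtain ⟨f, hf⟩ := hf
  have hne : σ ≠ 1 := fun h => by
    rw [h, Equiv.Perm.support_one, Finset.card_empty, hf] at hsupp
    obtain ⟨j, hj⟩ := hm
    omega
  have hord : orderOf σ = 2 := orderOf_eq_prime (by rw [hσ, ← map_pow, pow_two, ht, map_one]) hne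
  obtain ⟨k, hk⟩ := Equiv.Perm.cycleType_prime_order (hord.symm ▸ Nat.prime_two)
  have hsum := σ.sum_cycleType
  rw [hk, Multiset.sum_replicate, smul_eq_mul, hord] at hsum
  have hodd : Odd (k + 1) := by
    obtain ⟨j, hj⟩ := hm
    rw [hf, ← hsum] at hsupp
    exact ⟨j - f, by omega⟩
  have hsign : ε t = -1 := by
    show Equiv.Perm.sign σ = -1
    rw [Equiv.Perm.sign_of_cycleType, hk, Multiset.sum_replicate, Multiset.card_replicate, hord, smul_eq_mul]
    exact Odd.neg_one_pow ((Even.mul_left even_two (k + 1)).add_odd hodd)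
  refine ⟨ε.ker, inferInstance, ?_, fun h => by
    rw [MonoidHom.mem_ker, hsign] at h
    exact absurd h (by decide)⟩
  rw [Subgroup.index_ker]
  have htop : ε.range = ⊤ := by
    rw [eq_top_iff]
    intro z _
    rcases Int.units_eq_one_or z with rfl | rfl
    · exact one_mem _
    · exact ⟨t, hsign⟩
  rw [htop, Nat.card_congr Subgroup.topEquiv.toEquiv, Nat.card_eq_fintype_card, Fintype.card_units_int]

/-- TRANSFER: an involution has a conjugate in a maximal subgroup of `S` with the centraliser in `S` Sylow. -/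
theorem exists_extremal_conj (S : Sylow 2 G)
    {T : Subgroup G} (hTS : T ≤ (S : Subgroup G)) (hT : T.relIndex (S : Subgroup G) = 2)
    {t : G} (ht : orderOf t = 2) (hmem : t ∈ Cfsg.pResidual 2 G) :
    ∃ g : G, g * t * g⁻¹ ∈ T ∧
      ∀ x ∈ (S : Subgroup G) ⊓ centralizer ({t} : Set G), g * x * g⁻¹ ∈ (S : Subgroup G) := by
  classical
  haveI : Fact (Nat.Prime 2) := ⟨Nat.prime_two⟩
  have htt : t * t = 1 := by rw [← pow_two, ← ht, pow_orderOf_eq_one]
  have hidx : T.index = 2 * (S : Subgroup G).index := by rw [← relIndex_mul_index hTS, hT]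
  have hSodd : Odd (S : Subgroup G).index := by
    rw [← Nat.not_even_iff_odd]; exact fun h => S.not_dvd_index h.two_dvd
  by_cases hext : ∃ h : G, h * t * h⁻¹ ∈ T ∧
      ¬ 2 ∣ ((S : Subgroup G) ⊓ centralizer ({h * t * h⁻¹} : Set G)).relIndex
        (centralizer ({h * t * h⁻¹} : Set G))
  · obtain ⟨h, hhT, hodd⟩ := hext
    set u := h * t * h⁻¹ with hu
    set Cu := centralizer ({u} : Set G)
    set D := (S : Subgroup G) ⊓ Cu
    set P := ((S.2.to_le (inf_le_left : D ≤ S)).comap_subtype (K := Cu)).toSylow hodd with hP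
    set X := ((S : Subgroup G) ⊓ centralizer ({t} : Set G)).map (MulAut.conj h).toMonoidHom with hX
    have hXC : X ≤ Cu := by
      rintro _ ⟨x, hx, rfl⟩
      refine mem_centralizer_singleton_iff.2 ?_
      have hc := mem_centralizer_singleton_iff.1 hx.2
      show MulAut.conj h x * MulAut.conj h t = MulAut.conj h t * MulAut.conj h x
      rw [← map_mul, ← map_mul, hc]
    obtain ⟨R, hR⟩ := ((S.2.to_le inf_le_left).map (MulAut.conj h).toMonoidHom).comap_subtype
      (K := Cu) |>.exists_le_sylow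
    obtain ⟨c, hc⟩ := MulAction.exists_smul_eq Cu R P
    refine ⟨(c : G) * h, ?_, fun x hx => ?_⟩
    · have h1 := mem_centralizer_singleton_iff.1 c.2
      rw [show (c : G) * h * t * ((c : G) * h)⁻¹ = (c : G) * u * (c : G)⁻¹ by rw [hu]; group, h1,
        mul_inv_cancel_right]
      exact hhT
    · have h1 : (⟨h * x * h⁻¹, hXC ⟨x, hx, rfl⟩⟩ : Cu) ∈ (R : Subgroup Cu) := hR ⟨x, hx, rfl⟩
      have h2 : c * (⟨h * x * h⁻¹, hXC ⟨x, hx, rfl⟩⟩ : Cu) * c⁻¹ ∈ (P : Subgroup Cu) := by
        rw [← hc]; exact ⟨_, h1, rfl⟩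
      have h2' : c * (⟨h * x * h⁻¹, hXC ⟨x, hx, rfl⟩⟩ : Cu) * c⁻¹ ∈ D.subgroupOf Cu := h2
      have h3 : (c : G) * (h * x * h⁻¹) * (c : G)⁻¹ ∈ (S : Subgroup G) := h2'.1
      simpa [mul_assoc] using h3
  -- no extremal conjugate: the number of fixed cosets is divisible by four
  exfalso
  push Not at hext
  suffices hf : 4 ∣ Nat.card {x : G ⧸ T // t • x = x} by
    obtain ⟨M, hM, hM2, htM⟩ := exists_index_two_avoiding T hSodd hidx htt hf
    exact htM (Cfsg.Lib.TwoFusion.pResidual_le_of_index_two hM2 hmem)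
  let Φ := {g : G // g⁻¹ * t * g ∈ T}
  let K := {u : G // u ∈ T ∧ IsConj t u}
  have hΦ : Nat.card Φ = Nat.card {x : G ⧸ T // t • x = x} * Nat.card T := by
    have hiff : ∀ g : G, g⁻¹ * t * g ∈ T ↔ t • (g : G ⧸ T) = g := fun g => by
      rw [show t • (g : G ⧸ T) = ((t * g : G) : G ⧸ T) from rfl]
      rw [eq_comm, QuotientGroup.eq, mul_assoc]
    rw [← Nat.card_prod]
    refine (Nat.card_congr (Equiv.subtypeEquivRight fun g => hiff g)).trans ?_
    exact (Nat.card_congr (QuotientGroup.preimageMkEquivSubgroupProdSet T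
      {x : G ⧸ T | t • x = x})).trans (Nat.card_congr (Equiv.prodComm _ _))
  have hΦ2 : Nat.card Φ = Nat.card K * Nat.card (centralizer ({t} : Set G)) := by
    haveI := Fintype.ofFinite G
    rw [← Nat.card_congr (Equiv.sigmaFiberEquiv fun g : Φ => (⟨g.1⁻¹ * t * g.1, g.2,
      isConj_iff.2 ⟨g.1⁻¹, by rw [inv_inv]⟩⟩ : K)), Nat.card_sigma]
    rw [Finset.sum_const_nat (m := Nat.card (centralizer ({t} : Set G))), Finset.card_univ,
      ← Nat.card_eq_fintype_card]
    rintro ⟨u, huT, hu⟩ -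
    obtain ⟨h, hh⟩ := isConj_iff.1 hu
    refine Nat.card_congr ⟨fun g => ⟨g.1.1 * h, ?_⟩, fun c => ⟨⟨(c : G) * h⁻¹, ?_⟩, ?_⟩,
      fun g => Subtype.ext (Subtype.ext (by simp)), fun c => Subtype.ext (by simp)⟩
    · have h1 : g.1.1⁻¹ * t * g.1.1 = u := congrArg Subtype.val g.2
      refine mem_centralizer_singleton_iff.2 ?_
      calc g.1.1 * h * t = g.1.1 * (h * t * h⁻¹) * h := by group
        _ = g.1.1 * (g.1.1⁻¹ * t * g.1.1) * h := by rw [hh, h1]
        _ = t * (g.1.1 * h) := by group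
    · have h1 := mem_centralizer_singleton_iff.1 c.2
      rw [show ((c : G) * h⁻¹)⁻¹ * t * ((c : G) * h⁻¹) = h * ((c : G)⁻¹ * (t * (c : G))) * h⁻¹ by group,
        ← h1, inv_mul_cancel_left, hh]
      exact huT
    · refine Subtype.ext ?_
      show ((c : G) * h⁻¹)⁻¹ * t * ((c : G) * h⁻¹) = u
      rw [show ((c : G) * h⁻¹)⁻¹ * t * ((c : G) * h⁻¹) = h * ((c : G)⁻¹ * (t * (c : G))) * h⁻¹ by group,
        ← mem_centralizer_singleton_iff.1 c.2, inv_mul_cancel_left, hh]
  have hTn : (S : Subgroup G) ≤ normalizer (T : Set G) := by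
    haveI : (T.subgroupOf (S : Subgroup G)).Normal :=
      Subgroup.normal_of_index_eq_two (by rwa [← relIndex])
    exact (normal_subgroupOf_iff_le_normalizer hTS).1 inferInstance
  letI : MulAction (S : Subgroup G) K :=
    { smul := fun s u => ⟨(s : G) * u.1 * (s : G)⁻¹, (mem_normalizer_iff.1 (hTn s.2) u.1).1 u.2.1,
        u.2.2.trans (isConj_iff.2 ⟨s, rfl⟩)⟩
      one_smul := fun u => Subtype.ext (show (1 : G) * u.1 * (1 : G)⁻¹ = u.1 by group)
      mul_smul := fun a b u => Subtype.ext (show ((a : G) * b) * u.1 * ((a : G) * b)⁻¹ =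
        (a : G) * ((b : G) * u.1 * (b : G)⁻¹) * (a : G)⁻¹ by group) }
  have horb : ∀ u : K, 4 * Nat.card T ∣ Nat.card (MulAction.orbit (S : Subgroup G) u) * Nat.card (centralizer ({t} : Set G)) := by
    intro u
    obtain ⟨h, hh⟩ := isConj_iff.1 u.2.2
    have h2 := hext h (hh ▸ u.2.1)
    rw [hh] at h2
    set Cu := centralizer ({u.1} : Set G)
    have hst : Nat.card (MulAction.stabilizer (S : Subgroup G) u) = Nat.card ↥((S : Subgroup G) ⊓ Cu) := by
      refine Nat.card_congr ⟨fun s => ⟨s.1.1, s.1.2, mem_centralizer_singleton_iff.2 ?_⟩,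
        fun s => ⟨⟨s.1, s.2.1⟩, Subtype.ext ?_⟩, fun _ => rfl, fun _ => rfl⟩
      · exact mul_inv_eq_iff_eq_mul.1 (congrArg Subtype.val (MulAction.mem_stabilizer_iff.1 s.2))
      · show s.1 * u.1 * s.1⁻¹ = u.1
        rw [mem_centralizer_singleton_iff.1 s.2.2, mul_inv_cancel_right]
    have hcard : Nat.card Cu = Nat.card (centralizer ({t} : Set G)) := by
      rw [show Cu = (centralizer ({t} : Set G)).map (MulAut.conj h).toMonoidHom from ?_,
        card_map_of_injective (MulAut.conj h).injective]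
      rw [Cfsg.Lib.Components.centralizer_singleton_map_equiv (MulAut.conj h) t]
      show centralizer ({u.1} : Set G) = centralizer {h * t * h⁻¹}
      rw [hh]
    have h3 := Subgroup.card_mul_index (MulAction.stabilizer (S : Subgroup G) u)
    rw [Subgroup.index_eq_card, ← Nat.card_congr (MulAction.orbitEquivQuotientStabilizer (S : Subgroup G) u)] at h3
    rw [hst] at h3
    have h4 := Subgroup.relIndex_mul_relIndex ⊥ ((S : Subgroup G) ⊓ Cu) Cu bot_le inf_le_right
    simp only [relIndex_bot_left] at h4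
    have h5 : Nat.card T * 2 = Nat.card (S : Subgroup G) := by
      have h := Subgroup.relIndex_mul_relIndex ⊥ T (S : Subgroup G) bot_le hTS
      simpa only [relIndex_bot_left, hT] using h
    obtain ⟨j, hj⟩ := h2
    refine ⟨j, ?_⟩
    rw [← hcard, ← h4, hj, show 4 * Nat.card T = 2 * (Nat.card T * 2) by ring, h5, ← h3]
    ring
  have hdvd : 4 * Nat.card T ∣ Nat.card (K × centralizer ({t} : Set G)) := by
    letI : MulAction (S : Subgroup G) (K × centralizer ({t} : Set G)) :=
      { smul := fun s x => (s • x.1, x.2)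
        one_smul := fun x => Prod.ext (one_smul _ x.1) rfl
        mul_smul := fun a b x => Prod.ext (mul_smul a b x.1) rfl }
    have hK : ∀ ω : MulAction.orbitRel.Quotient (S : Subgroup G) K,
        4 * Nat.card T ∣ Nat.card ω.orbit * Nat.card (centralizer ({t} : Set G)) := fun ω => by
      obtain ⟨u, rfl⟩ := Quotient.exists_rep ω
      exact horb u
    rw [Nat.card_prod, Nat.card_congr (MulAction.selfEquivSigmaOrbits' (S : Subgroup G) K)]
    haveI := Fintype.ofFinite K
    rw [Nat.card_sigma, Finset.sum_mul]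
    exact Finset.dvd_sum fun ω _ => hK ω
  rw [Nat.card_prod, ← hΦ2, hΦ] at hdvd
  exact Nat.dvd_of_mul_dvd_mul_right Nat.card_pos hdvd

end Cfsg.Lib.CoThreeM
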