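/-
No homomorphism of the centraliser of `z` is nontrivial on the involution, and some element of it moves `e` to `e z`.
-/
import Cfsg.Agent.CoThreeM.Frame
import Cfsg.Agent.CoThreeM.Transfer
import Cfsg.Agent.M12Cent.Fusion
import Cfsg.Agent.TwoFusion.DihedralByFour

set_option autoImplicit false
set_option linter.unusedSectionVars false
set_option linter.style.haveILetI false
set_option maxRecDepth 10000

namespace Cfsg.Lib.CoThreeM

open Subgroup Cfsg.Lib.M12Cent Cfsg.Lib.PermCert Cfsg.Lib.Golay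

universe u

variable {G : Type u} [Group G] [Finite G]

theorem sm_comm : inS piM = true ∧ inS qM = true ∧ piM * qM * piM⁻¹ * qM⁻¹ = tau := by decide +kernel

namespace Setup

variable (S : Setup G)

/-- a Sylow subgroup of the centraliser of the involution -/
def Pe : Subgroup G where
  carrier := {g | ∃ m ∈ SM, g = S.ψ m ∨ g = S.e * S.ψ m}
  one_mem' := ⟨1, one_mem _, Or.inl (map_one S.ψ).symm⟩
  mul_mem' := by
    rintro a b ⟨m, hm, rfl | rfl⟩ ⟨l, hl, rfl | rfl⟩ <;> refine ⟨m * l, mul_mem hm hl, ?_⟩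
    · exact Or.inl (map_mul _ _ _).symm
    · exact Or.inr (by rw [map_mul, ← mul_assoc, ← S.e_ψ, mul_assoc])
    · exact Or.inr (by rw [map_mul, mul_assoc])
    · exact Or.inl (by rw [map_mul, mul_assoc, ← mul_assoc (S.ψ m), ← S.e_ψ, ← mul_assoc, ← mul_assoc, S.ee,
        one_mul])
  inv_mem' := by
    rintro a ⟨m, hm, rfl | rfl⟩ <;> refine ⟨m⁻¹, inv_mem hm, ?_⟩
    · exact Or.inl (map_inv _ _).symm
    · exact Or.inr (by rw [mul_inv_rev, S.e_inv, ← map_inv, S.e_ψ])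

theorem card_Pe : Nat.card S.Pe = 128 := by
  let f : Bool × SM → S.Pe := fun p => ⟨bif p.1 then S.e * S.ψ p.2 else S.ψ p.2, p.2, p.2.2, by cases p.1 <;> simp⟩
  have hf : Function.Bijective f := by
    constructor
    · rintro ⟨i, a⟩ ⟨j, b⟩ h
      have h' := congrArg Subtype.val h
      cases i <;> cases j <;> simp only [f, cond_true, cond_false] at h'
      · exact Prod.ext rfl (Subtype.ext (S.ψ_inj h'))
      · exact absurd h'.symm (S.ψ_mul_ne _ _)
      · exact absurd h' (S.ψ_mul_ne _ _)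
      · exact Prod.ext rfl (Subtype.ext (S.ψ_inj (mul_left_cancel h')))
    · rintro ⟨g, m, hm, rfl | rfl⟩
      · exact ⟨(false, ⟨m, hm⟩), rfl⟩
      · exact ⟨(true, ⟨m, hm⟩), rfl⟩
  rw [← Nat.card_congr (Equiv.ofBijective f hf), Nat.card_prod, card_SM]
  simp

theorem Pe_le : S.Pe ≤ centralizer ({S.e} : Set G) := by
  rintro g ⟨m, -, rfl | rfl⟩
  · exact mem_centralizer_singleton_iff.2 (S.e_ψ m).symm
  · exact mem_centralizer_singleton_iff.2 (by rw [mul_assoc, ← S.e_ψ])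

theorem e_mem_Pe : S.e ∈ S.Pe := ⟨1, one_mem _, Or.inr (by rw [map_one, mul_one])⟩
theorem ψ_mem_Pe {m : M} (h : inS m = true) : S.ψ m ∈ S.Pe := ⟨m, h, Or.inl rfl⟩
theorem z_mem_Pe : S.z ∈ S.Pe := S.ψ_mem_Pe tau_in_S

theorem card_cent : Nat.card (centralizer ({S.e} : Set G)) = 190080 := by
  let f : Bool × X12 → centralizer ({S.e} : Set G) := fun p => ⟨bif p.1 then S.e * S.φ p.2 else S.φ p.2,
    mem_centralizer_singleton_iff.2 (by
      cases p.1
      · exact (S.comm _).symm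
      · exact (Commute.mul_left (Commute.refl S.e) (S.comm p.2).symm))⟩
  have hf : Function.Bijective f := by
    constructor
    · rintro ⟨i, a⟩ ⟨j, b⟩ h
      have h' := congrArg Subtype.val h
      cases i <;> cases j <;> simp only [f, cond_true, cond_false] at h'
      · exact Prod.ext rfl (S.inj h')
      · exact absurd (show S.φ (a * b⁻¹) = S.e by rw [map_mul, map_inv, h', mul_inv_cancel_right]) (S.notin _)
      · exact absurd (show S.φ (b * a⁻¹) = S.e by rw [map_mul, map_inv, ← h', mul_inv_cancel_right]) (S.notin _)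
      · exact Prod.ext rfl (S.inj (mul_left_cancel h'))
    · rintro ⟨g, hg⟩
      obtain ⟨x, rfl | rfl⟩ := S.cover g (mem_centralizer_singleton_iff.1 hg)
      · exact ⟨(false, x), rfl⟩
      · exact ⟨(true, x), rfl⟩
  rw [← Nat.card_congr (Equiv.ofBijective f hf), Nat.card_prod, card_X12]
  simp

theorem Pe_pgroup : IsPGroup 2 S.Pe := IsPGroup.of_card (n := 7) (by rw [S.card_Pe]; rfl)

theorem Pe_max {H : Subgroup G} (hH : IsPGroup 2 H) (hle : S.Pe ≤ H) (hC : H ≤ centralizer ({S.e} : Set G)) :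
    H = S.Pe := by
  haveI : Fact (Nat.Prime 2) := ⟨Nat.prime_two⟩
  obtain ⟨k, hk⟩ := IsPGroup.iff_card.1 hH
  have h1 : 2 ^ k ∣ 190080 := hk ▸ S.card_cent ▸ Subgroup.card_dvd_of_le hC
  have h2 : k ≤ 7 := by
    by_contra h
    exact absurd (dvd_trans (pow_dvd_pow 2 (show 8 ≤ k by omega)) h1) (by norm_num)
  refine (eq_of_le_of_card_ge hle ?_).symm
  rw [hk, S.card_Pe]
  exact (Nat.pow_le_pow_right (by norm_num) h2).trans (le_of_eq (by norm_num))

theorem cent_Pe {g : G} (h : ∀ x ∈ S.Pe, g * x = x * g) : g = 1 ∨ g = S.z ∨ g = S.e ∨ g = S.e * S.z := by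
  obtain ⟨m, hm⟩ := S.cent_ez (h _ S.e_mem_Pe) (h _ S.z_mem_Pe)
  have hc : ∀ l : M, inS l = true → m * l = l * m := fun l hl => S.ψ_inj (by
    have := h _ (S.ψ_mem_Pe hl)
    rw [map_mul, map_mul]
    rcases hm with rfl | rfl
    · exact this
    · rw [mul_assoc, ← mul_assoc (S.ψ l), ← S.e_ψ, mul_assoc] at this
      exact mul_left_cancel this)
  rcases center_SM m hc with rfl | rfl <;> rcases hm with rfl | rfl
  · exact Or.inl (map_one _)
  · exact Or.inr (Or.inr (Or.inl (by rw [map_one, mul_one])))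
  · exact Or.inr (Or.inl rfl)
  · exact Or.inr (Or.inr (Or.inr rfl))

theorem mem_Pe {g : G} (h : g ∈ S.Pe) : ∃ i m, inS m = true ∧ g = S.E i * S.ψ m := by
  obtain ⟨m, hm, rfl | rfl⟩ := h
  · exact ⟨false, m, hm, (one_mul _).symm⟩
  · exact ⟨true, m, hm, rfl⟩

theorem comm_Pe (i j : Bool) (a b : M) :
    S.E i * S.ψ a * (S.E j * S.ψ b) * (S.E j * S.ψ b * (S.E i * S.ψ a))⁻¹ = S.ψ (a * b * a⁻¹ * b⁻¹) := by
  rw [S.Eψ_mul, S.Eψ_mul, Bool.xor_comm j i, S.E_ψ, S.E_ψ, mul_inv_rev, mul_assoc, mul_inv_cancel_left, ← map_inv,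
    ← map_mul]
  congr 1
  group

theorem z_central_Pe {x : G} (hx : x ∈ S.Pe) : x * S.z = S.z * x := by
  obtain ⟨i, m, -, rfl⟩ := S.mem_Pe hx
  rw [mul_assoc, ← S.z_ψ, ← mul_assoc, ← mul_assoc, z, ← S.E_ψ]

theorem normalizer_fixes_z {g : G} (hg : ∀ x ∈ S.Pe, g * x * g⁻¹ ∈ S.Pe) : g * S.z = S.z * g := by
  obtain ⟨i, a, -, ha⟩ := S.mem_Pe (hg _ (S.ψ_mem_Pe sm_comm.1))
  obtain ⟨j, b, -, hb⟩ := S.mem_Pe (hg _ (S.ψ_mem_Pe sm_comm.2.1))
  have hzc : g * S.z * g⁻¹ = S.ψ (a * b * a⁻¹ * b⁻¹) := by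
    rw [z, ← sm_comm.2.2, ← S.comm_Pe i j a b, ← S.comm_Pe false false piM qM, ← ha, ← hb]
    simp only [E, cond_false, one_mul]
    group
  have heq : S.Pe.map (MulAut.conj g).toMonoidHom = S.Pe := by
    refine eq_of_le_of_card_ge ?_ (le_of_eq (card_map_of_injective (MulAut.conj g).injective).symm)
    rintro _ ⟨x, hx, rfl⟩
    exact hg x hx
  rcases S.cent_Pe (g := g * S.z * g⁻¹) (fun x hx => by
    rw [← heq] at hx
    obtain ⟨y, hy, rfl⟩ := hx
    show g * S.z * g⁻¹ * (g * y * g⁻¹) = g * y * g⁻¹ * (g * S.z * g⁻¹)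
    rw [show g * S.z * g⁻¹ * (g * y * g⁻¹) = g * (S.z * y) * g⁻¹ by group, ← S.z_central_Pe hy]
    group) with h | h | h | h
  · exact absurd (conj_eq_one_iff.1 h) S.z_ne
  · exact mul_inv_eq_iff_eq_mul.1 h
  · exact absurd (hzc.symm.trans h) (S.ψ_ne_e _)
  · exact absurd (hzc.symm.trans h) (fun h' => S.ψ_mul_ne _ _ h'.symm)

theorem exists_sylow_gt : ∃ T : Sylow 2 G, S.Pe ≤ (T : Subgroup G) ∧ (T : Subgroup G) ≠ S.Pe := by
  haveI : Fact (Nat.Prime 2) := ⟨Nat.prime_two⟩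
  obtain ⟨T, hT⟩ := S.Pe_pgroup.exists_le_sylow
  refine ⟨T, hT, fun hTP => ?_⟩
  let P : Subgroup G := SM.map S.ψ
  have hPle : P ≤ (T : Subgroup G) := by
    rintro _ ⟨m, hm, rfl⟩
    exact hT (S.ψ_mem_Pe hm)
  have hP : P.relIndex (T : Subgroup G) = 2 := by
    have h := Subgroup.relIndex_mul_relIndex ⊥ P (T : Subgroup G) bot_le hPle
    simp only [relIndex_bot_left] at h
    rw [hTP, S.card_Pe, card_map_of_injective S.ψ_inj, card_SM] at h
    rw [hTP]
    omega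
  have hord : orderOf S.e = 2 := orderOf_eq_prime (by rw [pow_two, S.ee]) S.e_ne
  obtain ⟨g, hgu, hg⟩ := exists_extremal_conj T hPle hP hord S.res
  have hnorm : ∀ x ∈ S.Pe, g * x * g⁻¹ ∈ S.Pe := fun x hx => hTP ▸ hg x ⟨hT hx, S.Pe_le hx⟩
  have hz := S.normalizer_fixes_z hnorm
  obtain ⟨m, hm, hu⟩ := hgu
  have heq : S.Pe.map (MulAut.conj g).toMonoidHom = S.Pe := by
    refine eq_of_le_of_card_ge ?_ (le_of_eq (card_map_of_injective (MulAut.conj g).injective).symm)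
    rintro _ ⟨x, hx, rfl⟩
    exact hnorm x hx
  rcases S.cent_Pe (g := g * S.e * g⁻¹) (fun x hx => by
    rw [← heq] at hx
    obtain ⟨y, hy, rfl⟩ := hx
    show g * S.e * g⁻¹ * (g * y * g⁻¹) = g * y * g⁻¹ * (g * S.e * g⁻¹)
    rw [show g * S.e * g⁻¹ * (g * y * g⁻¹) = g * (S.e * y) * g⁻¹ by group,
      ← mem_centralizer_singleton_iff.1 (S.Pe_le hy)]
    group) with h | h | h | h
  · exact S.e_ne (conj_eq_one_iff.1 h)
  · have h1 : g * S.e * g⁻¹ = g * S.z * g⁻¹ := h.trans (mul_inv_eq_iff_eq_mul.2 hz).symm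
    exact S.ψ_ne_e tau (mul_left_cancel (mul_right_cancel h1)).symm
  · exact S.ψ_ne_e m (hu.trans h)
  · exact S.ψ_mul_ne tau m (h.symm.trans hu.symm)

theorem sylow_facts {T : Sylow 2 G} (hT : S.Pe ≤ (T : Subgroup G)) :
    (∀ x ∈ (T : Subgroup G), x * S.e = S.e * x → x ∈ S.Pe) ∧
      (∀ x ∈ (T : Subgroup G), x * S.z = S.z * x) ∧
        ∃ w : G, w * S.z = S.z * w ∧ w * S.e * w⁻¹ = S.e * S.z := by
  haveI : Fact (Nat.Prime 2) := ⟨Nat.prime_two⟩
  have hC : ∀ x ∈ (T : Subgroup G), x * S.e = S.e * x → x ∈ S.Pe := fun x hx hxe => by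
    have := S.Pe_max (H := (T : Subgroup G) ⊓ centralizer ({S.e} : Set G)) (T.2.to_le inf_le_left)
      (le_inf hT S.Pe_le) inf_le_right
    exact this ▸ ⟨hx, mem_centralizer_singleton_iff.2 hxe⟩
  obtain ⟨T', hT', hne⟩ := S.exists_sylow_gt
  have hTne : S.Pe ≠ (T : Subgroup G) := fun h => hne (eq_of_le_of_card_ge hT' (by
    rw [h, T.card_eq_multiplicity, T'.card_eq_multiplicity])).symm
  obtain ⟨w, hwT, hwN, hwP⟩ := Cfsg.Lib.DihedralByFour.exists_normalizing T.2 hT hTne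
  have hwn : ∀ x ∈ S.Pe, w * x * w⁻¹ ∈ S.Pe := fun x hx => (mem_normalizer_iff.1 hwN x).1 hx
  have hwz := S.normalizer_fixes_z hwn
  have hwe : w * S.e * w⁻¹ = S.e * S.z := by
    rcases S.cent_Pe (g := w * S.e * w⁻¹) (fun x hx => by
      have hy := (mem_normalizer_iff.1 (inv_mem hwN) x).1 hx
      rw [inv_inv] at hy
      have he := mem_centralizer_singleton_iff.1 (S.Pe_le hy)
      calc w * S.e * w⁻¹ * x = w * (S.e * (w⁻¹ * x * w)) * w⁻¹ := by group
        _ = w * ((w⁻¹ * x * w) * S.e) * w⁻¹ := by rw [he]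
        _ = x * (w * S.e * w⁻¹) := by group) with h | h | h | h
    · exact absurd (conj_eq_one_iff.1 h) S.e_ne
    · have h1 : w * S.e * w⁻¹ = w * S.z * w⁻¹ := h.trans (mul_inv_eq_iff_eq_mul.2 hwz).symm
      exact absurd (mul_left_cancel (mul_right_cancel h1)).symm (S.ψ_ne_e tau)
    · exact absurd (hC w hwT (mul_inv_eq_iff_eq_mul.1 h)) hwP
    · exact h
  refine ⟨hC, ?_, w, hwz, hwe⟩
  haveI : Nontrivial (T : Subgroup G) :=
    (Subgroup.nontrivial_iff_ne_bot _).2 fun h => hTne (le_antisymm hT (h ▸ bot_le))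
  haveI : Nontrivial (center (T : Subgroup G)) := T.2.center_nontrivial
  obtain ⟨⟨c, hcc⟩, hc1⟩ := exists_ne (1 : center (T : Subgroup G))
  have hcT : ∀ x ∈ (T : Subgroup G), x * (c : G) = c * x := fun x hx =>
    congrArg Subtype.val (mem_center_iff.1 hcc ⟨x, hx⟩)
  rcases S.cent_Pe (g := (c : G)) (fun x hx => (hcT x (hT hx)).symm) with h | h | h | h
  · exact absurd (Subtype.ext (Subtype.ext h)) hc1
  · exact fun x hx => h ▸ hcT x hx
  · exact absurd (hC w hwT (h ▸ hcT w hwT)) hwP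
  · exfalso
    have h1 := h ▸ hcT w hwT
    rw [← mul_assoc, show w * S.e = S.e * S.z * w from mul_inv_eq_iff_eq_mul.1 hwe, mul_assoc _ w, hwz,
      ← mul_assoc] at h1
    exact S.z_ne (mul_left_cancel (a := S.e * S.z) (by rw [mul_one]; exact mul_right_cancel h1))

theorem exists_move : ∃ w : G, w * S.z = S.z * w ∧ w * S.e * w⁻¹ = S.e * S.z :=
  let ⟨_, hT, _⟩ := S.exists_sylow_gt
  (S.sylow_facts hT).2.2

theorem not_conj_z (g : G) : g * S.e * g⁻¹ ≠ S.z := by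
  intro h
  haveI : Fact (Nat.Prime 2) := ⟨Nat.prime_two⟩
  obtain ⟨T, hT, hne⟩ := S.exists_sylow_gt
  have hle : (T : Subgroup G).map (MulAut.conj g⁻¹).toMonoidHom ≤ centralizer ({S.e} : Set G) := by
    rintro _ ⟨a, ha, rfl⟩
    refine mem_centralizer_singleton_iff.2 ?_
    show g⁻¹ * a * g⁻¹⁻¹ * S.e = S.e * (g⁻¹ * a * g⁻¹⁻¹)
    rw [inv_inv]
    calc g⁻¹ * a * g * S.e = g⁻¹ * (a * (g * S.e * g⁻¹)) * g := by group
      _ = g⁻¹ * (g * S.e * g⁻¹ * a) * g := by rw [h, (S.sylow_facts hT).2.1 a ha]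
      _ = S.e * (g⁻¹ * a * g) := by group
  obtain ⟨k, hk⟩ := IsPGroup.iff_card.1 T.2
  have hlt : 128 < Nat.card (T : Subgroup G) := by
    rw [← S.card_Pe]
    exact lt_of_not_ge fun hge => hne (eq_of_le_of_card_ge hT hge).symm
  have h1 := Subgroup.card_dvd_of_le hle
  rw [card_map_of_injective (MulAut.conj g⁻¹).injective, hk, S.card_cent] at h1
  rw [hk] at hlt
  have h8 : 8 ≤ k := by
    by_contra h'
    exact absurd (Nat.pow_le_pow_right (show 0 < 2 by norm_num) (show k ≤ 7 by omega)) (by norm_num; omega)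
  exact absurd (dvd_trans (pow_dvd_pow 2 h8) h1) (by norm_num)

theorem e_mem_K : S.e ∈ S.K := mem_centralizer_singleton_iff.2 S.e_z

/-- NO HOMOMORPHISM of the centraliser is nontrivial on the involution. -/
theorem hom_e (χ : ↥S.K →* ℤˣ) : χ ⟨S.e, S.e_mem_K⟩ = 1 := by
  by_contra hne
  haveI : Fact (Nat.Prime 2) := ⟨Nat.prime_two⟩
  have hχ : χ ⟨S.e, S.e_mem_K⟩ = -1 := (Int.units_eq_one_or _).resolve_left hne
  obtain ⟨T, hT, -⟩ := S.exists_sylow_gt
  obtain ⟨hC, hTz, w, -, hwe⟩ := S.sylow_facts hT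
  have hTK : (T : Subgroup G) ≤ S.K := fun x hx => mem_centralizer_singleton_iff.2 (hTz x hx)
  let χT : ↥(T : Subgroup G) →* ℤˣ := χ.comp (Subgroup.inclusion hTK)
  have hχT : χT ⟨S.e, hT S.e_mem_Pe⟩ = -1 := hχ
  have hidx : (χT.ker.map (T : Subgroup G).subtype).relIndex (T : Subgroup G) = 2 := by
    rw [relIndex, ← comap_subtype, comap_map_eq_self_of_injective (subtype_injective _), Subgroup.index_ker]
    have htop : χT.range = ⊤ := eq_top_iff.2 fun x _ => by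
      rcases Int.units_eq_one_or x with rfl | rfl
      · exact one_mem _
      · exact ⟨_, hχT⟩
    rw [htop, Nat.card_congr Subgroup.topEquiv.toEquiv, Nat.card_eq_fintype_card, Fintype.card_units_int]
  have hord : orderOf S.e = 2 := orderOf_eq_prime (by rw [pow_two, S.ee]) S.e_ne
  obtain ⟨g, ⟨⟨u, huT⟩, hker, hu⟩, hg⟩ := exists_extremal_conj T (map_subtype_le _) hidx hord S.res
  change u = g * S.e * g⁻¹ at hu
  have hy : ∀ x ∈ S.Pe, (g⁻¹ * S.z * g) * x = x * (g⁻¹ * S.z * g) := fun x hx => by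
    calc (g⁻¹ * S.z * g) * x = g⁻¹ * (S.z * (g * x * g⁻¹)) * g := by group
      _ = g⁻¹ * ((g * x * g⁻¹) * S.z) * g := by rw [hTz _ (hg x ⟨hT hx, S.Pe_le hx⟩)]
      _ = x * (g⁻¹ * S.z * g) := by group
  have hzu : S.z ≠ u := fun h => S.not_conj_z g (hu.symm.trans h.symm)
  rcases S.cent_Pe (g := g⁻¹ * S.z * g) hy with h | h | h | h
  · exact S.z_ne (by rw [show S.z = g * (g⁻¹ * S.z * g) * g⁻¹ by group, h]; group)
  · have hgK : g ∈ S.K := mem_centralizer_singleton_iff.2 (by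
      calc g * S.z = g * (g⁻¹ * S.z * g) := by rw [h]
        _ = S.z * g := by group)
    have h1 : χ ⟨u, hTK huT⟩ = -1 := by
      rw [show (⟨u, hTK huT⟩ : ↥S.K) = ⟨g, hgK⟩ * ⟨S.e, S.e_mem_K⟩ * ⟨g, hgK⟩⁻¹ from Subtype.ext hu, map_mul,
        map_mul, map_inv, mul_comm (χ _) (χ _), mul_inv_cancel_right, hχ]
    exact absurd ((MonoidHom.mem_ker.1 hker).symm.trans h1) (by decide)
  · exact hzu (by rw [hu, ← h]; group)
  · -- `e z` is conjugate to `e`, hence not to `z`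
    have h1 : g⁻¹ * S.z * g = w * S.e * w⁻¹ := h.trans hwe.symm
    refine S.not_conj_z (g * w) ?_
    calc g * w * S.e * (g * w)⁻¹ = g * (w * S.e * w⁻¹) * g⁻¹ := by group
      _ = S.z := by rw [← h1]; group

end Setup

end Cfsg.Lib.CoThreeM
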