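/-
The element moving `e` to `e z` can be chosen to centralise or to exchange the two quaternion factors.
-/
import Cfsg.Agent.CoThreeM.Extremal
import Cfsg.Agent.CoThreeM.TwistFacts

set_option autoImplicit false
set_option linter.unusedSectionVars false
set_option linter.style.haveILetI false
set_option maxRecDepth 10000

namespace Cfsg.Lib.CoThreeM

open Subgroup Cfsg.Lib.M12Cent

universe u

variable {G : Type u} [Group G] [Finite G]

/-- an element moving `e` to `e z`, fixing `y` and moving `π` by at most `z`, with its action on the model -/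
structure Twist (S : Setup G) where
  /-- the element -/
  w : G
  /-- the twist of `π` -/
  δ : Bool
  /-- whether the two factors are exchanged -/
  sw : Bool
  /-- its action on the model -/
  σ : M →* M
  wz : w * S.z = S.z * w
  we : w * S.e * w⁻¹ = S.e * S.z
  wψ : ∀ m, w * S.ψ m * w⁻¹ = S.ψ (σ m)
  σy : σ yM = yM
  σπ : σ piM = piM * pw δ tau
  σa : σ aM = bif sw then aS else aM
  σb : σ bM = bif sw then bS else bM

theorem σ_gQ (σ : M →* M) (hy : σ yM = yM) (ht : σ tau = tau) (a b : M) (i : Fin 32) :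
    σ (gQ a b yM i) = gQ (σ a) (σ b) yM i := by
  unfold gQ pw
  simp only [map_mul]
  congr 1
  · congr 1
    · congr 1
      · congr 1
        · cases i.val.testBit 0 <;> simp
        · cases i.val.testBit 1 <;> simp [hy]
      · cases i.val.testBit 2 <;> simp
    · cases i.val.testBit 3 <;> simp [hy]
  · cases i.val.testBit 4 <;> simp [ht]

theorem hom_ext {H : Type*} [Group H] (f g : M →* H) (hy : f yM = g yM) (hp : f piM = g piM) (ha : f aM = g aM)
    (hb : f bM = g bM) : f = g := by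
  have ht : f tau = g tau := by
    have h2 : aM * aM = tau := by
      have := relB_base.1
      simp only [relB, Bool.and_eq_true, beq_iff_eq] at this
      exact this.1.1.1.1.1.1.1.1.1
    rw [← h2, map_mul, map_mul, ha]
  refine MonoidHom.ext fun m => ?_
  obtain ⟨i, p, q, rfl, -⟩ := gen_cover m
  have hc : ∀ (b : Bool) (x : M), f x = g x → f (pw b x) = g (pw b x) := fun b x h => by cases b <;> simp [pw, h]
  simp only [gQ, map_mul, map_pow, hy, hc _ _ hp, hc _ _ ha, hc _ _ hb, hc _ _ ht,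
    hc _ _ (show f (yM * aM * yM⁻¹) = g (yM * aM * yM⁻¹) by simp [hy, ha]),
    hc _ _ (show f (yM * bM * yM⁻¹) = g (yM * bM * yM⁻¹) by simp [hy, hb])]

namespace Setup

variable (S : Setup G)

theorem conj_e_of_z {k x : G} (hk : k * S.e = S.e * k) (hx : k * S.z * k⁻¹ = x) : ∃ g, g * S.e * g⁻¹ = S.e * x := by
  obtain ⟨w, -, hw⟩ := S.exists_move
  refine ⟨k * w, ?_⟩
  calc k * w * S.e * (k * w)⁻¹ = k * (w * S.e * w⁻¹) * k⁻¹ := by group
    _ = k * S.e * k⁻¹ * (k * S.z * k⁻¹) := by rw [hw]; group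
    _ = S.e * x := by rw [mul_inv_eq_iff_eq_mul.2 hk, hx]

theorem exists_twist : Nonempty (Twist S) := by
  obtain ⟨w, hwz, hwe⟩ := S.exists_move
  have hmem : ∀ m : M, ∃ m' : M, ∃ i : Bool, w * S.ψ m * w⁻¹ = S.E i * S.ψ m' := fun m => by
    have he : Commute (w * S.ψ m * w⁻¹) (w * (S.e * S.z) * w⁻¹) :=
      (Commute.mul_right (S.e_ψ m).symm (S.z_ψ m).symm).map (MulAut.conj w)
    have h1 : w * (S.e * S.z) * w⁻¹ = S.e := by
      calc w * (S.e * S.z) * w⁻¹ = w * S.e * w⁻¹ * (w * S.z * w⁻¹) := by group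
        _ = S.e * S.z * S.z := by rw [hwe, mul_inv_eq_iff_eq_mul.2 hwz]
        _ = S.e := by rw [mul_assoc, S.zz, mul_one]
    rw [h1] at he
    have hz : Commute (w * S.ψ m * w⁻¹) S.z := by
      have := (show Commute (S.ψ m) S.z from (S.z_ψ m).symm).map (MulAut.conj w)
      simp only [MulAut.conj_apply, mul_inv_eq_iff_eq_mul.2 hwz] at this
      exact this
    obtain ⟨m', hm | hm⟩ := S.cent_ez he hz
    · exact ⟨m', false, by simpa [E] using hm⟩
    · exact ⟨m', true, hm⟩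
  choose σ ε hσ using hmem
  have hmul : ∀ a b, σ (a * b) = σ a * σ b ∧ ε (a * b) = xor (ε a) (ε b) := fun a b => by
    have h : S.E (ε (a * b)) * S.ψ (σ (a * b)) = S.E (xor (ε a) (ε b)) * S.ψ (σ a * σ b) := by
      rw [← S.Eψ_mul, ← hσ, ← hσ, ← hσ, map_mul]; group
    exact ⟨(S.Eψ_inj h).2, (S.Eψ_inj h).1⟩
  let τ : M →* M := MonoidHom.mk' σ fun a b => (hmul a b).1
  have hτ : Function.Injective τ := by
    intro a b h
    have h' : σ a = σ b := h
    have h1 : w * S.ψ (a * b⁻¹) * w⁻¹ = S.E (xor (ε a) (ε b)) := by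
      rw [map_mul, map_inv, show w * (S.ψ a * (S.ψ b)⁻¹) * w⁻¹ = w * S.ψ a * w⁻¹ * (w * S.ψ b * w⁻¹)⁻¹ by group,
        hσ, hσ, h']
      cases ε a <;> cases ε b <;> simp [E, S.e_inv, S.ee]
    rcases Bool.eq_false_or_eq_true (xor (ε a) (ε b)) with hx | hx <;> rw [hx] at h1 <;>
      simp only [E, cond_true, cond_false] at h1
    · exfalso
      have h2 : S.ψ (a * b⁻¹) = S.e * S.z := by
        have h3 : w⁻¹ * S.e * w = S.e * S.z := by
          have h4 : w * (S.e * S.z) * w⁻¹ = S.e := by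
            calc w * (S.e * S.z) * w⁻¹ = w * S.e * w⁻¹ * (w * S.z * w⁻¹) := by group
              _ = S.e * S.z * S.z := by rw [hwe, mul_inv_eq_iff_eq_mul.2 hwz]
              _ = S.e := by rw [mul_assoc, S.zz, mul_one]
          calc w⁻¹ * S.e * w = w⁻¹ * (w * (S.e * S.z) * w⁻¹) * w := by rw [h4]
            _ = _ := by group
        rw [← h3, ← h1]; group
      exact S.ψ_mul_ne tau _ h2.symm
    · rw [conj_eq_one_iff, ← map_one S.ψ] at h1
      exact mul_inv_eq_one.1 (S.ψ_inj h1)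
  have hε1 : ε 1 = false := by
    have := (hmul 1 1).2
    rw [one_mul, Bool.xor_self] at this
    exact this
  have hεc : ∀ a b, ε (a * b * a⁻¹ * b⁻¹) = false := fun a b => by
    have hi : ∀ x, ε x⁻¹ = ε x := fun x => by
      have := (hmul x x⁻¹).2
      rw [mul_inv_cancel, hε1] at this
      revert this; cases ε x <;> cases ε x⁻¹ <;> simp
    rw [(hmul _ _).2, (hmul _ _).2, (hmul _ _).2, hi, hi]
    cases ε a <;> cases ε b <;> rfl
  obtain ⟨hy3, hy1, hp2, hpy, -, -, hac, hbc, hpi, htc⟩ := y_rels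
  -- the three-element is fixed up to conjugation
  obtain ⟨l, hl⟩ := to_yM (τ yM) (by rw [← map_mul, ← map_mul, hy3, map_one])
    (fun h => hy1 (hτ (h.trans (map_one τ).symm)))
  obtain ⟨p, hp⟩ := to_piM (l * τ piM * l⁻¹)
    (by rw [show l * τ piM * l⁻¹ * (l * τ piM * l⁻¹) = l * τ (piM * piM) * l⁻¹ by rw [map_mul]; group, hp2, map_one]; group)
    (by
      rw [← hl]
      calc l * τ piM * l⁻¹ * (l * τ yM * l⁻¹) * (l * τ piM * l⁻¹)⁻¹ = l * τ (piM * yM * piM⁻¹) * l⁻¹ := by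
            rw [map_mul, map_mul, map_inv]; group
        _ = _ := by rw [hpy, map_mul]; group)
  set c := yM ^ p.val * l with hc
  let σ' : M →* M := (MulAut.conj c).toMonoidHom.comp τ
  have hσ'y : σ' yM = yM := by
    show c * τ yM * c⁻¹ = yM
    calc c * τ yM * c⁻¹ = yM ^ p.val * (l * τ yM * l⁻¹) * (yM ^ p.val)⁻¹ := by rw [hc]; group
      _ = yM := by rw [hl, ← pow_succ, pow_succ', mul_inv_cancel_right]
  have hσ'p : σ' piM = piM ∨ σ' piM = piM * tau := by
    have : σ' piM = yM ^ p.val * (l * τ piM * l⁻¹) * (yM ^ p.val)⁻¹ := by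
      show c * τ piM * c⁻¹ = _
      rw [hc]; group
    rw [this]; exact hp
  obtain ⟨δ, hδ⟩ : ∃ δ, σ' piM = piM * pw δ tau := by
    rcases hσ'p with h | h
    · exact ⟨false, by simpa [pw] using h⟩
    · exact ⟨true, h⟩
  have hw'z : S.ψ c * w * S.z = S.z * (S.ψ c * w) := Commute.mul_left (S.z_ψ c).symm hwz
  have hw'e : S.ψ c * w * S.e * (S.ψ c * w)⁻¹ = S.e * S.z := by
    calc S.ψ c * w * S.e * (S.ψ c * w)⁻¹ = S.ψ c * (w * S.e * w⁻¹) * (S.ψ c)⁻¹ := by group
      _ = S.e * S.z := by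
        rw [hwe, mul_inv_eq_iff_eq_mul]
        exact Commute.mul_right (S.e_ψ c).symm (S.z_ψ c).symm
  have hw'ψ : ∀ m, S.ψ c * w * S.ψ m * (S.ψ c * w)⁻¹ = S.E (ε m) * S.ψ (σ' m) := fun m => by
    calc S.ψ c * w * S.ψ m * (S.ψ c * w)⁻¹ = S.ψ c * (w * S.ψ m * w⁻¹) * (S.ψ c)⁻¹ := by group
      _ = _ := by
        rw [hσ, ← mul_assoc, ← S.E_ψ, mul_assoc, mul_assoc, ← map_inv, ← map_mul, ← map_mul, ← mul_assoc c]
        rfl
  have hσ't : σ' tau = tau := by
    refine S.ψ_inj ?_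
    have h := hw'ψ tau
    have ht : ε tau = false := by rw [htc]; exact hεc _ _
    rw [ht, E, cond_false, one_mul] at h
    rw [← h]
    exact mul_inv_eq_iff_eq_mul.2 hw'z
  -- the images of the two generators
  obtain ⟨i, hi⟩ := rel_inQ (σ' aM) (by
      have h := relB_base.1; simp only [relB, Bool.and_eq_true, beq_iff_eq] at h
      rw [← map_mul, h.1.1.1.1.1.1.1.1.1, hσ't]) (by
      have h := relB_base.1; simp only [relB, Bool.and_eq_true, beq_iff_eq] at h
      have e := congrArg σ' h.1.1.1.2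
      simpa only [map_mul, map_inv, hσ'y, hσ't] using e)
  obtain ⟨j, hj⟩ := rel_inQ (σ' bM) (by
      have h := relB_base.1; simp only [relB, Bool.and_eq_true, beq_iff_eq] at h
      rw [← map_mul, h.1.1.1.1.1.1.1.1.2, hσ't]) (by
      have h := relB_base.1; simp only [relB, Bool.and_eq_true, beq_iff_eq] at h
      have e := congrArg σ' h.1.1.2
      simpa only [map_mul, map_inv, hσ'y, hσ't] using e)
  have hσ'inj : Function.Injective σ' := (MulAut.conj c).injective.comp hτ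
  have hfix : ∀ x : M, (x = 1 ∨ x = tau) → σ' x = x := by
    rintro x (rfl | rfl)
    · exact map_one _
    · exact hσ't
  have hrel : relB (piM * pw δ tau) (gQ aM bM yM i) (gQ aM bM yM j) = true := by
    obtain ⟨h, h3⟩ := relB_base
    simp only [relB, Bool.and_eq_true, beq_iff_eq] at h ⊢
    obtain ⟨⟨⟨⟨⟨⟨⟨⟨⟨r1, r2⟩, r3⟩, r4⟩, r5⟩, r6⟩, r7⟩, r8⟩, -⟩, -⟩ := h
    rw [hi, hj, ← hδ]
    refine ⟨⟨⟨⟨⟨⟨⟨⟨⟨?_, ?_⟩, ?_⟩, ?_⟩, ?_⟩, ?_⟩, ?_⟩, ?_⟩, ?_⟩, ?_⟩
    · simpa only [map_mul, hσ't] using congrArg σ' r1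
    · simpa only [map_mul, hσ't] using congrArg σ' r2
    · simpa only [map_mul, map_inv, hσ't] using congrArg σ' r3
    · simpa only [map_mul, map_inv, hσ't] using congrArg σ' r4
    · simpa only [map_mul] using congrArg σ' r5
    · simpa only [map_mul, map_inv, hσ'y] using congrArg σ' r6
    · simpa only [map_mul, map_inv, hσ'y, hσ't] using congrArg σ' r7
    · simpa only [map_mul, map_inv, hσ'y, hσ't] using congrArg σ' r8
    · simpa only [map_mul, map_inv, hσ'y] using hfix _ (h3 _ (Or.inl rfl))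
    · simpa only [map_mul, map_inv, hσ'y] using hfix _ (h3 _ (Or.inr rfl))
  -- no `e` appears
  have hεy : ε yM = false := by
    have h1 := (hmul yM (yM * yM)).2
    rw [hy3, hε1, (hmul yM yM).2, Bool.xor_self, Bool.xor_false] at h1
    exact h1.symm
  have hεp : ε piM = false := by
    by_contra hb
    rw [Bool.not_eq_false] at hb
    have h := hw'ψ piM
    rw [hb, E, cond_true] at h
    obtain ⟨k, hke, hkz⟩ := S.pi_conj
    have hcj : ∃ k', k' * S.e = S.e * k' ∧ k' * S.z * k'⁻¹ = S.ψ (σ' piM) := by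
      rcases hσ'p with h' | h' <;> rw [h']
      · exact ⟨k, hke, hkz⟩
      · refine ⟨S.ψ aM * k, Commute.mul_left (S.e_ψ aM).symm hke, ?_⟩
        rw [← hpi, map_mul, map_mul, map_inv, ← hkz]; group
    obtain ⟨k', hk'e, hk'z⟩ := hcj
    obtain ⟨g, hg⟩ := S.conj_e_of_z hk'e hk'z
    rw [← h, ← hkz] at hg
    refine S.not_conj_z ((S.ψ c * w * k)⁻¹ * g) ?_
    calc (S.ψ c * w * k)⁻¹ * g * S.e * ((S.ψ c * w * k)⁻¹ * g)⁻¹
        = (S.ψ c * w * k)⁻¹ * (g * S.e * g⁻¹) * (S.ψ c * w * k) := by group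
      _ = S.z := by rw [hg]; group
  have hε : ∀ m, ε m = false := by
    have ha : ε aM = false := by rw [hac]; exact hεc _ _
    have hb : ε bM = false := by rw [hbc]; exact hεc _ _
    have ht : ε tau = false := by rw [htc]; exact hεc _ _
    intro m
    obtain ⟨i, k, q, rfl, -⟩ := gen_cover m
    have hpw : ∀ (b : Bool) (x : M), ε x = false → ε (pw b x) = false := fun b x h => by cases b <;> simp [pw, h, hε1]
    have hm2 : ∀ a b, ε a = false → ε b = false → ε (a * b) = false := fun a b h h' => by rw [(hmul a b).2, h, h']; rfl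
    have hpow : ∀ n : ℕ, ε (yM ^ n) = false := fun n => by
      induction n with
      | zero => rw [pow_zero]; exact hε1
      | succ n ih => rw [pow_succ]; exact hm2 _ _ ih hεy
    have hcj : ∀ x, ε x = false → ε (yM * x * yM⁻¹) = false := fun x hx => by
      have := (hmul (yM * x * yM⁻¹) yM).2
      rw [inv_mul_cancel_right, hm2 _ _ hεy hx, hεy, Bool.xor_false] at this
      exact this.symm
    exact hm2 _ _ (hm2 _ _ (hm2 _ _ (hm2 _ _ (hm2 _ _ (hm2 _ _ (hpw _ _ ha) (hpw _ _ (hcj _ ha))) (hpw _ _ hb))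
      (hpw _ _ (hcj _ hb))) (hpw _ _ ht)) (hpow _)) (hpw _ _ hεp)
  rcases rel_solutions δ i j hrel with ⟨e1, e2⟩ | ⟨e1, e2⟩
  · exact ⟨⟨S.ψ c * w, δ, false, σ', hw'z, hw'e, fun m => by rw [hw'ψ, hε m, E, cond_false, one_mul], hσ'y, hδ,
      hi.symm.trans e1, hj.symm.trans e2⟩⟩
  · exact ⟨⟨S.ψ c * w, δ, true, σ', hw'z, hw'e, fun m => by rw [hw'ψ, hε m, E, cond_false, one_mul], hσ'y, hδ,
      hi.symm.trans e1, hj.symm.trans e2⟩⟩

end Setup

end Cfsg.Lib.CoThreeM
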