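/-
The group of elements of `C(z)` moving `e` inside `{e, e z}`; the two factors are not exchanged.
-/
import Cfsg.Agent.CoThreeM.Twist

set_option autoImplicit false
set_option linter.unusedSectionVars false
set_option linter.style.haveILetI false
set_option maxRecDepth 10000

namespace Cfsg.Lib.CoThreeM

open Subgroup Cfsg.Lib.M12Cent

universe u

theorem swap_gen : ∃ i j : Fin 32, gQ aM bM yM i = aS ∧ gQ aS bS yM i = aM ∧ gQ aM bM yM j = bS ∧
    gQ aS bS yM j = bM := by decide +kernel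

/-- the images of the two generators, the exchange at the Boolean -/
def swQ (j : Bool) (i : Fin 32) : M := bif j then gQ aS bS yM i else gQ aM bM yM i

/-- an element of the two-group fixed modulo the centre by a class outside it -/
def fixB (t : Fin 6 × Bool) (i : Fin 32) : Bool :=
  let q := gQ aM bM yM i
  let r := pr 0 t.1 * swQ t.2 i * (pr 0 t.1)⁻¹
  r == q || r == q * tau

theorem class_inner : ∀ (x : M) (i : Fin 32), x * gQ aM bM yM i * x⁻¹ = pr 0 (sp x) * gQ aM bM yM i * (pr 0 (sp x))⁻¹ ∨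
    x * gQ aM bM yM i * x⁻¹ = pr 0 (sp x) * gQ aM bM yM i * (pr 0 (sp x))⁻¹ * tau := by decide +kernel

theorem gen_swap : ∀ i : Fin 32, ∃ k : Fin 32, gQ aM bM yM k = gQ aS bS yM i := by decide +kernel

theorem fix_bounds : ∀ t : Fin 6 × Bool, smul6 t.1 t.1 = 0 → t ≠ (0, false) →
    2 * (Finset.univ.filter fun i : Fin 32 => fixB t i = true).card < 32 ∧
    ∀ t' : Fin 6 × Bool, smul6 t'.1 t'.1 = 0 → t' ≠ (0, false) → t' ≠ t → smul6 t.1 t'.1 = smul6 t'.1 t.1 →
      2 * (Finset.univ.filter fun i : Fin 32 => fixB t i = true ∧ fixB t' i = true).card < 16 := by decide +kernel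

theorem klein_bound : ∀ a b c : Fin 6 × Bool, smul6 a.1 a.1 = 0 → smul6 b.1 b.1 = 0 → smul6 c.1 c.1 = 0 →
    a ≠ (0, false) → b ≠ (0, false) → a ≠ b → smul6 a.1 b.1 = smul6 b.1 a.1 → smul6 a.1 c.1 = smul6 c.1 a.1 →
      smul6 b.1 c.1 = smul6 c.1 b.1 →
      c = (0, false) ∨ c = a ∨ c = b ∨ c = (smul6 a.1 b.1, xor a.2 b.2) := by decide +kernel

variable {G : Type u} [Group G] [Finite G]

theorem Twist.σ_tau {S : Setup G} (T : Twist S) : T.σ tau = tau :=
  S.ψ_inj (by rw [← T.wψ]; exact mul_inv_eq_iff_eq_mul.2 T.wz)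

theorem Twist.σ_q {S : Setup G} (T : Twist S) (i : Fin 32) : T.σ (gQ aM bM yM i) = swQ T.sw i := by
  rw [σ_gQ T.σ T.σy T.σ_tau, T.σa, T.σb]
  cases T.sw <;> rfl

theorem Twist.σσ {S : Setup G} (T : Twist S) (m : M) : T.σ (T.σ m) = m := by
  have h : T.σ.comp T.σ = MonoidHom.id M := by
    refine hom_ext _ _ ?_ ?_ ?_ ?_ <;> simp only [MonoidHom.comp_apply, MonoidHom.id_apply]
    · rw [T.σy, T.σy]
    · rw [T.σπ, map_mul, T.σπ]
      cases T.δ
      · simp [pw]
      · simp [pw, T.σ_tau, mul_assoc, tau_sq.1]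
    · obtain ⟨i, j, h1, h2, -, -⟩ := swap_gen
      rw [T.σa]
      cases hs : T.sw
      · rw [cond_false, T.σa, hs, cond_false]
      · rw [cond_true, ← h1, T.σ_q, hs]; exact h2
    · obtain ⟨i, j, -, -, h1, h2⟩ := swap_gen
      rw [T.σb]
      cases hs : T.sw
      · rw [cond_false, T.σb, hs, cond_false]
      · rw [cond_true, ← h1, T.σ_q, hs]; exact h2
  exact DFunLike.congr_fun h m

namespace Setup

variable (S : Setup G)

theorem exists_flip : ∃ T : Twist S, T.w * T.w = S.z := by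
  obtain ⟨T⟩ := S.exists_twist
  have hwwz : T.w * T.w * S.z = S.z * (T.w * T.w) := Commute.mul_left T.wz T.wz
  have hwinv : T.w⁻¹ * S.e * T.w = S.e * S.z := by
    have h1 : T.w * (S.e * S.z) * T.w⁻¹ = S.e := by
      calc T.w * (S.e * S.z) * T.w⁻¹ = T.w * S.e * T.w⁻¹ * (T.w * S.z * T.w⁻¹) := by group
        _ = S.e * S.z * S.z := by rw [T.we, mul_inv_eq_iff_eq_mul.2 T.wz]
        _ = S.e := by rw [mul_assoc, S.zz, mul_one]
    calc T.w⁻¹ * S.e * T.w = T.w⁻¹ * (T.w * (S.e * S.z) * T.w⁻¹) * T.w := by rw [h1]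
      _ = _ := by group
  have hwwe : T.w * T.w * S.e = S.e * (T.w * T.w) := by
    refine mul_inv_eq_iff_eq_mul.1 ?_
    calc T.w * T.w * S.e * (T.w * T.w)⁻¹ = T.w * (T.w * S.e * T.w⁻¹) * T.w⁻¹ := by group
      _ = (T.w * S.e * T.w⁻¹) * (T.w * S.z * T.w⁻¹) := by
        rw [T.we, show T.w * (S.e * S.z) * T.w⁻¹ = T.w * S.e * T.w⁻¹ * (T.w * S.z * T.w⁻¹) by group, T.we]
      _ = S.e := by rw [T.we, mul_inv_eq_iff_eq_mul.2 T.wz, mul_assoc, S.zz, mul_one]
  obtain ⟨m, hm⟩ := S.cent_ez hwwe hwwz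
  obtain ⟨i, hm⟩ : ∃ i, T.w * T.w = S.E i * S.ψ m := by
    rcases hm with h | h
    · exact ⟨false, by simpa [E] using h⟩
    · exact ⟨true, h⟩
  have hcen : ∀ l : M, m * l = l * m := fun l => by
    have h1 : T.w * T.w * S.ψ l * (T.w * T.w)⁻¹ = S.ψ l := by
      calc T.w * T.w * S.ψ l * (T.w * T.w)⁻¹ = T.w * (T.w * S.ψ l * T.w⁻¹) * T.w⁻¹ := by group
        _ = _ := by rw [T.wψ, T.wψ, T.σσ]
    have h3 := mul_inv_eq_iff_eq_mul.1 h1
    rw [hm, mul_assoc, ← mul_assoc (S.ψ l), ← S.E_ψ, mul_assoc, ← map_mul, ← map_mul] at h3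
    exact S.ψ_inj (mul_left_cancel h3)
  have hi : i = false := by
    cases i
    · rfl
    · exfalso
      have h1 : T.w * (T.w * T.w) * T.w⁻¹ = T.w * T.w := by group
      rw [hm] at h1
      have h2 : T.w * (S.E true * S.ψ m) * T.w⁻¹ = S.E true * S.z * S.ψ (T.σ m) := by
        rw [← T.wψ, E, cond_true, ← T.we]; group
      rw [h1, mul_assoc, z, ← map_mul] at h2
      have h3 : m = tau * T.σ m := S.ψ_inj (mul_left_cancel h2)
      rcases center_SM m (fun y _ => hcen y) with rfl | rfl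
      · rw [map_one, mul_one] at h3; exact tau_sq.2 h3.symm
      · rw [T.σ_tau, tau_sq.1] at h3; exact tau_sq.2 h3
  subst hi
  rw [E, cond_false, one_mul] at hm
  rcases center_SM m (fun y _ => hcen y) with rfl | rfl
  · rw [map_one] at hm
    refine ⟨{ T with w := T.w * S.e, wz := Commute.mul_left T.wz S.e_z, we := ?_, wψ := fun l => ?_ }, ?_⟩
    · rw [← T.we]; group
    · rw [← T.wψ, mul_inv_rev, show T.w * S.e * S.ψ l * (S.e⁻¹ * T.w⁻¹) = T.w * (S.e * S.ψ l * S.e⁻¹) * T.w⁻¹ by group,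
        mul_inv_eq_iff_eq_mul.2 (S.e_ψ l)]
    · show T.w * S.e * (T.w * S.e) = S.z
      calc T.w * S.e * (T.w * S.e) = T.w * T.w * (T.w⁻¹ * S.e * T.w) * S.e := by group
        _ = S.z := by rw [hm, hwinv, one_mul, S.e_z, mul_assoc, S.ee, mul_one]
  · exact ⟨T, hm⟩

end Setup

namespace Twist

variable {S : Setup G} (T : Twist S)

/-- powers of the element -/
def W (j : Bool) : G := bif j then T.w else 1

/-- the action of a power -/
def σp (j : Bool) (m : M) : M := bif j then T.σ m else m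

theorem W_ψ (j : Bool) (m : M) : T.W j * S.ψ m = S.ψ (T.σp j m) * T.W j := by
  cases j
  · simp [W, σp]
  · exact mul_inv_eq_iff_eq_mul.1 (T.wψ m)

theorem W_e (j i : Bool) : T.W j * S.E i = S.E i * S.ψ (pw (j && i) tau) * T.W j := by
  cases j <;> cases i <;> simp [W, Setup.E, pw]
  exact mul_inv_eq_iff_eq_mul.1 T.we

theorem W_W (h : T.w * T.w = S.z) (j k : Bool) : T.W j * T.W k = S.ψ (pw (j && k) tau) * T.W (xor j k) := by
  cases j <;> cases k <;> simp [W, pw]
  exact h

/-- a coded element -/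
def ev (x : Bool × M × Bool) : G := S.E x.1 * S.ψ x.2.1 * T.W x.2.2

/-- the product of codes -/
def mulN (x y : Bool × M × Bool) : Bool × M × Bool :=
  (xor x.1 y.1, x.2.1 * pw (x.2.2 && y.1) tau * T.σp x.2.2 y.2.1 * pw (x.2.2 && y.2.2) tau, xor x.2.2 y.2.2)

theorem ev_mul (h : T.w * T.w = S.z) (x y : Bool × M × Bool) : T.ev x * T.ev y = T.ev (T.mulN x y) := by
  obtain ⟨i, l, j⟩ := x
  obtain ⟨i', l', j'⟩ := y
  show S.E i * S.ψ l * T.W j * (S.E i' * S.ψ l' * T.W j') = S.E (xor i i') * S.ψ _ * T.W (xor j j')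
  calc S.E i * S.ψ l * T.W j * (S.E i' * S.ψ l' * T.W j')
      = S.E i * S.ψ l * ((T.W j * S.E i') * S.ψ l') * T.W j' := by group
    _ = S.E i * (S.ψ l * S.E i') * S.ψ (pw (j && i') tau) * (T.W j * S.ψ l') * T.W j' := by rw [T.W_e]; group
    _ = S.E i * S.E i' * S.ψ l * S.ψ (pw (j && i') tau) * S.ψ (T.σp j l') * (T.W j * T.W j') := by
        rw [T.W_ψ, ← S.E_ψ]; group
    _ = _ := by rw [T.W_W h, S.E_mul]; simp only [mulN, map_mul, mul_assoc]

theorem ev_inj {x y : Bool × M × Bool} (h : T.ev x = T.ev y) : x = y := by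
  obtain ⟨i, l, j⟩ := x
  obtain ⟨i', l', j'⟩ := y
  have hW : ∀ (a b : Bool) (m k : M), S.E a * S.ψ m * T.w = S.E b * S.ψ k → False := fun a b m k h => by
    have hw : T.w = S.E (xor a b) * S.ψ (m⁻¹ * k) := by
      rw [show T.w = (S.E a * S.ψ m)⁻¹ * (S.E b * S.ψ k) by rw [← h]; group, ← S.Eψ_mul]
      congr 1
      rw [mul_inv_rev, ← map_inv, show (S.E a)⁻¹ = S.E a by cases a <;> simp [Setup.E, S.e_inv], S.E_ψ]
    have h2 := T.we
    rw [hw, mul_inv_eq_iff_eq_mul] at h2
    have h3 : Commute (S.E (xor a b) * S.ψ (m⁻¹ * k)) S.e := by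
      refine Commute.mul_left ?_ (S.e_ψ _).symm
      cases xor a b
      · exact Commute.one_left _
      · exact Commute.refl _
    rw [h3.eq, mul_assoc] at h2
    exact S.z_ne (mul_right_cancel (b := S.E (xor a b) * S.ψ (m⁻¹ * k)) (by rw [one_mul]; exact (mul_left_cancel h2).symm))
  cases j <;> cases j' <;> simp only [ev, W, cond_true, cond_false, mul_one] at h
  · obtain ⟨h1, h2⟩ := S.Eψ_inj h; simp [h1, h2]
  · exact (hW _ _ _ _ h.symm).elim
  · exact (hW _ _ _ _ h).elim
  · obtain ⟨h1, h2⟩ := S.Eψ_inj (mul_right_cancel h); simp [h1, h2]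

theorem mem_K0 {x : G} (hz : x * S.z = S.z * x) (he : x * S.e * x⁻¹ = S.e ∨ x * S.e * x⁻¹ = S.e * S.z) :
    ∃ c, x = T.ev c := by
  rcases he with he | he
  · obtain ⟨m, rfl | rfl⟩ := S.cent_ez (mul_inv_eq_iff_eq_mul.1 he) hz
    · exact ⟨(false, m, false), by simp [ev, W, Setup.E]⟩
    · exact ⟨(true, m, false), by simp [ev, W, Setup.E]⟩
  · have hwi : T.w⁻¹ * S.z = S.z * T.w⁻¹ := Commute.inv_left T.wz
    have h1 : T.w⁻¹ * (S.e * S.z) * T.w = S.e := by rw [← T.we]; group
    have hxe : x * T.w⁻¹ * S.e * (x * T.w⁻¹)⁻¹ = S.e := by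
      have h2 : T.w⁻¹ * S.e * T.w = S.e * S.z := by
        calc T.w⁻¹ * S.e * T.w = T.w⁻¹ * (S.e * S.z) * T.w * (T.w⁻¹ * S.z⁻¹ * T.w) := by group
          _ = S.e * S.z := by
            rw [h1, S.z_inv, show T.w⁻¹ * S.z * T.w = S.z by rw [hwi]; group]
      calc x * T.w⁻¹ * S.e * (x * T.w⁻¹)⁻¹ = x * (T.w⁻¹ * S.e * T.w) * x⁻¹ := by group
        _ = x * S.e * x⁻¹ * (x * S.z * x⁻¹) := by rw [h2]; group
        _ = S.e := by rw [he, mul_inv_eq_iff_eq_mul.2 hz, mul_assoc, S.zz, mul_one]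
    obtain ⟨m, hm | hm⟩ := S.cent_ez (mul_inv_eq_iff_eq_mul.1 hxe) (Commute.mul_left hz hwi)
    · exact ⟨(false, m, true), by simp [ev, W, Setup.E, ← hm]⟩
    · exact ⟨(true, m, true), by simp [ev, W, Setup.E, ← hm]⟩

theorem ev_one : T.ev (false, 1, false) = 1 := by simp [ev, W, Setup.E]

theorem ev_z : T.ev (false, tau, false) = S.z := by simp [ev, W, Setup.E]; rfl

theorem not_swap (h : T.w * T.w = S.z) : T.sw = false := by
  classical
  by_contra hs
  rw [Bool.not_eq_false] at hs
  obtain ⟨iv, hiv1, hiv2⟩ := swap_v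
  have hσv : T.σ a6 = a6 := by rw [← hiv1, T.σ_q, hs]; exact hiv2.trans hiv1.symm
  have hwv : T.w * S.v * T.w⁻¹ = S.v := by
    have := T.wψ a6
    rwa [hσv] at this
  set k := S.n * T.w * S.n with hk
  have hnz : S.n * S.z = S.v * S.n := by rw [← S.n_z, mul_assoc, S.nn, mul_one]
  have hkz : k * S.z = S.z * k := by
    rw [hk]
    calc S.n * T.w * S.n * S.z = S.n * (T.w * S.v) * S.n := by rw [mul_assoc, hnz]; group
      _ = S.n * S.v * (T.w * S.n) := by rw [mul_inv_eq_iff_eq_mul.1 hwv]; group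
      _ = S.z * (S.n * T.w * S.n) := by
        rw [show S.n * S.v = S.z * S.n by rw [← S.n_v, mul_assoc, S.nn, mul_one]]; group
  have hke : k * S.e * k⁻¹ = S.e * S.v := by
    have hne : S.n * S.e * S.n = S.e := by rw [← S.e_n, mul_assoc, S.nn, mul_one]
    rw [hk, mul_inv_rev, mul_inv_rev, S.n_inv]
    calc S.n * T.w * S.n * S.e * (S.n * (T.w⁻¹ * S.n)) = S.n * (T.w * (S.n * S.e * S.n) * T.w⁻¹) * S.n := by group
      _ = S.n * S.e * S.n * (S.n * S.z * S.n) := by
        rw [hne, T.we, show S.n * (S.e * S.z) * S.n = S.n * S.e * (S.z * S.n) by group, ← S.e_n]; group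
      _ = S.e * S.v := by rw [hne, S.n_z]
  -- the conjugate of the elementary group of order 64
  let E5 : Bool × Fin 32 → G := fun p => S.E p.1 * S.ψ (gQ aM bM yM p.2)
  have hinjE : Function.Injective E5 := fun a b hab => by
    obtain ⟨h1, h2⟩ := S.Eψ_inj hab
    have hq : ∀ i j : Fin 32, gQ aM bM yM i = gQ aM bM yM j → i = j := by decide +kernel
    exact Prod.ext h1 (hq _ _ h2)
  have hv5 : ∃ i, gQ aM bM yM i = a6 := ⟨iv, hiv1⟩
  have hcomm : ∀ i j : Fin 32, gQ aM bM yM i * gQ aM bM yM j * (gQ aM bM yM i)⁻¹ * (gQ aM bM yM j)⁻¹ = 1 ∨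
      gQ aM bM yM i * gQ aM bM yM j * (gQ aM bM yM i)⁻¹ * (gQ aM bM yM j)⁻¹ = tau := by decide +kernel
  have hsqQ : ∀ i : Fin 32, gQ aM bM yM i * gQ aM bM yM i = 1 ∨ gQ aM bM yM i * gQ aM bM yM i = tau := by
    decide +kernel
  have hkk : ∀ p, ∃ c, k⁻¹ * E5 p * k = T.ev c := fun p => by
    refine T.mem_K0 ?_ ?_
    · have hEz : E5 p * S.z = S.z * E5 p := Commute.mul_left (by
        cases p.1
        · exact Commute.one_left _
        · exact S.e_z) (S.z_ψ _).symm
      exact Commute.mul_left (Commute.mul_left (Commute.inv_left hkz) hEz) hkz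
    · have hEe : E5 p * (S.e * S.v) * (E5 p)⁻¹ = S.e * S.v ∨ E5 p * (S.e * S.v) * (E5 p)⁻¹ = S.e * S.v * S.z := by
        have h1 : S.e * S.v = S.E true * S.ψ (gQ aM bM yM iv) := by rw [hiv1]; rfl
        have h2 : E5 p * (S.e * S.v) * (E5 p)⁻¹ = S.ψ (gQ aM bM yM p.2 * gQ aM bM yM iv * (gQ aM bM yM p.2)⁻¹ *
            (gQ aM bM yM iv)⁻¹) * (S.e * S.v) := by
          rw [h1, ← S.comm_Pe p.1 true]
          simp only [E5]
          group
        rcases hcomm p.2 iv with h3 | h3 <;> rw [h2, h3]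
        · left; rw [map_one, one_mul]
        · right; exact (Commute.mul_right S.e_z.symm (S.z_ψ _)).eq
      have hback : k⁻¹ * (S.e * S.v) * k = S.e := by rw [← hke]; group
      have hzback : k⁻¹ * S.z * k = S.z := by rw [mul_assoc, ← hkz, inv_mul_cancel_left]
      rcases hEe with hp | hp
      · left
        calc k⁻¹ * E5 p * k * S.e * (k⁻¹ * E5 p * k)⁻¹ = k⁻¹ * (E5 p * (k * S.e * k⁻¹) * (E5 p)⁻¹) * k := by group
          _ = _ := by rw [hke, hp, hback]
      · right
        calc k⁻¹ * E5 p * k * S.e * (k⁻¹ * E5 p * k)⁻¹ = k⁻¹ * (E5 p * (k * S.e * k⁻¹) * (E5 p)⁻¹) * k := by group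
          _ = k⁻¹ * (S.e * S.v) * k * (k⁻¹ * S.z * k) := by rw [hke, hp]; group
          _ = _ := by rw [hback, hzback]
  choose c hc using hkk
  let cls : Bool × M × Bool → Fin 6 × Bool := fun x => (sp x.2.1, x.2.2)
  have hsp : ∀ a b : M, sp (a * b) = smul6 (sp a) (sp b) := fun a b => (qp_pr _ _).2
  have hσsp : ∀ m, sp (T.σ m) = sp m := fun m => by
    obtain ⟨i, p, q, rfl, -⟩ := gen_cover m
    have h0 : ∀ i : Fin 32, sp (gQ aM bM yM i) = 0 ∧ sp (gQ aS bS yM i) = 0 := by decide +kernel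
    have hfin : ∀ (q δ : Bool), sp (pw q (piM * pw δ tau)) = sp (pw q piM) := by decide +kernel
    rw [hsp, hsp, map_mul, map_mul, hsp, hsp, T.σ_q, hs, (h0 i).1, show sp (swQ true i) = 0 from (h0 i).2, map_pow,
      T.σy]
    congr 1
    cases q
    · simp [pw]
    · rw [show pw true piM = piM from rfl, T.σπ]; exact hfin true T.δ
  have hcls : ∀ a b, cls (T.mulN a b) = (smul6 (cls a).1 (cls b).1, xor (cls a).2 (cls b).2) := fun a b => by
    obtain ⟨i, l, j⟩ := a
    obtain ⟨i', l', j'⟩ := b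
    have ht : ∀ (q : Bool) (s : Fin 6), smul6 s (sp (pw q tau)) = s := by decide +kernel
    refine Prod.ext ?_ rfl
    show sp (l * pw (j && i') tau * T.σp j l' * pw (j && j') tau) = smul6 (sp l) (sp l')
    rw [hsp, hsp, hsp, ht, ht]
    cases j <;> simp [Twist.σp, hσsp]
  let f : Bool × Fin 32 → Fin 6 × Bool := fun p => cls (c p)
  have hf_sq : ∀ p, smul6 (f p).1 (f p).1 = 0 := fun p => by
    have h2 : E5 p * E5 p = T.ev (false, gQ aM bM yM p.2 * gQ aM bM yM p.2, false) := by
      simp only [E5, S.Eψ_mul, Bool.xor_self]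
      simp [Twist.ev, W, Setup.E]
    have h3 : T.ev (c p) * T.ev (c p) = E5 p * E5 p := by
      rw [← hc]
      calc k⁻¹ * E5 p * k * (k⁻¹ * E5 p * k) = k⁻¹ * (E5 p * E5 p) * k := by group
        _ = _ := by
          rw [h2]
          have hz' : ∀ g : G, (g = 1 ∨ g = S.z) → k⁻¹ * g * k = g := by
            rintro g (rfl | rfl)
            · group
            · rw [mul_assoc, ← hkz, inv_mul_cancel_left]
          refine hz' _ ?_
          rcases hsqQ p.2 with hq | hq <;> rw [hq]
          · exact Or.inl T.ev_one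
          · exact Or.inr T.ev_z
    rw [T.ev_mul h, h2] at h3
    have h4 := congrArg (fun x => (cls x).1) (T.ev_inj h3)
    simp only [hcls] at h4
    rw [h4]
    rcases hsqQ p.2 with hq | hq <;> rw [hq] <;> rfl
  have hf_comm : ∀ p q, smul6 (f p).1 (f q).1 = smul6 (f q).1 (f p).1 := fun p q => by
    have h2 : ∃ b : Bool, E5 p * E5 q = T.ev (false, pw b tau, false) * (E5 q * E5 p) := by
      rcases hcomm p.2 q.2 with hq | hq
      · refine ⟨false, ?_⟩
        rw [show T.ev (false, pw false tau, false) = 1 from T.ev_one, one_mul]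
        have h5 := S.comm_Pe p.1 q.1 (gQ aM bM yM p.2) (gQ aM bM yM q.2)
        rw [hq, map_one] at h5
        exact mul_inv_eq_one.1 h5
      · refine ⟨true, ?_⟩
        rw [show T.ev (false, pw true tau, false) = S.z from T.ev_z]
        have h5 := S.comm_Pe p.1 q.1 (gQ aM bM yM p.2) (gQ aM bM yM q.2)
        rw [hq] at h5
        exact mul_inv_eq_iff_eq_mul.1 h5
    obtain ⟨b, hb⟩ := h2
    have h3 : T.ev (c p) * T.ev (c q) = T.ev (false, pw b tau, false) * (T.ev (c q) * T.ev (c p)) := by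
      have hkb : k⁻¹ * T.ev (false, pw b tau, false) * k = T.ev (false, pw b tau, false) := by
        cases b
        · rw [show T.ev (false, pw false tau, false) = 1 from T.ev_one]; group
        · rw [show T.ev (false, pw true tau, false) = S.z from T.ev_z, mul_assoc, ← hkz, inv_mul_cancel_left]
      rw [← hc, ← hc]
      calc k⁻¹ * E5 p * k * (k⁻¹ * E5 q * k) = k⁻¹ * (E5 p * E5 q) * k := by group
        _ = k⁻¹ * T.ev (false, pw b tau, false) * k * (k⁻¹ * E5 q * k * (k⁻¹ * E5 p * k)) := by rw [hb]; group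
        _ = _ := by rw [hkb]
    rw [T.ev_mul h, T.ev_mul h, T.ev_mul h] at h3
    have h4 := congrArg (fun x => (cls x).1) (T.ev_inj h3)
    simp only [hcls] at h4
    show smul6 (cls (c p)).1 (cls (c q)).1 = smul6 (cls (c q)).1 (cls (c p)).1
    rw [h4]
    have : ∀ (b : Bool) (s : Fin 6), smul6 (sp (pw b tau)) s = s := by decide +kernel
    exact this b _
  -- each class fibre is inside the common fixed points
  have hA0 : ∀ q, f q = (0, false) → ∃ i, (c q).2.1 = gQ aM bM yM i := fun q hq => by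
    obtain ⟨i, p, b, hm, hpb⟩ := gen_cover (c q).2.1
    have hs0 : inQ (c q).2.1 = true := by
      have h1 : sp (c q).2.1 = 0 := congrArg Prod.fst hq
      simp [inQ, h1]
    obtain ⟨h1, h2⟩ := hpb hs0
    refine ⟨i, ?_⟩
    rw [← hm, h1, h2]
    simp [pw]
  have hfix : ∀ p q i, f q = (0, false) → (c q).2.1 = gQ aM bM yM i → fixB (f p) i = true := by
    intro p q i hq hi
    have h2 : ∃ b : Bool, E5 p * E5 q = T.ev (false, pw b tau, false) * (E5 q * E5 p) := by
      have h5 := S.comm_Pe p.1 q.1 (gQ aM bM yM p.2) (gQ aM bM yM q.2)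
      rcases hcomm p.2 q.2 with hc' | hc'
      · refine ⟨false, ?_⟩
        rw [hc', map_one] at h5
        rw [show T.ev (false, pw false tau, false) = 1 from T.ev_one, one_mul]
        exact mul_inv_eq_one.1 h5
      · refine ⟨true, ?_⟩
        rw [hc'] at h5
        rw [show T.ev (false, pw true tau, false) = S.z from T.ev_z]
        exact mul_inv_eq_iff_eq_mul.1 h5
    obtain ⟨b, hb⟩ := h2
    have h3 : T.ev (c p) * T.ev (c q) = T.ev (false, pw b tau, false) * (T.ev (c q) * T.ev (c p)) := by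
      have hkb : k⁻¹ * T.ev (false, pw b tau, false) * k = T.ev (false, pw b tau, false) := by
        cases b
        · rw [show T.ev (false, pw false tau, false) = 1 from T.ev_one]; group
        · rw [show T.ev (false, pw true tau, false) = S.z from T.ev_z, mul_assoc, ← hkz, inv_mul_cancel_left]
      rw [← hc, ← hc]
      calc k⁻¹ * E5 p * k * (k⁻¹ * E5 q * k) = k⁻¹ * (E5 p * E5 q) * k := by group
        _ = k⁻¹ * T.ev (false, pw b tau, false) * k * (k⁻¹ * E5 q * k * (k⁻¹ * E5 p * k)) := by rw [hb]; group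
        _ = _ := by rw [hkb]
    rw [T.ev_mul h, T.ev_mul h, T.ev_mul h] at h3
    have h4 := congrArg (fun x => x.2.1) (T.ev_inj h3)
    have hj : (c q).2.2 = false := congrArg Prod.snd hq
    simp only [mulN, hj, Bool.false_and, hi] at h4
    set j := (c p).2.2
    set l := (c p).2.1
    -- modulo the centre
    have hmod : l * T.σp j (gQ aM bM yM i) * l⁻¹ = gQ aM bM yM i ∨
        l * T.σp j (gQ aM bM yM i) * l⁻¹ = gQ aM bM yM i * tau := by
      have hc' : ∀ (x : Bool) (w : M), w * pw x tau = pw x tau * w := fun x w => by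
        cases x
        · simp [pw]
        · exact (tau_central w).symm
      have hpp : ∀ x y : Bool, pw x tau * pw y tau = pw (xor x y) tau := fun x y => by
        cases x <;> cases y <;> simp [pw, tau_sq.1]
      have hp0 : pw false tau = 1 := rfl
      simp only [Bool.and_false, hp0, mul_one, one_mul, Twist.σp, cond_false] at h4
      change l * pw (j && (c q).1) tau * T.σp j (gQ aM bM yM i) = pw b tau * (gQ aM bM yM i * l) at h4
      rw [hc' _ l, mul_assoc, ← eq_inv_mul_iff_mul_eq] at h4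
      rw [h4]
      have hinv : ∀ x : Bool, (pw x tau)⁻¹ = pw x tau := fun x => by
        cases x
        · simp [pw]
        · exact inv_eq_of_mul_eq_one_right tau_sq.1
      rw [hinv, ← mul_assoc (pw _ tau), hpp]
      have : ∀ x : Bool, pw x tau * (gQ aM bM yM i * l) * l⁻¹ = gQ aM bM yM i * pw x tau := fun x => by
        rw [← mul_assoc, mul_inv_cancel_right, hc']
      rw [this]
      cases xor (j && (c q).1) b <;> simp [pw]
    have hsw : T.σp j (gQ aM bM yM i) = swQ j i := by
      cases j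
      · rfl
      · show T.σ _ = _
        rw [T.σ_q, hs]
    rw [hsw] at hmod
    obtain ⟨i', hi'⟩ : ∃ i', gQ aM bM yM i' = swQ j i := by
      cases j
      · exact ⟨i, rfl⟩
      · exact gen_swap i
    rw [← hi'] at hmod
    have hgoal : pr 0 (sp l) * swQ j i * (pr 0 (sp l))⁻¹ = gQ aM bM yM i ∨
        pr 0 (sp l) * swQ j i * (pr 0 (sp l))⁻¹ = gQ aM bM yM i * tau := by
      rw [← hi']
      rcases class_inner l i' with hl | hl <;> rw [hl] at hmod
      · exact hmod
      · rcases hmod with hm | hm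
        · right
          rw [← hm, mul_assoc _ tau, tau_sq.1, mul_one]
        · exact Or.inl (mul_right_cancel hm)
    show fixB (sp l, j) i = true
    simp only [fixB, Bool.or_eq_true, beq_iff_eq]
    exact hgoal
  -- the kernel of the class map
  let A0 := Finset.univ.filter fun q => f q = (0, false)
  let img := Finset.univ.image f
  have hrep : ∀ t, ∃ p : Bool × Fin 32, t ∈ img → f p = t := fun t => by
    by_cases ht : t ∈ img
    · obtain ⟨p, -, hp⟩ := Finset.mem_image.1 ht
      exact ⟨p, fun _ => hp⟩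
    · exact ⟨(false, 0), fun h => absurd h ht⟩
  choose rep hrep using hrep
  have hdiv : ∀ i j : Fin 32, ∃ k : Fin 32, gQ aM bM yM i * gQ aM bM yM k = gQ aM bM yM j := by decide +kernel
  have hquot : ∀ p p' : Bool × Fin 32, ∃ r, E5 p * E5 r = E5 p' := fun p p' => by
    obtain ⟨r, hr⟩ := hdiv p.2 p'.2
    refine ⟨(xor p.1 p'.1, r), ?_⟩
    show S.E p.1 * S.ψ _ * (S.E (xor p.1 p'.1) * S.ψ _) = _
    rw [S.Eψ_mul, hr, ← Bool.xor_assoc, Bool.xor_self, Bool.false_xor]
  choose quo hquo using hquot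
  have hf_mul : ∀ p r, cls (T.mulN (c p) (c r)) = cls (c p) → f r = (0, false) := fun p r hpr => by
    rw [hcls] at hpr
    have : ∀ (a b : Fin 6 × Bool), (smul6 a.1 b.1, xor a.2 b.2) = a → b = (0, false) := by decide +kernel
    exact this _ _ hpr
  have hq0 : ∀ p p', f p = f p' → f (quo p p') = (0, false) := fun p p' hpp => by
    refine hf_mul p _ ?_
    have h1 : T.ev (T.mulN (c p) (c (quo p p'))) = T.ev (c p') := by
      rw [← T.ev_mul h, ← hc, ← hc, ← hc, ← hquo p p']; group
    rw [T.ev_inj h1]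
    exact hpp.symm
  have hcount : (Finset.univ : Finset (Bool × Fin 32)).card ≤ (img ×ˢ A0).card := by
    refine Finset.card_le_card_of_injOn (fun p => (f p, quo (rep (f p)) p)) (fun p _ => ?_) ?_
    · simp only [Finset.coe_product, Set.mem_prod, Finset.mem_coe, img, A0, Finset.mem_filter, Finset.mem_image]
      exact ⟨⟨p, Finset.mem_univ _, rfl⟩, Finset.mem_univ _, hq0 _ _ (hrep _ (Finset.mem_image_of_mem f (Finset.mem_univ p)))⟩
    · intro p _ p' _ hpp
      obtain ⟨h1, h2⟩ := Prod.ext_iff.1 hpp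
      refine hinjE ?_
      rw [← hquo (rep (f p)) p, ← hquo (rep (f p')) p']
      simp only at h1 h2
      rw [h2, h1]
  simp only [Finset.card_univ, Fintype.card_prod, Fintype.card_bool, Fintype.card_fin, Finset.card_product] at hcount
  have hA : ∀ P : Fin 32 → Bool, (∀ q i, f q = (0, false) → (c q).2.1 = gQ aM bM yM i → P i = true) →
      A0.card ≤ 2 * (Finset.univ.filter fun i => P i = true).card := fun P hP => by
    have hA0' : ∀ q, ∃ i, f q = (0, false) → (c q).2.1 = gQ aM bM yM i := fun q => by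
      by_cases hq : f q = (0, false)
      · obtain ⟨i, hi⟩ := hA0 q hq
        exact ⟨i, fun _ => hi⟩
      · exact ⟨0, fun h => absurd h hq⟩
    choose idx hidx using hA0'
    have h1 : A0.card ≤ ((Finset.univ : Finset Bool) ×ˢ (Finset.univ.filter fun i => P i = true)).card := by
      refine Finset.card_le_card_of_injOn (fun q => ((c q).1, idx q)) (fun q hq => ?_) ?_
      · simp only [A0, Finset.coe_filter, Finset.mem_univ, true_and, Set.mem_setOf_eq] at hq
        simp only [Finset.coe_product, Set.mem_prod, Finset.coe_univ, Set.mem_univ, true_and, Finset.coe_filter,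
          Finset.mem_univ, Set.mem_setOf_eq]
        exact hP q _ hq (hidx q hq)
      · intro q hq q' hq' hqq
        simp only [A0, Finset.coe_filter, Finset.mem_univ, true_and, Set.mem_setOf_eq] at hq hq'
        obtain ⟨h1, h2⟩ := Prod.ext_iff.1 hqq
        simp only at h1 h2
        refine hinjE (mul_left_cancel (a := k⁻¹) (mul_right_cancel (b := k) ?_))
        rw [hc, hc]
        congr 1
        refine Prod.ext h1 (Prod.ext ?_ ?_)
        · rw [hidx q hq, hidx q' hq', h2]
        · rw [show (c q).2.2 = false from congrArg Prod.snd hq, show (c q').2.2 = false from congrArg Prod.snd hq']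
    simpa using h1
  by_cases hall : ∀ p, f p = (0, false)
  · -- `k` would normalise the group of order 64, but `e v` is not central in it
    have hsub : ∀ p, ∃ r, k⁻¹ * E5 p * k = E5 r := fun p => by
      obtain ⟨i, hi⟩ := hA0 p (hall p)
      refine ⟨((c p).1, i), ?_⟩
      rw [hc]
      show S.E (c p).1 * S.ψ (c p).2.1 * T.W (c p).2.2 = _
      rw [hi, show (c p).2.2 = false from congrArg Prod.snd (hall p)]
      simp [W, E5]
    choose g hg using hsub
    have hgbij : Function.Bijective g := Finite.injective_iff_bijective.1 fun a b hab => hinjE (by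
      have h1 : k⁻¹ * E5 a * k = k⁻¹ * E5 b * k := by rw [hg, hg, hab]
      exact mul_left_cancel (mul_right_cancel h1))
    obtain ⟨i4, hi4⟩ : ∃ i, gQ aM bM yM i = nM := by decide +kernel
    have h1 : Commute (E5 (false, i4)) (S.e * S.v) := by
      have h2 : ∀ r, Commute (E5 r) S.e := fun r => Commute.mul_left (by
        cases r.1
        · exact Commute.one_left _
        · exact Commute.refl _) (S.e_ψ _).symm
      have h3 := (h2 (g (false, i4))).map (MulAut.conj k)
      simp only [MulAut.conj_apply, hke, ← hg] at h3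
      simpa [mul_assoc] using h3
    have h4 : S.ψ nM * S.ψ a6 = S.ψ a6 * S.ψ nM := by
      have h5 : Commute (S.ψ nM) (S.e * (S.e * S.v)) := by
        refine Commute.mul_right (S.e_ψ _).symm ?_
        simpa [E5, Setup.E, hi4] using h1
      rwa [← mul_assoc, S.ee, one_mul] at h5
    rw [← map_mul, ← map_mul] at h4
    exact absurd (S.ψ_inj h4) (by decide +kernel)
  push Not at hall
  obtain ⟨p1, hp1⟩ := hall
  obtain ⟨hb1, hb2⟩ := fix_bounds (f p1) (hf_sq p1) hp1
  by_cases htwo : ∀ p, f p = (0, false) ∨ f p = f p1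
  · have himg : img.card ≤ 2 := by
      refine (Finset.card_le_card (t := {(0, false), f p1}) fun t ht => ?_).trans Finset.card_le_two
      obtain ⟨p, -, rfl⟩ := Finset.mem_image.1 ht
      rcases htwo p with e | e <;> simp [e]
    have := hA (fun i => fixB (f p1) i) fun q i hq hi => hfix p1 q i hq hi
    have h64 := hcount.trans (Nat.mul_le_mul himg this)
    omega
  push Not at htwo
  obtain ⟨p2, hp2, hp12⟩ := htwo
  have himg : img.card ≤ 4 := by
    refine (Finset.card_le_card (t := {(0, false), f p1, f p2, (smul6 (f p1).1 (f p2).1, xor (f p1).2 (f p2).2)})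
      fun t ht => ?_).trans Finset.card_le_four
    obtain ⟨p, -, rfl⟩ := Finset.mem_image.1 ht
    rcases klein_bound _ _ _ (hf_sq p1) (hf_sq p2) (hf_sq p) hp1 hp2 (Ne.symm hp12) (hf_comm p1 p2) (hf_comm p1 p)
      (hf_comm p2 p) with e | e | e | e <;> rw [e] <;> simp
  have := hA (fun i => fixB (f p1) i && fixB (f p2) i) fun q i hq hi => by
    simp [hfix p1 q i hq hi, hfix p2 q i hq hi]
  have h2 := hb2 (f p2) (hf_sq p2) hp2 hp12 (hf_comm p1 p2)
  simp only [Bool.and_eq_true] at this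
  have h64 := hcount.trans (Nat.mul_le_mul himg this)
  omega

end Twist

/-- an element `f` with square `z` moving `e` to `e z`, centralising the two-group and `y` -/
structure Flip (S : Setup G) extends Twist S where
  ww : w * w = S.z
  nsw : sw = false

theorem Setup.exists_Flip (S : Setup G) : Nonempty (Flip S) := by
  obtain ⟨T, hT⟩ := S.exists_flip
  exact ⟨{ T with ww := hT, nsw := T.not_swap hT }⟩

end Cfsg.Lib.CoThreeM
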