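/-
The extraspecial group `R` of order 128, and the action of the elements of `C(z)` normalising it.
-/
import Cfsg.Agent.CoThreeM.Flip
import Cfsg.Agent.CoThreeM.RadModel

set_option autoImplicit false
set_option linter.unusedSectionVars false
set_option linter.style.haveILetI false
set_option maxRecDepth 10000

namespace Cfsg.Lib.CoThreeM

open Subgroup Cfsg.Lib.M12Cent

universe u

theorem inQ_mul (a b : M) : sp (a * b) = smul6 (sp a) (sp b) := (qp_pr _ _).2

theorem chi_q : ∀ i : Fin 32, chi (gQ aM bM yM i) = false := by decide +kernel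

theorem chi_vals : chi yM = false ∧ chi piM = true ∧ chi aM = false ∧ chi bM = false ∧ chi tau = false := by
  decide +kernel

theorem qrep_facts : ∀ a : Fin 64, inQ (qrep a) = true := by decide +kernel

theorem tau_sp : sp (tau : M) = 0 ∧ sp (1 : M) = 0 := by decide +kernel

/-- the twist as a homomorphism -/
def twHom (δ : Bool) : M →* M :=
  MonoidHom.mk' (tw δ) fun a b => by
    have hc : ∀ (x : Bool) (w : M), w * pw x tau = pw x tau * w := fun x w => by
      cases x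
      · simp [pw]
      · exact (tau_central w).symm
    have hp : ∀ x y : Bool, pw x tau * pw y tau = pw (xor x y) tau := fun x y => by
      cases x <;> cases y <;> simp [pw, tau_sq.1]
    show a * b * pw (δ && chi (a * b)) tau = a * pw (δ && chi a) tau * (b * pw (δ && chi b) tau)
    rw [chi_hom, mul_assoc a (pw (δ && chi a) tau), ← mul_assoc (pw _ tau) b, ← hc, mul_assoc b, hp,
      show xor (δ && chi a) (δ && chi b) = (δ && xor (chi a) (chi b)) by
        cases δ <;> cases chi a <;> cases chi b <;> rfl]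
    simp only [mul_assoc]

variable {G : Type u} [Group G] [Finite G] {S : Setup G}

namespace Flip

variable (F : Flip S)

theorem σ_eq (m : M) : F.σ m = tw F.δ m := by
  obtain ⟨hy, hp, ha, hb, -⟩ := chi_vals
  have h : F.σ = twHom F.δ := by
    refine hom_ext _ _ ?_ ?_ ?_ ?_
    · show F.σ yM = tw F.δ yM
      rw [F.σy, tw, hy]; simp [pw]
    · show F.σ piM = tw F.δ piM
      rw [F.σπ, tw, hp, Bool.and_true]
    · show F.σ aM = tw F.δ aM
      rw [F.σa, F.nsw, tw, ha]; simp [pw]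
    · show F.σ bM = tw F.δ bM
      rw [F.σb, F.nsw, tw, hb]; simp [pw]
  rw [h]; rfl

theorem mulN_eq (x y : Bool × M × Bool) : F.toTwist.mulN x y = mulD F.δ x y := by
  obtain ⟨i, l, j⟩ := x
  cases j <;> simp [Twist.mulN, mulD, Twist.σp, F.σ_eq]

theorem ev_mulD (x y : Bool × M × Bool) : F.ev x * F.ev y = F.ev (mulD F.δ x y) := by
  rw [F.ev_mul F.ww, F.mulN_eq]

theorem ev_tC (c : Bool) : F.ev (tC c) = S.ψ (pw c tau) := by simp [Twist.ev, tC, Twist.W, Setup.E]

theorem ev_tC_mul (x : Bool × M × Bool) (c : Bool) : F.ev (mulD false x (tC c)) = F.ev x * F.ev (tC c) := by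
  rw [F.ev_mulD]
  congr 1
  obtain ⟨i, l, j⟩ := x
  have hc : ∀ δ : Bool, tw δ (pw c tau) = pw c tau := fun δ => by
    cases c <;> cases δ <;> decide +kernel
  cases j <;> simp [mulD, tC, hc]

/-- the element of a code -/
def rR (a : Fin 64) : G := F.ev (rC a)

theorem tC_central (c : Bool) (g : G) (hg : g * S.z = S.z * g) : g * F.ev (tC c) = F.ev (tC c) * g := by
  rw [ev_tC]
  cases c
  · simp [pw]
  · exact hg

theorem rR_z (a : Fin 64) : F.rR a * S.z = S.z * F.rR a := by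
  refine Commute.mul_left (Commute.mul_left ?_ (S.z_ψ _).symm) ?_
  · cases (rC a).1
    · exact Commute.one_left _
    · exact S.e_z
  · cases (rC a).2.2
    · exact Commute.one_left _
    · exact F.wz

/-- `x` lies in the coset of the code modulo `⟨z⟩` -/
def RC (a : Fin 64) (x : G) : Prop := ∃ c, x = F.rR a * F.ev (tC c)

theorem RC_z {a : Fin 64} {x : G} (h : F.RC a x) : x * S.z = S.z * x := by
  obtain ⟨c, rfl⟩ := h
  refine Commute.mul_left (F.rR_z a) ?_
  rw [ev_tC]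
  exact (S.z_ψ _).symm

theorem tC_mul (c d : Bool) : F.ev (tC c) * F.ev (tC d) = F.ev (tC (xor c d)) := by
  rw [ev_tC, ev_tC, ev_tC, ← map_mul]
  congr 1
  cases c <;> cases d <;> simp [pw, tau_sq.1]

theorem RC_mul {a b : Fin 64} {x y : G} (hx : F.RC a x) (hy : F.RC b y) : F.RC (x6 a b) (x * y) := by
  obtain ⟨c, rfl⟩ := hx
  obtain ⟨d, rfl⟩ := hy
  obtain ⟨k, hk⟩ := rC_mul F.δ a b
  refine ⟨xor (xor k c) d, ?_⟩
  calc F.rR a * F.ev (tC c) * (F.rR b * F.ev (tC d)) = F.rR a * (F.ev (tC c) * F.rR b) * F.ev (tC d) := by group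
    _ = F.rR a * F.rR b * (F.ev (tC c) * F.ev (tC d)) := by rw [← F.tC_central c _ (F.rR_z b)]; group
    _ = _ := by
      rw [rR, rR, F.ev_mulD, hk, ← F.ev_mulD, F.tC_mul, mul_assoc, F.tC_mul, ← Bool.xor_assoc]; rfl

theorem RC_sq {a : Fin 64} {x : G} (hx : F.RC a x) : x * x = F.ev (tC (q6 a)) := by
  obtain ⟨c, rfl⟩ := hx
  calc F.rR a * F.ev (tC c) * (F.rR a * F.ev (tC c)) = F.rR a * (F.ev (tC c) * F.rR a) * F.ev (tC c) := by group
    _ = F.rR a * F.rR a * (F.ev (tC c) * F.ev (tC c)) := by rw [← F.tC_central c _ (F.rR_z a)]; group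
    _ = _ := by rw [rR, F.ev_mulD, rC_sq, F.tC_mul, F.tC_mul]; simp

theorem RC_comm {a b : Fin 64} {x y : G} (hx : F.RC a x) (hy : F.RC b y) :
    x * y = F.ev (tC (B6 a b)) * (y * x) := by
  obtain ⟨c, rfl⟩ := hx
  obtain ⟨d, rfl⟩ := hy
  have h : F.rR a * F.rR b = F.ev (tC (B6 a b)) * (F.rR b * F.rR a) := by
    simp only [rR, F.ev_mulD]
    rw [rC_comm]
  calc F.rR a * F.ev (tC c) * (F.rR b * F.ev (tC d)) = F.rR a * (F.ev (tC c) * F.rR b) * F.ev (tC d) := by group
    _ = F.rR a * F.rR b * (F.ev (tC c) * F.ev (tC d)) := by rw [← F.tC_central c _ (F.rR_z b)]; group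
    _ = F.ev (tC (B6 a b)) * (F.rR b * (F.rR a * F.ev (tC d)) * F.ev (tC c)) := by
      rw [h, F.tC_mul c d, Bool.xor_comm c d, ← F.tC_mul]; group
    _ = _ := by rw [F.tC_central d _ (F.rR_z a)]; group

theorem RC_inj {a b : Fin 64} {x : G} (hx : F.RC a x) (hy : F.RC b x) : a = b := by
  obtain ⟨c, rfl⟩ := hx
  obtain ⟨d, hd⟩ := hy
  have h : F.rR a = F.rR b * F.ev (tC (xor d c)) := by
    rw [← F.tC_mul, ← mul_assoc, ← hd, mul_assoc, F.tC_mul, Bool.xor_self, F.ev_tC]
    simp [pw]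
  rw [rR, rR, ← F.ev_tC_mul] at h
  exact (rC_inj a b _ (F.ev_inj h)).1

theorem RC_one : F.RC 0 1 := ⟨false, by rw [rR, rC_zero.1, F.tC_mul, F.ev_tC]; simp [pw]⟩
theorem RC_zz : F.RC 0 S.z := ⟨true, by rw [rR, rC_zero.1, F.tC_mul, F.ev_tC]; rfl⟩
theorem RC_e : F.RC 8 S.e := ⟨false, by rw [rR, rC_zero.2.1, F.ev_tC]; simp [Twist.ev, Twist.W, Setup.E, pw]⟩
theorem RC_v : F.RC 4 S.v :=
  ⟨false, by rw [rR, rC_zero.2.2.1, F.ev_tC]; simp [Twist.ev, Twist.W, Setup.E, pw]; rfl⟩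
theorem RC_w : F.RC 16 F.w := ⟨false, by rw [rR, rC_zero.2.2.2, F.ev_tC]; simp [Twist.ev, Twist.W, Setup.E, pw]⟩

theorem RC_self (a : Fin 64) : F.RC a (F.rR a) := ⟨false, by rw [F.ev_tC]; simp [pw]⟩

theorem RC_inv {a : Fin 64} {x : G} (hx : F.RC a x) : F.RC a x⁻¹ := by
  have h : x⁻¹ = x * F.ev (tC (q6 a)) := by
    rw [inv_eq_iff_mul_eq_one, ← mul_assoc, F.RC_sq hx, F.tC_mul, Bool.xor_self, F.ev_tC]; simp [pw]
  obtain ⟨c, rfl⟩ := hx
  exact ⟨xor c (q6 a), by rw [h, mul_assoc, F.tC_mul]⟩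

theorem mem_R_of_ev {c : Bool × M × Bool} (h : inQ c.2.1 = true) : ∃ a, F.RC a (F.ev c) := by
  obtain ⟨i, m, j⟩ := c
  obtain ⟨a, d, ha⟩ := rC_cover i j m h
  exact ⟨a, d, by rw [ha, F.ev_tC_mul]; rfl⟩

/-- `k` acts on `R` modulo `⟨z⟩` by `t` -/
def Act (k : G) (t : Fin 64 → Fin 64) : Prop :=
  k * S.z = S.z * k ∧ ∀ a, F.RC (t a) (k * F.rR a * k⁻¹)

namespace Act

variable {F} {k l : G} {t s : Fin 64 → Fin 64}

theorem conj (h : F.Act k t) {a : Fin 64} {x : G} (hx : F.RC a x) : F.RC (t a) (k * x * k⁻¹) := by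
  obtain ⟨c, rfl⟩ := hx
  have h1 := F.RC_mul (h.2 a) (show F.RC 0 (F.ev (tC c)) from by
    cases c
    · rw [F.ev_tC]; simpa [pw] using F.RC_one
    · rw [F.ev_tC]; exact F.RC_zz)
  rw [(x6_zero _).2] at h1
  rwa [show k * (F.rR a * F.ev (tC c)) * k⁻¹ = k * F.rR a * k⁻¹ * (k * F.ev (tC c) * k⁻¹) by group,
    F.tC_central c k h.1, mul_inv_cancel_right]

theorem comp (h : F.Act k t) (h' : F.Act l s) : F.Act (k * l) (t ∘ s) := by
  refine ⟨Commute.mul_left h.1 h'.1, fun a => ?_⟩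
  rw [show k * l * F.rR a * (k * l)⁻¹ = k * (l * F.rR a * l⁻¹) * k⁻¹ by group]
  exact h.conj (h'.2 a)

theorem unique (h : F.Act k t) (h' : F.Act k s) : t = s := funext fun a => F.RC_inj (h.2 a) (h'.2 a)

theorem map_add (h : F.Act k t) (a b : Fin 64) : t (x6 a b) = x6 (t a) (t b) := by
  refine F.RC_inj (h.conj (F.RC_mul (F.RC_self a) (F.RC_self b))) ?_
  have := F.RC_mul (h.2 a) (h.2 b)
  rwa [show k * F.rR a * k⁻¹ * (k * F.rR b * k⁻¹) = k * (F.rR a * F.rR b) * k⁻¹ by group] at this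

theorem q (h : F.Act k t) (a : Fin 64) : q6 (t a) = q6 a := by
  have h1 := F.RC_sq (h.2 a)
  rw [show k * F.rR a * k⁻¹ * (k * F.rR a * k⁻¹) = k * (F.rR a * F.rR a) * k⁻¹ by group,
    F.RC_sq (F.RC_self a), F.tC_central _ _ h.1, mul_inv_cancel_right] at h1
  have h2 := (Prod.ext_iff.1 (Prod.ext_iff.1 (F.ev_inj h1)).2).1
  revert h2
  show pw (q6 a) tau = pw (q6 (t a)) tau → _
  cases q6 a <;> cases q6 (t a) <;> simp [pw, tau_sq.2, Ne.symm tau_sq.2]

theorem injective (h : F.Act k t) : Function.Injective t := fun a b hab => by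
  obtain ⟨c, hc⟩ := h.2 a
  obtain ⟨d, hd⟩ := h.2 b
  rw [← hab] at hd
  have h1 : k * F.rR a * k⁻¹ = k * (F.rR b * F.ev (tC (xor d c))) * k⁻¹ := by
    calc k * F.rR a * k⁻¹ = F.rR (t a) * F.ev (tC d) * F.ev (tC (xor d c)) := by
          rw [hc, mul_assoc, F.tC_mul, ← Bool.xor_assoc, Bool.xor_self, Bool.false_xor]
      _ = k * F.rR b * k⁻¹ * (k * F.ev (tC (xor d c)) * k⁻¹) := by
          rw [← hd, F.tC_central _ k h.1, mul_inv_cancel_right]
      _ = _ := by group
  have h2 : F.rR a = F.rR b * F.ev (tC (xor d c)) := mul_left_cancel (mul_right_cancel h1)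
  exact F.RC_inj (F.RC_self a) ⟨_, h2⟩

theorem B (h : F.Act k t) (a b : Fin 64) : B6 (t a) (t b) = B6 a b := by
  simp only [B6, h.q, ← h.map_add]

theorem inv (h : F.Act k t) : ∃ s, F.Act k⁻¹ s ∧ ∀ a, t (s a) = a := by
  have hs := Finite.injective_iff_surjective.1 h.injective
  choose s hs using hs
  refine ⟨s, ⟨Commute.inv_left h.1, fun a => ?_⟩, hs⟩
  obtain ⟨c, hc⟩ := h.2 (s a)
  rw [hs] at hc
  refine ⟨c, ?_⟩
  have h1 : F.rR a = k * F.rR (s a) * k⁻¹ * F.ev (tC c) := by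
    rw [hc, mul_assoc, F.tC_mul, Bool.xor_self, F.ev_tC]; simp [pw]
  rw [h1, inv_inv]
  calc k⁻¹ * (k * F.rR (s a) * k⁻¹ * F.ev (tC c)) * k = F.rR (s a) * (k⁻¹ * (F.ev (tC c) * k)) := by group
    _ = _ := by rw [← F.tC_central c k h.1, inv_mul_cancel_left]

end Act

theorem one_act : F.Act 1 id := ⟨by simp, fun a => by simpa using F.RC_self a⟩

theorem act_lf {k : G} {t : Fin 64 → Fin 64} (h : F.Act k t) :
    t = lf ((List.range 6).map fun i => (t ⟨2 ^ i % 64, Nat.mod_lt _ (by norm_num)⟩).val) := by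
  funext a
  set L := (List.range 6).map fun i => (t ⟨2 ^ i % 64, Nat.mod_lt _ (by norm_num)⟩).val with hL
  set b : ℕ → Fin 64 := fun i => bif a.val.testBit i then ⟨2 ^ i % 64, Nat.mod_lt _ (by norm_num)⟩ else 0 with hb
  have h0 : t 0 = 0 := by
    have h1 := h.map_add 0 0
    rw [x6_self, x6_self] at h1
    exact h1
  have hsum : a = x6 (x6 (x6 (x6 (x6 (x6 0 (b 0)) (b 1)) (b 2)) (b 3)) (b 4)) (b 5) := by
    have : ∀ a : Fin 64, a = x6 (x6 (x6 (x6 (x6 (x6 0
      (bif a.val.testBit 0 then 1 else 0)) (bif a.val.testBit 1 then 2 else 0)) (bif a.val.testBit 2 then 4 else 0))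
      (bif a.val.testBit 3 then 8 else 0)) (bif a.val.testBit 4 then 16 else 0))
      (bif a.val.testBit 5 then 32 else 0) := by decide +kernel
    exact this a
  have hb' : ∀ i, i < 6 → (t (b i)).val = if a.val.testBit i then L.getD i 0 else 0 := fun i hi => by
    simp only [hb]
    cases a.val.testBit i
    · simp [h0]
    · simp [hL, List.getD_eq_getElem?_getD, hi]
  conv_lhs => rw [hsum]
  simp only [h.map_add, h0]
  refine Fin.ext ?_
  have hx : ∀ p q : Fin 64, (x6 p q).val = (p.val ^^^ q.val) % 64 := fun p q => rfl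
  have hlt : ∀ p q : Fin 64, p.val ^^^ q.val < 64 := fun p q => Nat.xor_lt_two_pow (n := 6) p.isLt q.isLt
  simp only [lf, List.range_succ, List.range_zero, List.nil_append, List.cons_append, List.foldl_cons, List.foldl_nil]
  simp only [hx, Nat.mod_eq_of_lt (hlt _ _), hb' 0 (by norm_num), hb' 1 (by norm_num), hb' 2 (by norm_num),
    hb' 3 (by norm_num), hb' 4 (by norm_num), hb' 5 (by norm_num), Fin.val_zero]
  have hm : ∀ x y : ℕ, (x % 64 ^^^ y) % 64 = (x ^^^ y) % 64 := fun x y => by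
    rw [show (64 : ℕ) = 2 ^ 6 from rfl, Nat.xor_mod_two_pow, Nat.mod_mod, ← Nat.xor_mod_two_pow]
  cases a.val.testBit 0 <;> cases a.val.testBit 1 <;> cases a.val.testBit 2 <;> cases a.val.testBit 3 <;>
    cases a.val.testBit 4 <;> cases a.val.testBit 5 <;>
      simp [hm]

/-- UNIQUENESS: an element of `C(z)` moving `e` into `R` normalises `R`. -/
theorem act_of_e {k : G} (hz : k * S.z = S.z * k) {b : Fin 64} (he : F.RC b (k * S.e * k⁻¹)) :
    ∃ t, F.Act k t := by
  classical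
  suffices hinvmem : ∀ a, ∃ c, F.RC c (k⁻¹ * F.rR a * k) by
    choose s hs using hinvmem
    have hA : F.Act k⁻¹ s := ⟨Commute.inv_left hz, fun a => by rw [inv_inv]; exact hs a⟩
    obtain ⟨t, ht, -⟩ := hA.inv
    rw [inv_inv] at ht
    exact ⟨t, ht⟩
  have hk0 : ∀ a, ∃ c, k⁻¹ * F.rR a * k = F.ev c := fun a => by
    refine F.toTwist.mem_K0 (Commute.mul_left (Commute.mul_left (Commute.inv_left hz) (F.rR_z a)) hz) ?_
    have hc := F.RC_comm (F.RC_self a) he
    have hkz : k⁻¹ * S.z * k = S.z := by rw [mul_assoc, ← hz, inv_mul_cancel_left]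
    have h1 : k⁻¹ * F.rR a * k * S.e * (k⁻¹ * F.rR a * k)⁻¹ =
        k⁻¹ * (F.rR a * (k * S.e * k⁻¹) * (F.rR a)⁻¹) * k := by group
    rw [h1, hc, show k⁻¹ * (F.ev (tC (B6 a b)) * (k * S.e * k⁻¹ * F.rR a) * (F.rR a)⁻¹) * k =
      k⁻¹ * F.ev (tC (B6 a b)) * k * S.e by group, F.ev_tC]
    cases B6 a b
    · left; simp [pw]
    · right
      show k⁻¹ * S.z * k * S.e = _
      rw [hkz, S.e_z]
  choose c hc using hk0
  let s : Fin 64 → Fin 6 := fun a => sp (c a).2.1
  have hspT : ∀ x : Bool, sp (pw x tau) = 0 := fun x => by cases x <;> simp [pw, tau_sp.1, tau_sp.2]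
  have hs0 : ∀ a : Fin 6, smul6 a 0 = a ∧ smul6 0 a = a := by decide +kernel
  have hmul2 : ∀ x y : Bool × M × Bool, sp (mulD F.δ x y).2.1 = smul6 (sp x.2.1) (sp y.2.1) := fun x y => by
    have htw : ∀ m : M, sp (tw F.δ m) = sp m := fun m => by rw [tw, inQ_mul, hspT, (hs0 _).1]
    simp only [mulD, inQ_mul, hspT, (hs0 _).1]
    cases x.2.2
    · rfl
    · simp [htw]
  have hkT : ∀ d, k⁻¹ * F.ev (tC d) * k = F.ev (tC d) := fun d => by
    rw [mul_assoc, ← F.tC_central d k hz, inv_mul_cancel_left]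
  have hsq : ∀ a, smul6 (s a) (s a) = 0 := fun a => by
    have h1 : F.ev (mulD F.δ (c a) (c a)) = F.ev (tC (q6 a)) := by
      rw [← F.ev_mulD, ← hc, ← hkT, ← F.RC_sq (F.RC_self a)]; group
    have h2 := congrArg (fun x => sp x.2.1) (F.ev_inj h1)
    simp only [hmul2] at h2
    exact h2.trans (hspT _)
  have hprod : ∀ a a', k⁻¹ * F.rR a * k * (k⁻¹ * F.rR a' * k) =
      F.ev (tC (B6 a a')) * (k⁻¹ * F.rR a' * k * (k⁻¹ * F.rR a * k)) := fun a a' => by
    calc k⁻¹ * F.rR a * k * (k⁻¹ * F.rR a' * k) = k⁻¹ * (F.rR a * F.rR a') * k := by group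
      _ = k⁻¹ * F.ev (tC (B6 a a')) * k * (k⁻¹ * (F.rR a' * F.rR a) * k) := by
        rw [F.RC_comm (F.RC_self a) (F.RC_self a')]; group
      _ = _ := by rw [hkT]; group
  have hcomm : ∀ a a', smul6 (s a) (s a') = smul6 (s a') (s a) := fun a a' => by
    have h1 := hprod a a'
    rw [hc, hc, F.ev_mulD, F.ev_mulD, F.ev_mulD] at h1
    have h2 := congrArg (fun x => sp x.2.1) (F.ev_inj h1)
    simp only [hmul2, tC, hspT, (hs0 _).2] at h2
    exact h2
  intro a
  by_cases ha : s a = 0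
  · obtain ⟨d, hd⟩ := F.mem_R_of_ev (c := c a) (by
      show ((sp (c a).2.1).val == 0) = true
      simp [show sp (c a).2.1 = 0 from ha])
    exact ⟨d, by rw [hc]; exact hd⟩
  exfalso
  -- the elements mapped into `R` are fixed by the reflection
  let l := (c a).2.1
  have hl : inQ l = false := by
    have h1 : s a = sp l := rfl
    simp only [inQ, beq_eq_false_iff_ne, ne_eq]
    exact fun h => ha (Fin.ext h)
  have hl2 : sp (l * l) = 0 := by rw [inQ_mul]; exact hsq a
  have hbound := fix_count l hl hl2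
  let A0 := Finset.univ.filter fun d => s d = 0
  have hker : ∀ d ∈ A0, ∃ b', F.RC b' (k⁻¹ * F.rR d * k) ∧
      (l * qrep b' == qrep b' * l || l * qrep b' == qrep b' * l * tau) = true := by
    intro d hd
    have hd0 : s d = 0 := (Finset.mem_filter.1 hd).2
    obtain ⟨b', hb'⟩ := F.mem_R_of_ev (c := c d) (by
      show ((sp (c d).2.1).val == 0) = true
      simp [show sp (c d).2.1 = 0 from hd0])
    refine ⟨b', by rw [hc]; exact hb', ?_⟩
    obtain ⟨x, hx⟩ := hb'
    have h1 := hprod a d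
    rw [hc a, hc d, hx] at h1
    have h2 : F.ev (c a) * F.rR b' = F.ev (tC (B6 a d)) * (F.rR b' * F.ev (c a)) := by
      have hzc : F.ev (c a) * S.z = S.z * F.ev (c a) := by
        rw [← hc]; exact Commute.mul_left (Commute.mul_left (Commute.inv_left hz) (F.rR_z a)) hz
      refine mul_right_cancel (b := F.ev (tC x)) ?_
      calc F.ev (c a) * F.rR b' * F.ev (tC x) = F.ev (c a) * (F.rR b' * F.ev (tC x)) := by group
        _ = F.ev (tC (B6 a d)) * (F.rR b' * (F.ev (tC x) * F.ev (c a))) := by rw [h1]; group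
        _ = _ := by rw [← F.tC_central x _ hzc]; group
    rw [rR, F.ev_mulD, F.ev_mulD, F.ev_mulD] at h2
    have h3 := congrArg (fun x => x.2.1) (F.ev_inj h2)
    have hq : inQ (qrep b') = true := qrep_facts b'
    have hcq : chi (qrep b') = false := by
      simp only [inQ, beq_iff_eq] at hq
      simp [chi, hq]
    have hpp : ∀ p q : Bool, pw p tau * pw q tau = pw (xor p q) tau := fun p q => by
      cases p <;> cases q <;> simp [pw, tau_sq.1]
    have hcn : ∀ (p : Bool) (w : M), w * pw p tau = pw p tau * w := fun p w => by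
      cases p
      · simp [pw]
      · exact (tau_central w).symm
    have hsnd : ∀ X Y : Bool × M × Bool, ∃ p : Bool, (mulD F.δ X Y).2.1 = X.2.1 * Y.2.1 * pw p tau := by
      rintro ⟨i1, m1, j1⟩ ⟨i2, m2, j2⟩
      cases j1
      · exact ⟨false, by simp [mulD, pw]⟩
      · refine ⟨xor (xor i2 (F.δ && chi m2)) j2, ?_⟩
        show m1 * pw (true && i2) tau * tw F.δ m2 * pw (true && j2) tau = _
        rw [tw, Bool.true_and, Bool.true_and, ← hpp, ← hpp, mul_assoc m1, ← mul_assoc (pw i2 tau), ← hcn i2 m2]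
        simp only [mul_assoc]
    have key : ∃ p : Bool, l * qrep b' = qrep b' * l * pw p tau := by
      obtain ⟨p1, e1⟩ := hsnd (c a) (rC b')
      obtain ⟨p2, e2⟩ := hsnd (rC b') (c a)
      obtain ⟨p3, e3⟩ := hsnd (tC (B6 a d)) (mulD F.δ (rC b') (c a))
      rw [e1, e3, e2] at h3
      change l * qrep b' * pw p1 tau = pw (B6 a d) tau * (qrep b' * l * pw p2 tau) * pw p3 tau at h3
      refine ⟨xor (xor (xor (B6 a d) p2) p3) p1, ?_⟩
      rw [← hcn (B6 a d), mul_assoc (qrep b' * l), mul_assoc (qrep b' * l), hpp, hpp] at h3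
      rw [← hpp, ← mul_assoc, ← show l * qrep b' * pw p1 tau = qrep b' * l * pw (xor (xor (B6 a d) p2) p3) tau by
        rw [h3, Bool.xor_comm p2 (B6 a d)], mul_assoc _ (pw p1 tau), hpp, Bool.xor_self]
      simp [pw]
    obtain ⟨p, hp⟩ := key
    cases p <;> simp [hp, pw]
  choose g hg using hker
  have hA0 : A0.card ≤ 16 := by
    refine le_trans ?_ hbound
    refine Finset.card_le_card_of_injOn (fun d => if hd : d ∈ A0 then g d hd else 0) (fun d hd => ?_) ?_
    · simp only [Finset.mem_coe] at hd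
      simp only [Finset.coe_filter, Finset.mem_univ, true_and, Set.mem_setOf_eq, dif_pos hd]
      exact (hg d hd).2
    · intro d hd d' hd' hdd
      simp only [Finset.mem_coe] at hd hd'
      simp only [dif_pos hd, dif_pos hd'] at hdd
      obtain ⟨x, hx⟩ := (hg d hd).1
      obtain ⟨x', hx'⟩ := (hg d' hd').1
      rw [← hdd] at hx'
      refine F.RC_inj (F.RC_self d) ⟨xor x' x, ?_⟩
      have h1 : k⁻¹ * F.rR d * k = k⁻¹ * (F.rR d' * F.ev (tC (xor x' x))) * k := by
        calc k⁻¹ * F.rR d * k = F.rR (g d hd) * F.ev (tC x') * F.ev (tC (xor x' x)) := by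
              rw [hx, mul_assoc, F.tC_mul, ← Bool.xor_assoc, Bool.xor_self, Bool.false_xor]
          _ = k⁻¹ * F.rR d' * k * (k⁻¹ * F.ev (tC (xor x' x)) * k) := by rw [← hx', hkT]
          _ = _ := by group
      exact mul_left_cancel (mul_right_cancel h1)
  -- the two fibres
  have hs_mul : ∀ d, smul6 (s a) (s d) = s (x6 a d) := fun d => by
    obtain ⟨p, hp⟩ := F.RC_mul (F.RC_self a) (F.RC_self d)
    have h1 : F.ev (mulD F.δ (c a) (c d)) = F.ev (mulD F.δ (c (x6 a d)) (tC p)) := by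
      rw [← F.ev_mulD, ← F.ev_mulD, ← hc, ← hc, ← hc, ← hkT p,
        show k⁻¹ * F.rR a * k * (k⁻¹ * F.rR d * k) = k⁻¹ * (F.rR a * F.rR d) * k by group, hp]
      group
    have h2 := congrArg (fun x => sp x.2.1) (F.ev_inj h1)
    simp only [hmul2, tC, hspT, (hs0 _).1] at h2
    exact h2
  have hsplit : (Finset.univ : Finset (Fin 64)) ⊆ A0 ∪ A0.image (x6 a) := fun d _ => by
    by_cases hd : s d = 0
    · exact Finset.mem_union_left _ (Finset.mem_filter.2 ⟨Finset.mem_univ _, hd⟩)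
    · refine Finset.mem_union_right _ (Finset.mem_image.2 ⟨x6 a d, Finset.mem_filter.2 ⟨Finset.mem_univ _, ?_⟩, ?_⟩)
      · rw [← hs_mul, refl_comm _ _ (hsq a) (hsq d) (hcomm a d) ha hd]; exact hsq d
      · rw [← x6_assoc, x6_self, (x6_zero d).1]
  have h64 := (Finset.card_le_card hsplit).trans (Finset.card_union_le _ _)
  have h32 := (Finset.card_image_le (s := A0) (f := x6 a))
  simp only [Finset.card_univ, Fintype.card_fin] at h64
  omega

end Flip

end Cfsg.Lib.CoThreeM
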