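/-
The conjugate of `f` under the swap of the pair: its commutator with `f` and its action on `R`.
-/
import Cfsg.Agent.CoThreeM.Rad
import Cfsg.Agent.CoThreeM.PrimeModel

set_option autoImplicit false
set_option linter.unusedSectionVars false
set_option linter.style.haveILetI false
set_option maxRecDepth 10000

namespace Cfsg.Lib.CoThreeM

open Subgroup Cfsg.Lib.M12Cent

universe u

variable {G : Type u} [Group G] [Finite G] {S : Setup G}

theorem Setup.vv (S : Setup G) : S.v * S.v = 1 := by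
  rw [Setup.v, ← map_mul, (tw_pair false a6 (by simp)).2, map_one]

theorem Setup.n_cancel (S : Setup G) (x : G) : S.n * (S.n * x) = x := by rw [← mul_assoc, S.nn, one_mul]

namespace Flip

variable (F : Flip S)

theorem ev_model (m : M) : F.ev (false, m, false) = S.ψ m := by simp [Twist.ev, Twist.W, Setup.E]

theorem act_yM : F.Act (S.ψ yM) (lf yL) := by
  refine ⟨(S.z_ψ _).symm, fun a => ?_⟩
  obtain ⟨c, hc⟩ := conj_yM F.δ a
  refine ⟨c, mul_inv_eq_iff_eq_mul.2 ?_⟩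
  rw [← F.ev_model, rR, rR, F.ev_mulD, F.ev_mulD, F.ev_mulD, hc]

theorem act_piM : F.Act (S.ψ piM) (lf piL) := by
  refine ⟨(S.z_ψ _).symm, fun a => ?_⟩
  obtain ⟨c, hc⟩ := conj_piM F.δ a
  refine ⟨c, mul_inv_eq_iff_eq_mul.2 ?_⟩
  rw [← F.ev_model, rR, rR, F.ev_mulD, F.ev_mulD, F.ev_mulD, hc]

theorem wψ_tw (m : M) : F.w * S.ψ m * F.w⁻¹ = S.ψ (tw F.δ m) := by rw [F.wψ, F.σ_eq]

theorem w_v : F.w * S.v = S.v * F.w := by
  refine mul_inv_eq_iff_eq_mul.1 ?_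
  rw [Setup.v, F.wψ_tw, (tw_pair F.δ a6 (by simp)).1]

/-- the conjugate of `f` -/
def h : G := S.n * F.w * S.n

theorem h_z : F.h * S.z = S.z * F.h := by
  have h1 : S.n * S.z = S.v * S.n := by rw [← S.n_z, mul_assoc, S.nn, mul_one]
  have h2 : S.n * S.v = S.z * S.n := by rw [← S.n_v, mul_assoc, S.nn, mul_one]
  calc F.h * S.z = S.n * (F.w * (S.n * S.z)) := by simp only [h, mul_assoc]
    _ = S.n * (F.w * S.v * S.n) := by rw [h1]; simp only [mul_assoc]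
    _ = S.n * S.v * (F.w * S.n) := by rw [F.w_v]; simp only [mul_assoc]
    _ = S.z * F.h := by rw [h2]; simp only [h, mul_assoc]

theorem h_inv : F.h⁻¹ = S.n * F.w⁻¹ * S.n := by rw [h, mul_inv_rev, mul_inv_rev, S.n_inv, mul_assoc]

theorem h_ψ {l : M} (hl : inK l = true) : F.h * S.ψ l * F.h⁻¹ = S.ψ (rhoM F.δ l) := by
  rw [h_inv]
  calc F.h * S.ψ l * (S.n * F.w⁻¹ * S.n) = S.n * (F.w * (S.n * S.ψ l * S.n) * F.w⁻¹) * S.n := by rw [h]; group
    _ = S.n * S.ψ (tw F.δ (nC l)) * S.n := by rw [S.n_conj hl, F.wψ_tw]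
    _ = _ := S.n_conj ((nC_facts l hl).2.2 F.δ)

theorem h_e : F.h * S.e * F.h⁻¹ = S.e * S.v := by
  have hne : S.n * S.e * S.n = S.e := by rw [← S.e_n, mul_assoc, S.nn, mul_one]
  rw [h_inv]
  calc F.h * S.e * (S.n * F.w⁻¹ * S.n) = S.n * (F.w * (S.n * S.e * S.n) * F.w⁻¹) * S.n := by rw [h]; group
    _ = S.n * S.e * (S.z * S.n) := by rw [hne, F.we]; group
    _ = S.e * (S.n * S.z * S.n) := by rw [← S.e_n]; group
    _ = S.e * S.v := by rw [S.n_z]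

theorem w_inv_e : F.w⁻¹ * S.e * F.w = S.e * S.z := by
  have h1 : F.w * (S.e * S.z) * F.w⁻¹ = S.e := by
    calc F.w * (S.e * S.z) * F.w⁻¹ = F.w * S.e * F.w⁻¹ * (F.w * S.z * F.w⁻¹) := by group
      _ = S.e := by rw [F.we, mul_inv_eq_iff_eq_mul.2 F.wz, mul_assoc, S.zz, mul_one]
  calc F.w⁻¹ * S.e * F.w = F.w⁻¹ * (F.w * (S.e * S.z) * F.w⁻¹) * F.w := by rw [h1]
    _ = _ := by group

theorem h_v : F.h * S.v = S.v * F.h := by
  have h1 : S.n * S.v = S.z * S.n := by rw [← S.n_v, mul_assoc, S.nn, mul_one]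
  have h2 : S.n * S.z = S.v * S.n := by rw [← S.n_z, mul_assoc, S.nn, mul_one]
  calc F.h * S.v = S.n * (F.w * (S.n * S.v)) := by simp only [h, mul_assoc]
    _ = S.n * (F.w * S.z * S.n) := by rw [h1]; simp only [mul_assoc]
    _ = S.n * S.z * (F.w * S.n) := by rw [F.wz]; simp only [mul_assoc]
    _ = S.v * F.h := by rw [h2]; simp only [h, mul_assoc]

/-- THE COMMUTATOR of `f` with its conjugate is `1` or `z v`. -/
theorem exists_r : ∃ r : Bool, F.h * F.w * F.h⁻¹ = S.ψ (pw r (tau * a6)) * F.w := by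
  set c := F.h * F.w * F.h⁻¹ * F.w⁻¹ with hc
  have hcz : c * S.z = S.z * c := Commute.mul_left (Commute.mul_left (Commute.mul_left F.h_z F.wz)
    (Commute.inv_left F.h_z)) (Commute.inv_left F.wz)
  have hce : c * S.e * c⁻¹ = S.e := by
    have h3 : F.h⁻¹ * S.e * F.h = S.e * S.v := by
      have h4 : F.h * (S.e * S.v) * F.h⁻¹ = S.e := by
        calc F.h * (S.e * S.v) * F.h⁻¹ = F.h * S.e * F.h⁻¹ * (F.h * S.v * F.h⁻¹) := by group
          _ = S.e := by rw [F.h_e, mul_inv_eq_iff_eq_mul.2 F.h_v, mul_assoc, S.vv, mul_one]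
      calc F.h⁻¹ * S.e * F.h = F.h⁻¹ * (F.h * (S.e * S.v) * F.h⁻¹) * F.h := by rw [h4]
        _ = _ := by group
    calc c * S.e * c⁻¹ = F.h * (F.w * (F.h⁻¹ * (F.w⁻¹ * S.e * F.w) * F.h) * F.w⁻¹) * F.h⁻¹ := by rw [hc]; group
      _ = F.h * (F.w * (F.h⁻¹ * S.e * F.h * (F.h⁻¹ * (S.z * F.h))) * F.w⁻¹) * F.h⁻¹ := by rw [F.w_inv_e]; group
      _ = F.h * (F.w * S.e * F.w⁻¹ * (F.w * S.v * F.w⁻¹) * (F.w * S.z * F.w⁻¹)) * F.h⁻¹ := by
        rw [h3, ← F.h_z, inv_mul_cancel_left]; group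
      _ = F.h * S.e * F.h⁻¹ * (F.h * S.v * F.h⁻¹) := by
        rw [F.we, mul_inv_eq_iff_eq_mul.2 F.w_v, mul_inv_eq_iff_eq_mul.2 F.wz,
          show S.e * S.z * S.v * S.z = S.e * S.v by
            rw [mul_assoc S.e, Setup.v, S.z_ψ, ← mul_assoc, mul_assoc, S.zz, mul_one]]
        group
      _ = S.e := by rw [F.h_e, mul_inv_eq_iff_eq_mul.2 F.h_v, mul_assoc, S.vv, mul_one]
  obtain ⟨m, hm⟩ := S.cent_ez (mul_inv_eq_iff_eq_mul.1 hce) hcz
  obtain ⟨i, hm⟩ : ∃ i, c = S.E i * S.ψ m := by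
    rcases hm with e | e
    · exact ⟨false, by simpa [Setup.E] using e⟩
    · exact ⟨true, e⟩
  -- it centralises the centraliser of the pair in the model
  have hcl : ∀ l : M, inK l = true → c * S.ψ l = S.ψ l * c := fun l hl => by
    obtain ⟨hk1, hk2, hk3⟩ := nC_facts l hl
    have hσ : ∀ x, tw F.δ (tw F.δ x) = x := fun x => by rw [← F.σ_eq, ← F.σ_eq, F.σσ]
    have e1 : F.w⁻¹ * S.ψ l * F.w = S.ψ (tw F.δ l) := by
      conv_lhs => rw [← hσ l, ← F.wψ_tw]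
      group
    have hl' : inK (tw F.δ l) = true := by
      have h5 := (nC_facts (nC l) hk1).2.2 F.δ
      rwa [hk2] at h5
    have hL : ∀ δ : Bool, ∀ l : M, inK l = true → inK (nC (tw δ (nC (tw δ l)))) = true ∧
        rhoM δ (nC (tw δ (nC (tw δ l)))) = tw δ l ∧ inK (tw δ (nC (tw δ (nC (tw δ l))))) = true ∧
        rhoM δ (tw δ (nC (tw δ (nC (tw δ l))))) = l := by decide +kernel
    obtain ⟨L1, L2, L3, L4⟩ := hL F.δ l hl
    have e2 : F.h⁻¹ * S.ψ (tw F.δ l) * F.h = S.ψ (nC (tw F.δ (nC (tw F.δ l)))) := by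
      conv_lhs => rw [← L2, ← F.h_ψ L1]
      group
    refine mul_inv_eq_iff_eq_mul.1 ?_
    calc c * S.ψ l * c⁻¹ = F.h * (F.w * (F.h⁻¹ * (F.w⁻¹ * S.ψ l * F.w) * F.h) * F.w⁻¹) * F.h⁻¹ := by rw [hc]; group
      _ = F.h * S.ψ (tw F.δ (nC (tw F.δ (nC (tw F.δ l))))) * F.h⁻¹ := by rw [e1, e2, F.wψ_tw]
      _ = S.ψ l := by rw [F.h_ψ L3, L4]
  have hm4 : m = 1 ∨ m = tau ∨ m = a6 ∨ m = tau * a6 := cent_CZ m fun j => by
    have h1 := hcl (kel j) (kel_spec j).1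
    rw [hm, mul_assoc, ← mul_assoc (S.ψ (kel j)), ← S.E_ψ, mul_assoc, ← map_mul, ← map_mul] at h1
    exact S.ψ_inj (mul_left_cancel h1)
  obtain ⟨htw, hmm⟩ := tw_pair F.δ m hm4
  have hi : i = false := by
    cases i
    · rfl
    exfalso
    have h1 : c * F.w * (c * F.w) = S.z := by
      rw [hc]
      calc F.h * F.w * F.h⁻¹ * F.w⁻¹ * F.w * (F.h * F.w * F.h⁻¹ * F.w⁻¹ * F.w) = F.h * (F.w * F.w) * F.h⁻¹ := by group
        _ = S.z := by rw [F.ww, mul_inv_eq_iff_eq_mul.2 F.h_z]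
    have h2 : c * F.w * (c * F.w) = c * (F.w * c * F.w⁻¹) * (F.w * F.w) := by group
    have h3 : F.w * c * F.w⁻¹ = S.e * S.z * S.ψ m := by
      rw [hm, Setup.E, cond_true]
      calc F.w * (S.e * S.ψ m) * F.w⁻¹ = F.w * S.e * F.w⁻¹ * (F.w * S.ψ m * F.w⁻¹) := by group
        _ = _ := by rw [F.we, F.wψ_tw, htw]
    rw [h1, h3, hm, Setup.E, cond_true, F.ww] at h2
    have h4 : S.e * S.ψ m * (S.e * S.z * S.ψ m) = S.z := by
      calc S.e * S.ψ m * (S.e * S.z * S.ψ m) = S.e * (S.ψ m * S.e) * (S.z * S.ψ m) := by group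
        _ = S.e * S.e * (S.ψ m * (S.ψ m * S.z)) := by rw [← S.e_ψ, S.z_ψ]; group
        _ = _ := by rw [S.ee, ← mul_assoc (S.ψ m), ← map_mul, hmm, map_one, one_mul, one_mul]
    rw [h4, S.zz] at h2
    exact S.z_ne h2
  subst hi
  rw [Setup.E, cond_false, one_mul] at hm
  -- inverted by the swap
  have hn : S.n * c * S.n = c⁻¹ := by
    have e : F.h = S.n * F.w * S.n := rfl
    rw [hc, F.h_inv, e]
    simp only [mul_inv_rev, inv_inv, S.n_inv, mul_assoc, S.nn, mul_one, S.n_cancel]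
  rw [hm, S.n_conj (show inK m = true from by
    rcases hm4 with rfl | rfl | rfl | rfl
    exacts [nC_pair.2.2.2.2.2.2, elt_facts.1, elt_facts.2.1, nC_pair.2.2.2.2.2.1]), ← map_inv] at hn
  have hmn : nC m = m := (S.ψ_inj hn).trans (inv_eq_of_mul_eq_one_right hmm)
  have hres : c * F.w = F.h * F.w * F.h⁻¹ := by rw [hc]; group
  rcases hm4 with rfl | rfl | rfl | rfl
  · exact ⟨false, by rw [← hres, hm]; rfl⟩
  · exact absurd (nC_pair.1.symm.trans hmn).symm nC_pair.2.2.2.2.1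
  · exact absurd (nC_pair.2.1.symm.trans hmn) nC_pair.2.2.2.2.1
  · exact ⟨true, by rw [← hres, hm]; rfl⟩

theorem act_h {r : Bool} (hr : F.h * F.w * F.h⁻¹ = S.ψ (pw r (tau * a6)) * F.w) : F.Act F.h (lf (rhoL F.δ r)) := by
  have he : F.RC 12 (F.h * S.e * F.h⁻¹) := by rw [F.h_e]; exact F.RC_mul F.RC_e F.RC_v
  obtain ⟨t, ht⟩ := F.act_of_e F.h_z he
  obtain ⟨l1, l2, l4, l8, l16⟩ := rho_lf F.δ r
  obtain ⟨u1, u2, u3, u4, -⟩ := unit_codes
  obtain ⟨c, d, hu, hq⟩ := rho_units F.δ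
  have t1 : t 1 = lf (rhoL F.δ r) 1 := by
    refine F.RC_inj (ht.conj (F.RC_self 1)) ⟨c, ?_⟩
    rw [rR, u1, F.ev_model, F.h_ψ u3, l1, ← F.ev_model, hu, F.ev_tC_mul]; rfl
  have t2 : t 2 = lf (rhoL F.δ r) 2 := by
    refine F.RC_inj (ht.conj (F.RC_self 2)) ⟨d, ?_⟩
    rw [rR, u2, F.ev_model, F.h_ψ u4, l2, ← F.ev_model, hq, F.ev_tC_mul]; rfl
  have t4 : t 4 = lf (rhoL F.δ r) 4 := by
    rw [l4]
    refine F.RC_inj (ht.conj F.RC_v) ?_
    rw [mul_inv_eq_iff_eq_mul.2 F.h_v]; exact F.RC_v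
  have t8 : t 8 = lf (rhoL F.δ r) 8 := by
    rw [l8]
    exact F.RC_inj (ht.conj F.RC_e) he
  have t16 : t 16 = lf (rhoL F.δ r) 16 := by
    rw [l16]
    refine F.RC_inj (ht.conj F.RC_w) ⟨r, ?_⟩
    rw [hr, rR, ← F.ev_tC_mul, rho_v, ← F.ev_model]
    simp [Twist.ev, Twist.W, Setup.E]
  have h5 : ∀ i : Fin 5, t ⟨2 ^ i.val % 64, Nat.mod_lt _ (by norm_num)⟩ =
      lf (rhoL F.δ r) ⟨2 ^ i.val % 64, Nat.mod_lt _ (by norm_num)⟩ := fun i => by
    fin_cases i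
    exacts [t1, t2, t4, t8, t16]
  have t32 : t 32 = lf (rhoL F.δ r) 32 := rho_last F.δ r (t 32) (ht.q 32) fun i => by rw [← h5, ht.B]
  have : t = lf (rhoL F.δ r) := by
    rw [F.act_lf ht]
    congr 1
    have hl : ∀ δ r : Bool, (List.range 6).map (fun i => (lf (rhoL δ r) ⟨2 ^ i % 64, Nat.mod_lt _ (by norm_num)⟩).val) =
        rhoL δ r := by decide +kernel
    conv_rhs => rw [← hl]
    refine List.map_congr_left fun i hi => ?_
    congr 1
    rw [List.mem_range] at hi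
    interval_cases i
    exacts [t1, t2, t4, t8, t16, t32]
  rwa [this] at ht

end Flip

end Cfsg.Lib.CoThreeM
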