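/-
The group `W` of the elements of `C(z) ∩ C(v)` fixing `e` modulo the pair, and the elements normalising it.
-/
import Cfsg.Agent.CoThreeM.Prime
import Cfsg.Agent.CoThreeM.VeeModel

set_option autoImplicit false
set_option linter.unusedSectionVars false
set_option linter.style.haveILetI false
set_option maxRecDepth 10000

namespace Cfsg.Lib.CoThreeM

open Subgroup Cfsg.Lib.M12Cent

universe u

/-- `f`, and the commutator with its conjugate -/
structure Mid {G : Type u} [Group G] [Finite G] (S : Setup G) extends Flip S where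
  /-- whether `f` and its conjugate fail to commute -/
  r : Bool
  hr : toFlip.h * w * toFlip.h⁻¹ = S.ψ (pw r (tau * a6)) * w

variable {G : Type u} [Group G] [Finite G] {S : Setup G}

theorem Setup.exists_mid (S : Setup G) : Nonempty (Mid S) := by
  obtain ⟨F⟩ := S.exists_Flip
  obtain ⟨r, hr⟩ := F.exists_r
  exact ⟨{ F with r := r, hr := hr }⟩

theorem inK_mul {a b : M} (ha : inK a = true) (hb : inK b = true) : inK (a * b) = true := by
  rw [inK_iff] at ha hb ⊢
  exact Commute.mul_left ha hb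

namespace Mid

variable (F : Mid S)

/-- powers of the conjugate of `f` -/
def H (k : Bool) : G := bif k then F.toFlip.h else 1

/-- an element with given code -/
def ev4 (x : Bool × M × Bool × Bool) : G := S.E x.1 * S.ψ x.2.1 * F.W x.2.2.1 * F.H x.2.2.2

theorem h_E (k i : Bool) : F.H k * S.E i = S.E i * S.ψ (pw (k && i) a6) * F.H k := by
  cases k <;> cases i <;> simp [H, Setup.E, pw]
  exact mul_inv_eq_iff_eq_mul.1 F.toFlip.h_e

theorem h_ψ' (k : Bool) {l : M} (hl : inK l = true) :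
    F.H k * S.ψ l = S.ψ (bif k then rhoM F.δ l else l) * F.H k := by
  cases k
  · simp [H]
  · exact mul_inv_eq_iff_eq_mul.1 (F.toFlip.h_ψ hl)

theorem h_W (k j : Bool) : F.H k * F.W j = S.ψ (pw (k && j && F.r) (tau * a6)) * F.W j * F.H k := by
  cases k <;> cases j <;> simp [H, Twist.W, pw]
  exact mul_inv_eq_iff_eq_mul.1 F.hr

theorem h_H (k k' : Bool) : F.H k * F.H k' = S.ψ (pw (k && k') a6) * F.H (xor k k') := by
  have hh : F.toFlip.h * F.toFlip.h = S.v := by
    simp only [Flip.h, mul_assoc, S.n_cancel]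
    rw [← mul_assoc F.w F.w, F.ww, ← mul_assoc, S.n_z]
  cases k <;> cases k' <;> simp [H, pw]
  exact hh

theorem ev4_mul {x y : Bool × M × Bool × Bool} (hy : inK y.2.1 = true) :
    F.ev4 x * F.ev4 y = F.ev4 (mul4 F.δ F.r x y) := by
  obtain ⟨i, l, j, k⟩ := x
  obtain ⟨i', l', j', k'⟩ := y
  have hp : ∀ (q : Bool) (m : M), F.σp q m = (bif q then tw F.δ m else m) := fun q m => by
    cases q
    · rfl
    · exact F.toFlip.σ_eq m
  show S.E i * S.ψ l * F.W j * F.H k * (S.E i' * S.ψ l' * F.W j' * F.H k') = _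
  simp only [ev4, mul4, ← hp]
  generalize hA : pw (k && i') a6 = A
  generalize hB : (bif k then rhoM F.δ l' else l') = B
  generalize hC : pw (k && j' && F.r) (tau * a6) = C
  generalize hD : pw (k && k') a6 = D
  calc S.E i * S.ψ l * F.W j * F.H k * (S.E i' * S.ψ l' * F.W j' * F.H k')
      = S.E i * S.ψ l * F.W j * (F.H k * S.E i') * S.ψ l' * F.W j' * F.H k' := by group
    _ = S.E i * S.ψ l * (F.W j * S.E i') * S.ψ A * (F.H k * S.ψ l') * F.W j' * F.H k' := by
        rw [F.h_E, hA]; group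
    _ = S.E i * (S.ψ l * S.E i') * S.ψ (pw (j && i') tau) * F.W j * (S.ψ A * S.ψ B) * (F.H k * F.W j') * F.H k' := by
        rw [F.W_e, F.h_ψ' k hy, hB]; group
    _ = S.E i * S.E i' * S.ψ l * S.ψ (pw (j && i') tau) * (F.W j * S.ψ (A * B * C)) * F.W j' * (F.H k * F.H k') := by
        rw [F.h_W, hC, ← S.E_ψ]; simp only [map_mul]; group
    _ = S.E i * S.E i' * S.ψ l * S.ψ (pw (j && i') tau) * S.ψ (F.σp j (A * B * C)) * (F.W j * F.W j') * S.ψ D *
        F.H (xor k k') := by rw [F.W_ψ, F.h_H, hD]; group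
    _ = S.E (xor i i') * S.ψ l * S.ψ (pw (j && i') tau) * S.ψ (F.σp j (A * B * C)) * S.ψ (pw (j && j') tau) *
        (F.W (xor j j') * S.ψ D) * F.H (xor k k') := by rw [S.E_mul, F.W_W F.ww]; group
    _ = _ := by rw [F.W_ψ]; simp only [map_mul, mul_assoc]

/-- the element of a code -/
def rW (a : Fin 64) : G := F.ev4 (wC a)

/-- the elements of the pair -/
def _root_.Cfsg.Lib.CoThreeM.Setup.zc (S : Setup G) (s : Fin 4) : G := S.ψ (zM s)

theorem zc_mul (s t : Fin 4) : S.zc s * S.zc t = S.zc (x4 s t) := by rw [Setup.zc, Setup.zc, Setup.zc, ← map_mul, (zM_mul s t).1]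

theorem zc_inj {s t : Fin 4} (h : S.zc s = S.zc t) : s = t := (zM_mul s t).2 (S.ψ_inj h)

theorem ev4_zC (s : Fin 4) : F.ev4 (zC s) = S.zc s := by simp [ev4, zC, H, Twist.W, Setup.E, Setup.zc]

theorem zc_zero : S.zc 0 = 1 := by rw [Setup.zc, wC_units.2.2.2.2.1, map_one]
theorem zc_one : S.zc 1 = S.z := by rw [Setup.zc, wC_units.2.2.2.2.2.1]; rfl
theorem zc_two : S.zc 2 = S.v := by rw [Setup.zc, wC_units.2.2.2.2.2.2.1]; rfl

theorem zc_central (s : Fin 4) {g : G} (hz : g * S.z = S.z * g) (hv : g * S.v = S.v * g) :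
    g * S.zc s = S.zc s * g := by
  rw [Setup.zc, zM, map_mul]
  refine Commute.mul_right ?_ ?_
  · cases s.val.testBit 0
    · simp [pw]
    · exact hz
  · cases s.val.testBit 1
    · simp [pw]
    · exact hv

theorem v_z : S.v * S.z = S.z * S.v := (S.z_ψ _).symm

theorem ev4_cent {x : Bool × M × Bool × Bool} (hx : inK x.2.1 = true) :
    F.ev4 x * S.z = S.z * F.ev4 x ∧ F.ev4 x * S.v = S.v * F.ev4 x := by
  obtain ⟨i, l, j, k⟩ := x
  have hl : l * a6 = a6 * l := (inK_iff l).1 hx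
  refine ⟨Commute.mul_left (Commute.mul_left (Commute.mul_left ?_ (S.z_ψ _).symm) ?_) ?_,
    Commute.mul_left (Commute.mul_left (Commute.mul_left ?_ ?_) ?_) ?_⟩
  · cases i
    · exact Commute.one_left _
    · exact S.e_z
  · cases j
    · exact Commute.one_left _
    · exact F.wz
  · cases k
    · exact Commute.one_left _
    · exact F.toFlip.h_z
  · cases i
    · exact Commute.one_left _
    · exact S.e_ψ a6
  · show S.ψ l * S.ψ a6 = S.ψ a6 * S.ψ l
    rw [← map_mul, ← map_mul, hl]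
  · cases j
    · exact Commute.one_left _
    · exact F.toFlip.w_v
  · cases k
    · exact Commute.one_left _
    · exact F.toFlip.h_v

theorem rW_cent (a : Fin 64) : F.rW a * S.z = S.z * F.rW a ∧ F.rW a * S.v = S.v * F.rW a :=
  F.ev4_cent (lW_inK a)

/-- `x` lies in the coset of the code -/
def WC (a : Fin 64) (x : G) : Prop := ∃ s, x = F.rW a * S.zc s

theorem rW_zc (a : Fin 64) (s : Fin 4) :
    F.rW a * S.zc s = F.ev4 (a.val.testBit 3, lW a * zM s, a.val.testBit 4, a.val.testBit 5) := by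
  rw [rW, ev4, ev4, wC, Setup.zc]
  simp only [map_mul]
  have h1 : F.H (a.val.testBit 5) * S.ψ (zM s) = S.ψ (zM s) * F.H (a.val.testBit 5) := by
    refine zc_central s ?_ ?_ <;> cases a.val.testBit 5 <;> simp [H]
    · exact F.toFlip.h_z
    · exact F.toFlip.h_v
  have h2 : F.W (a.val.testBit 4) * S.ψ (zM s) = S.ψ (zM s) * F.W (a.val.testBit 4) := by
    refine zc_central s ?_ ?_ <;> cases a.val.testBit 4 <;> simp [Twist.W]
    · exact F.wz
    · exact F.toFlip.w_v
  simp only [mul_assoc]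
  rw [h1, ← mul_assoc (F.W _), h2, mul_assoc]

theorem WC_self (a : Fin 64) : F.WC a (F.rW a) := ⟨0, by rw [zc_zero, mul_one]⟩

theorem rW_mul (a b : Fin 64) : F.WC (x6 a b) (F.rW a * F.rW b) := by
  have hm := wC_mul F.δ F.r a b
  have hev := F.ev4_mul (x := wC a) (y := wC b) (lW_inK b)
  rcases hX : mul4 F.δ F.r (wC a) (wC b) with ⟨i, l, j, k⟩
  rw [hX] at hm hev
  simp only [Bool.and_eq_true, beq_iff_eq, Bool.or_eq_true] at hm
  obtain ⟨⟨⟨h1, h2⟩, h3⟩, h4⟩ := hm
  obtain ⟨s, hs⟩ : ∃ s, (lW (x6 a b))⁻¹ * l = zM s := by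
    rcases h4 with ((h4 | h4) | h4) | h4
    · exact ⟨0, h4⟩
    · exact ⟨1, h4⟩
    · exact ⟨2, h4⟩
    · exact ⟨3, h4⟩
  refine ⟨s, ?_⟩
  rw [rW, rW, hev, F.rW_zc, ← hs, mul_inv_cancel_left, h1, h2, h3]

theorem WC_mul {a b : Fin 64} {x y : G} (hx : F.WC a x) (hy : F.WC b y) : F.WC (x6 a b) (x * y) := by
  obtain ⟨s, rfl⟩ := hx
  obtain ⟨t, rfl⟩ := hy
  obtain ⟨c, hc⟩ := F.rW_mul a b
  refine ⟨x4 (x4 c s) t, ?_⟩
  calc F.rW a * S.zc s * (F.rW b * S.zc t) = F.rW a * (S.zc s * F.rW b) * S.zc t := by group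
    _ = F.rW a * F.rW b * S.zc s * S.zc t := by rw [← zc_central s (F.rW_cent b).1 (F.rW_cent b).2]; group
    _ = _ := by rw [hc, mul_assoc _ (S.zc c), zc_mul, mul_assoc, zc_mul]

theorem WC_sq {a : Fin 64} {x : G} (hx : F.WC a x) : x * x = S.zc (q4 F.δ F.r a) := by
  obtain ⟨s, rfl⟩ := hx
  calc F.rW a * S.zc s * (F.rW a * S.zc s) = F.rW a * (S.zc s * F.rW a) * S.zc s := by group
    _ = F.rW a * F.rW a * (S.zc s * S.zc s) := by rw [← zc_central s (F.rW_cent a).1 (F.rW_cent a).2]; group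
    _ = _ := by
      rw [rW, F.ev4_mul (lW_inK a), wC_sq, ev4_zC, zc_mul, (x4_facts s 0 0).1, zc_mul, (x4_facts _ 0 0).2.2.1]

theorem WC_comm {a b : Fin 64} {x y : G} (hx : F.WC a x) (hy : F.WC b y) :
    x * y = S.zc (B4 F.δ F.r a b) * (y * x) := by
  have h1 := F.WC_sq (F.WC_mul hx hy)
  have hxc : ∀ s, x * S.zc s = S.zc s * x := fun s => by
    obtain ⟨t, rfl⟩ := hx
    exact Commute.mul_left (zc_central s (F.rW_cent a).1 (F.rW_cent a).2)
      (by rw [Commute, SemiconjBy, zc_mul, zc_mul, (x4_facts t s 0).2.2.2.1])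
  have hyc : ∀ s, y * S.zc s = S.zc s * y := fun s => by
    obtain ⟨t, rfl⟩ := hy
    exact Commute.mul_left (zc_central s (F.rW_cent b).1 (F.rW_cent b).2)
      (by rw [Commute, SemiconjBy, zc_mul, zc_mul, (x4_facts t s 0).2.2.2.1])
  have hxi : x⁻¹ = x * S.zc (q4 F.δ F.r a) := by
    rw [inv_eq_iff_mul_eq_one, ← mul_assoc, F.WC_sq hx, zc_mul, (x4_facts _ 0 0).1, zc_zero]
  have hyi : y⁻¹ = y * S.zc (q4 F.δ F.r b) := by
    rw [inv_eq_iff_mul_eq_one, ← mul_assoc, F.WC_sq hy, zc_mul, (x4_facts _ 0 0).1, zc_zero]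
  calc x * y = x * y * (x * y) * (y⁻¹ * x⁻¹) := by group
    _ = S.zc (q4 F.δ F.r (x6 a b)) * (y * (S.zc (q4 F.δ F.r b) * x) * S.zc (q4 F.δ F.r a)) := by
      rw [h1, hxi, hyi]; group
    _ = S.zc (q4 F.δ F.r (x6 a b)) * (y * x * (S.zc (q4 F.δ F.r b) * S.zc (q4 F.δ F.r a))) := by rw [← hxc]; group
    _ = S.zc (q4 F.δ F.r (x6 a b)) * (S.zc (x4 (q4 F.δ F.r b) (q4 F.δ F.r a)) * (y * x)) := by
      rw [zc_mul, (show Commute (y * x) _ from Commute.mul_left (hyc _) (hxc _)).eq]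
    _ = _ := by rw [← mul_assoc, zc_mul, (x4_facts (q4 F.δ F.r b) (q4 F.δ F.r a) 0).2.2.2.1]; rfl

theorem WC_inj {a b : Fin 64} {x : G} (hx : F.WC a x) (hy : F.WC b x) : a = b := by
  obtain ⟨s, rfl⟩ := hx
  obtain ⟨t, ht⟩ := hy
  have h : F.rW a = F.rW b * S.zc (x4 t s) := by
    rw [← zc_mul, ← mul_assoc, ← ht, mul_assoc, zc_mul, (x4_facts s 0 0).1, zc_zero, mul_one]
  rw [F.rW_zc] at h
  -- split off the last factor
  by_cases h5 : a.val.testBit 5 = b.val.testBit 5
  · simp only [rW, ev4, wC, h5] at h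
    have h' := F.ev_inj (x := (a.val.testBit 3, lW a, a.val.testBit 4))
      (y := (b.val.testBit 3, lW b * zM (x4 t s), b.val.testBit 4)) (mul_right_cancel h)
    simp only [Prod.mk.injEq] at h'
    exact (lW_inj a b _ h'.1 h'.2.2 h5 h'.2.1).1
  exfalso
  -- the conjugate of `f` does not fix `e` modulo the centre
  have hK : ∀ (A B : Bool × M × Bool), F.ev A * F.toFlip.h = F.ev B → False := fun A B hAB => by
    obtain ⟨c, hc⟩ : ∃ c : Bool, F.toFlip.h * S.e * (F.toFlip.h)⁻¹ = S.ψ (pw c tau) * S.e := by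
      rw [show F.toFlip.h = (F.ev A)⁻¹ * F.ev B by rw [← hAB]; group]
      have hE : ∀ X : Bool × M × Bool, ∃ c : Bool, F.ev X * S.e * (F.ev X)⁻¹ = S.ψ (pw c tau) * S.e := fun X => by
        obtain ⟨i, l, j⟩ := X
        have hi : S.E i * S.e = S.e * S.E i := by cases i <;> simp [Setup.E]
        refine ⟨j, ?_⟩
        show S.E i * S.ψ l * F.W j * S.e * (S.E i * S.ψ l * F.W j)⁻¹ = _
        calc S.E i * S.ψ l * F.W j * S.e * (S.E i * S.ψ l * F.W j)⁻¹
            = S.E i * S.ψ l * (F.W j * S.E true) * (F.W j)⁻¹ * (S.E i * S.ψ l)⁻¹ := by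
              simp only [Setup.E, cond_true]; group
          _ = S.E i * (S.ψ l * S.e) * S.ψ (pw j tau) * (S.E i * S.ψ l)⁻¹ := by
              rw [F.W_e, Bool.and_true]; simp only [Setup.E, cond_true]; group
          _ = S.e * (S.E i * S.ψ l * S.ψ (pw j tau)) * (S.E i * S.ψ l)⁻¹ := by
              rw [← S.e_ψ, ← mul_assoc, hi]; group
          _ = S.e * S.ψ (pw j tau) * (S.E i * S.ψ l * (S.E i * S.ψ l)⁻¹) := by
              have hc : S.E i * S.ψ l * S.ψ (pw j tau) = S.ψ (pw j tau) * (S.E i * S.ψ l) := by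
                rw [← mul_assoc, ← S.E_ψ, mul_assoc, mul_assoc, ← map_mul, ← map_mul]
                congr 2
                cases j
                · simp [pw]
                · exact (tau_central l).symm
              rw [hc]; group
          _ = _ := by rw [mul_inv_cancel, mul_one, S.e_ψ]
      obtain ⟨c1, e1⟩ := hE A
      obtain ⟨c2, e2⟩ := hE B
      refine ⟨xor c1 c2, ?_⟩
      calc (F.ev A)⁻¹ * F.ev B * S.e * ((F.ev A)⁻¹ * F.ev B)⁻¹
          = (F.ev A)⁻¹ * (F.ev B * S.e * (F.ev B)⁻¹) * F.ev A := by group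
        _ = (F.ev A)⁻¹ * (S.ψ (pw c2 tau) * S.e) * F.ev A := by rw [e2]
        _ = (F.ev A)⁻¹ * (S.ψ (pw (xor c1 c2) tau) * (S.ψ (pw c1 tau) * S.e)) * F.ev A := by
          rw [← mul_assoc (S.ψ (pw (xor c1 c2) tau)), ← map_mul]
          congr 4
          cases c1 <;> cases c2 <;> simp [pw, tau_sq.1]
        _ = (F.ev A)⁻¹ * S.ψ (pw (xor c1 c2) tau) * F.ev A * S.e := by rw [← e1]; group
        _ = _ := by
          have hAz : F.ev A * S.z = S.z * F.ev A := by
            refine Commute.mul_left (Commute.mul_left ?_ (S.z_ψ _).symm) ?_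
            · cases A.1
              · exact Commute.one_left _
              · exact S.e_z
            · cases A.2.2
              · exact Commute.one_left _
              · exact F.wz
          cases xor c1 c2
          · simp [pw]
          · show (F.ev A)⁻¹ * S.z * F.ev A * S.e = S.z * S.e
            rw [mul_assoc (F.ev A)⁻¹, ← hAz, inv_mul_cancel_left]
    rw [F.toFlip.h_e, show S.v = S.ψ a6 from rfl, S.e_ψ] at hc
    have hne : ∀ c : Bool, a6 ≠ pw c tau := by decide +kernel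
    exact hne c (S.ψ_inj (mul_right_cancel hc))
  rcases Bool.eq_false_or_eq_true (a.val.testBit 5) with ha | ha
  · have hb : b.val.testBit 5 = false := by simpa [ha] using (Ne.symm h5)
    simp only [rW, ev4, wC, ha, hb, H, cond_true, cond_false, mul_one] at h
    exact hK (a.val.testBit 3, lW a, a.val.testBit 4) (b.val.testBit 3, lW b * zM (x4 t s), b.val.testBit 4) h
  · have hb : b.val.testBit 5 = true := by simpa [ha] using (Ne.symm h5)
    simp only [rW, ev4, wC, ha, hb, H, cond_true, cond_false, mul_one] at h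
    exact hK (b.val.testBit 3, lW b * zM (x4 t s), b.val.testBit 4) (a.val.testBit 3, lW a, a.val.testBit 4) h.symm

theorem WC_zero (s : Fin 4) : F.WC 0 (S.zc s) := ⟨s, by rw [rW, wC_units.2.2.2.1, ev4_zC, zc_zero, one_mul]⟩

theorem WC_e : F.WC 8 S.e := ⟨0, by rw [rW, wC_units.1, zc_zero]; simp [ev4, H, Twist.W, Setup.E]⟩
theorem WC_w : F.WC 16 F.w := ⟨0, by rw [rW, wC_units.2.1, zc_zero]; simp [ev4, H, Twist.W, Setup.E]⟩

/-- CHARACTERISATION: the centraliser of the pair elements moving `e` inside `e` times the pair. -/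
theorem WC_of_fix {g : G} (hz : g * S.z = S.z * g) (hv : g * S.v = S.v * g) {s : Fin 4}
    (he : g * S.e * g⁻¹ = S.zc s * S.e) : ∃ a, F.WC a g := by
  -- remove a power of `f` and of its conjugate
  set k := s.val.testBit 1
  set j := s.val.testBit 0
  set g' := g * (F.W j * F.H k)⁻¹ with hg'
  have hWH : (F.W j * F.H k) * S.z = S.z * (F.W j * F.H k) ∧ (F.W j * F.H k) * S.v = S.v * (F.W j * F.H k) ∧
      (F.W j * F.H k) * S.e * (F.W j * F.H k)⁻¹ = S.zc s * S.e := by
    have h := F.ev4_cent (x := (false, 1, j, k)) wC_units.2.2.2.2.2.2.2.2.2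
    simp only [ev4, Setup.E, cond_false, map_one, one_mul] at h
    refine ⟨h.1, h.2, ?_⟩
    have hH : F.H k * S.E true = S.E true * S.ψ (pw k a6) * F.H k := by rw [F.h_E, Bool.and_true]
    have hW : F.W j * S.E true = S.E true * S.ψ (pw j tau) * F.W j := by rw [F.W_e, Bool.and_true]
    have hWa : F.W j * S.ψ (pw k a6) = S.ψ (pw k a6) * F.W j := by
      cases j
      · simp [Twist.W]
      · cases k
        · simp [pw]
        · exact F.toFlip.w_v
    rw [show S.e = S.E true from rfl, mul_inv_eq_iff_eq_mul]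
    calc F.W j * F.H k * S.E true = F.W j * S.E true * S.ψ (pw k a6) * F.H k := by rw [mul_assoc, hH]; group
      _ = S.E true * S.ψ (pw j tau) * (F.W j * S.ψ (pw k a6)) * F.H k := by rw [hW]; group
      _ = S.E true * S.zc s * (F.W j * F.H k) := by rw [hWa, Setup.zc, zM, map_mul]; simp only [j, k]; group
      _ = _ := by rw [show S.E true * S.zc s = S.zc s * S.E true from S.E_ψ true (zM s)]
  obtain ⟨h1, h2, h3⟩ := hWH
  have hge : g' * S.e = S.e * g' := by
    refine mul_inv_eq_iff_eq_mul.1 ?_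
    have hb : (F.W j * F.H k)⁻¹ * S.e * (F.W j * F.H k) = S.zc s * S.e := by
      have hZ : (F.W j * F.H k)⁻¹ * S.zc s * (F.W j * F.H k) = S.zc s := by
        rw [mul_assoc, ← zc_central s h1 h2, inv_mul_cancel_left]
      calc (F.W j * F.H k)⁻¹ * S.e * (F.W j * F.H k)
          = (F.W j * F.H k)⁻¹ * (S.zc s * (S.zc s * S.e)) * (F.W j * F.H k) := by
            rw [← mul_assoc (S.zc s), zc_mul, (x4_facts s 0 0).1, zc_zero, one_mul]
        _ = (F.W j * F.H k)⁻¹ * S.zc s * (F.W j * F.H k) * S.e := by rw [← h3]; group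
        _ = _ := by rw [hZ]
    calc g' * S.e * g'⁻¹ = g * ((F.W j * F.H k)⁻¹ * S.e * (F.W j * F.H k)) * g⁻¹ := by rw [hg']; group
      _ = g * S.zc s * g⁻¹ * (g * S.e * g⁻¹) := by rw [hb]; group
      _ = S.e := by
        rw [mul_inv_eq_iff_eq_mul.2 (zc_central s hz hv), he, ← mul_assoc, zc_mul, (x4_facts s 0 0).1, zc_zero,
          one_mul]
  have hgz : g' * S.z = S.z * g' := Commute.mul_left hz (Commute.inv_left h1)
  have hgv : g' * S.v = S.v * g' := Commute.mul_left hv (Commute.inv_left h2)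
  obtain ⟨m, hm⟩ := S.cent_ez hge hgz
  obtain ⟨i, hm⟩ : ∃ i, g' = S.E i * S.ψ m := by
    rcases hm with e | e
    · exact ⟨false, by simpa [Setup.E] using e⟩
    · exact ⟨true, e⟩
  have hmK : inK m = true := by
    rw [inK_iff]
    refine S.ψ_inj ?_
    rw [map_mul, map_mul]
    rw [hm, mul_assoc, ← mul_assoc S.v, show S.v * S.E i = S.E i * S.v from (S.E_ψ i a6).symm, mul_assoc] at hgv
    exact mul_left_cancel hgv
  have hg : g = F.ev4 (i, m, j, k) := by
    rw [show g = g' * (F.W j * F.H k) by rw [hg']; group, hm]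
    simp only [ev4, mul_assoc]
  obtain ⟨a, t, ht⟩ := wC_cover i j k m hmK
  exact ⟨a, t, by rw [hg, ht, F.rW_zc]⟩

theorem WC_of_RC {a : Fin 64} {x : G} (h5 : a.val.testBit 5 = false) (hx : F.toFlip.RC a x) : F.WC (prV a) x := by
  obtain ⟨c, rfl⟩ := hx
  obtain ⟨s, hs, h3, h4, h5'⟩ := rC_wC a h5
  have h1 : F.toFlip.rR a = F.rW (prV a) * S.zc s := by
    rw [F.rW_zc, ← hs, h3, h4, h5']
    simp [ev4, H, Flip.rR, Twist.ev, rC]
  refine ⟨x4 s (bif c then 1 else 0), ?_⟩
  rw [h1, ← zc_mul, mul_assoc]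
  congr 2
  rw [F.toFlip.ev_tC]
  cases c
  · rw [cond_false, zc_zero]; simp [pw]
  · rw [cond_true, zc_one]; rfl

/-- `k` acts on the pair by `τ` and on the group modulo the pair by `t` -/
def VAct (k : G) (τ : Fin 4 → Fin 4) (t : Fin 64 → Fin 64) : Prop :=
  (∀ s, k * S.zc s * k⁻¹ = S.zc (τ s)) ∧ ∀ a, F.WC (t a) (k * F.rW a * k⁻¹)

namespace VAct

variable {F} {k l : G} {τ τ' : Fin 4 → Fin 4} {t t' : Fin 64 → Fin 64}

theorem conj (h : F.VAct k τ t) {a : Fin 64} {x : G} (hx : F.WC a x) : F.WC (t a) (k * x * k⁻¹) := by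
  obtain ⟨s, rfl⟩ := hx
  have h1 := F.WC_mul (h.2 a) (F.WC_zero (τ s))
  rw [(x6_zero _).2, ← h.1] at h1
  rwa [show k * (F.rW a * S.zc s) * k⁻¹ = k * F.rW a * k⁻¹ * (k * S.zc s * k⁻¹) by group]

theorem comp (h : F.VAct k τ t) (h' : F.VAct l τ' t') : F.VAct (k * l) (τ ∘ τ') (t ∘ t') := by
  refine ⟨fun s => ?_, fun a => ?_⟩
  · rw [show k * l * S.zc s * (k * l)⁻¹ = k * (l * S.zc s * l⁻¹) * k⁻¹ by group, h'.1, h.1]; rfl
  · rw [show k * l * F.rW a * (k * l)⁻¹ = k * (l * F.rW a * l⁻¹) * k⁻¹ by group]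
    exact h.conj (h'.2 a)

theorem map_add (h : F.VAct k τ t) (a b : Fin 64) : t (x6 a b) = x6 (t a) (t b) := by
  refine F.WC_inj (h.conj (F.rW_mul a b)) ?_
  have := F.WC_mul (h.2 a) (h.2 b)
  rwa [show k * F.rW a * k⁻¹ * (k * F.rW b * k⁻¹) = k * (F.rW a * F.rW b) * k⁻¹ by group] at this

theorem q (h : F.VAct k τ t) (a : Fin 64) : q4 F.δ F.r (t a) = τ (q4 F.δ F.r a) := by
  have h1 := F.WC_sq (h.2 a)
  rw [show k * F.rW a * k⁻¹ * (k * F.rW a * k⁻¹) = k * (F.rW a * F.rW a) * k⁻¹ by group,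
    F.WC_sq (F.WC_self a), h.1] at h1
  exact (zc_inj h1).symm

end VAct

theorem one_vact : F.VAct 1 id id := ⟨fun s => by simp, fun a => by simpa using F.WC_self a⟩

/-- NORMALISING: moving `e` into the group and fixing the pair as a set gives an action. -/
theorem vact_of {k : G} {τ : Fin 4 → Fin 4} (hτ : Function.Bijective τ) (hk : ∀ s, k * S.zc s * k⁻¹ = S.zc (τ s))
    {c : Fin 64} (hc : F.WC c (k⁻¹ * S.e * k)) : ∃ t, F.VAct k τ t := by
  suffices h : ∀ a, ∃ b, F.WC b (k * F.rW a * k⁻¹) by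
    choose t ht using h
    exact ⟨t, hk, ht⟩
  intro a
  have hcent : ∀ s, k * F.rW a * k⁻¹ * S.zc s = S.zc s * (k * F.rW a * k⁻¹) := fun s => by
    obtain ⟨s', rfl⟩ := hτ.2 s
    rw [← hk]
    calc k * F.rW a * k⁻¹ * (k * S.zc s' * k⁻¹) = k * (F.rW a * S.zc s') * k⁻¹ := by group
      _ = k * (S.zc s' * F.rW a) * k⁻¹ := by rw [zc_central s' (F.rW_cent a).1 (F.rW_cent a).2]
      _ = _ := by group
  refine F.WC_of_fix (s := τ (B4 F.δ F.r a c)) (by simpa [zc_one] using hcent 1) (by simpa [zc_two] using hcent 2) ?_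
  calc k * F.rW a * k⁻¹ * S.e * (k * F.rW a * k⁻¹)⁻¹
      = k * (F.rW a * (k⁻¹ * S.e * k) * (F.rW a)⁻¹) * k⁻¹ := by group
    _ = k * (S.zc (B4 F.δ F.r a c) * (k⁻¹ * S.e * k)) * k⁻¹ := by
      rw [F.WC_comm (F.WC_self a) hc]; group
    _ = k * S.zc (B4 F.δ F.r a c) * k⁻¹ * S.e := by group
    _ = _ := by rw [hk]

theorem id_pair {k : G} (hz : k * S.z = S.z * k) (hv : k * S.v = S.v * k) (s : Fin 4) :
    k * S.zc s * k⁻¹ = S.zc (id s) := mul_inv_eq_iff_eq_mul.2 (zc_central s hz hv)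

end Mid

end Cfsg.Lib.CoThreeM
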