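/-
Two configurations remain: the one of `Co₃` and the wreathed one.
-/
import Cfsg.Agent.CoThreeM.Vee
import Cfsg.Agent.CoThreeM.CasesModel

set_option autoImplicit false
set_option linter.unusedSectionVars false
set_option linter.style.haveILetI false
set_option maxRecDepth 10000

namespace Cfsg.Lib.CoThreeM

open Subgroup Cfsg.Lib.M12Cent

universe u

theorem lin_lf {t : Fin 64 → Fin 64} (h : ∀ a b, t (x6 a b) = x6 (t a) (t b)) :
    t = lf ((List.range 6).map fun i => (t ⟨2 ^ i % 64, Nat.mod_lt _ (by norm_num)⟩).val) := by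
  funext a
  set L := (List.range 6).map fun i => (t ⟨2 ^ i % 64, Nat.mod_lt _ (by norm_num)⟩).val with hL
  set b : ℕ → Fin 64 := fun i => bif a.val.testBit i then ⟨2 ^ i % 64, Nat.mod_lt _ (by norm_num)⟩ else 0 with hb
  have h0 : t 0 = 0 := by
    have h1 := h 0 0
    rw [x6_self, x6_self] at h1
    exact h1
  have hsum : a = x6 (x6 (x6 (x6 (x6 (x6 0 (b 0)) (b 1)) (b 2)) (b 3)) (b 4)) (b 5) := by
    have : ∀ a : Fin 64, a = x6 (x6 (x6 (x6 (x6 (x6 0
      (bif a.val.testBit 0 then 1 else 0)) (bif a.val.testBit 1 then 2 else 0)) (bif a.val.testBit 2 then 4 else 0))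
      (bif a.val.testBit 3 then 8 else 0)) (bif a.val.testBit 4 then 16 else 0))
      (bif a.val.testBit 5 then 32 else 0) := by decide +kernel
    exact this a
  have hb' : ∀ i, i < 6 → (t (b i)).val = if a.val.testBit i then L.getD i 0 else 0 := fun i hi => by
    simp only [hb]
    cases a.val.testBit i
    · simp [h0]
    · simp [hL, List.getD_eq_getElem?_getD, hi]
  conv_lhs => rw [hsum]
  simp only [h, h0]
  refine Fin.ext ?_
  have hx : ∀ p q : Fin 64, (x6 p q).val = (p.val ^^^ q.val) % 64 := fun p q => rfl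
  simp only [lf, List.range_succ, List.range_zero, List.nil_append, List.cons_append, List.foldl_cons, List.foldl_nil]
  simp only [hx, hb' 0 (by norm_num), hb' 1 (by norm_num), hb' 2 (by norm_num),
    hb' 3 (by norm_num), hb' 4 (by norm_num), hb' 5 (by norm_num), Fin.val_zero]
  have hm : ∀ x y : ℕ, (x % 64 ^^^ y) % 64 = (x ^^^ y) % 64 := fun x y => by
    rw [show (64 : ℕ) = 2 ^ 6 from rfl, Nat.xor_mod_two_pow, Nat.mod_mod, ← Nat.xor_mod_two_pow]
  cases a.val.testBit 0 <;> cases a.val.testBit 1 <;> cases a.val.testBit 2 <;> cases a.val.testBit 3 <;>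
    cases a.val.testBit 4 <;> cases a.val.testBit 5 <;>
      simp [hm]

variable {G : Type u} [Group G] [Finite G] {S : Setup G}

namespace Mid

variable (F : Mid S)

theorem act_q_central {m : M} (hm : inQ m = true) : F.toFlip.Act (S.ψ m) id := by
  refine ⟨(S.z_ψ m).symm, fun a => ?_⟩
  obtain ⟨b, hb⟩ := F.toFlip.mem_R_of_ev (c := (false, m, false)) hm
  rw [F.toFlip.ev_model] at hb
  refine ⟨B6 b a, mul_inv_eq_iff_eq_mul.2 ?_⟩
  rw [F.toFlip.RC_comm hb (F.toFlip.RC_self a), ← mul_assoc, ← F.toFlip.tC_central _ _ (F.toFlip.rR_z a)]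
  rfl

/-- THE ELEMENT fixing `v` and moving `e`. -/
theorem exists_s0 : ∃ s : G, s * S.z = S.z * s ∧ s * S.v = S.v * s ∧ F.toFlip.Act s (lf (sL F.δ F.r)) := by
  have hy := F.toFlip.act_yM
  have hp := F.toFlip.act_piM
  have hh := F.toFlip.act_h F.hr
  obtain ⟨s0, hs0⟩ : ∃ s0, F.toFlip.Act s0 (lf (sL F.δ F.r)) := by
    cases hδ : F.δ
    · refine ⟨S.ψ yM * (F.toFlip.h * (S.ψ piM * S.ψ yM)), ?_⟩
      have h1 := hy.comp (hh.comp (hp.comp hy))
      convert h1 using 1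
      funext a
      rw [sL_comp, hδ]; rfl
    · refine ⟨S.ψ yM * (F.toFlip.h * S.ψ yM), ?_⟩
      have h1 := hy.comp (hh.comp hy)
      convert h1 using 1
      funext a
      rw [sL_comp, hδ]; rfl
  obtain ⟨c, hc⟩ := hs0.conj F.toFlip.RC_v
  have h4 := (sL_facts F.δ F.r).1
  have hR4 : F.toFlip.rR 4 = S.v := by
    simp [Flip.rR, rC_zero.2.2.1, Twist.ev, Twist.W, Setup.E]; rfl
  rw [h4, hR4] at hc
  cases c
  · refine ⟨s0, hs0.1, mul_inv_eq_iff_eq_mul.1 ?_, hs0⟩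
    rw [hc, F.toFlip.ev_tC]; simp [pw]
  · refine ⟨S.ψ nM * s0, Commute.mul_left (S.z_ψ _).symm hs0.1, mul_inv_eq_iff_eq_mul.1 ?_, ?_⟩
    · have hn : S.ψ nM * S.v * (S.ψ nM)⁻¹ = S.v * S.z := by
        rw [Setup.v, Setup.z, ← map_inv, ← map_mul, ← map_mul, ← map_mul, elt_facts.2.2.2.2.2.2.2.2.2.2.2.2.2.1]
      calc S.ψ nM * s0 * S.v * (S.ψ nM * s0)⁻¹ = S.ψ nM * (s0 * S.v * s0⁻¹) * (S.ψ nM)⁻¹ := by group
        _ = S.ψ nM * (S.v * S.z) * (S.ψ nM)⁻¹ := by rw [hc, F.toFlip.ev_tC]; rfl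
        _ = S.ψ nM * S.v * (S.ψ nM)⁻¹ * (S.ψ nM * S.z * (S.ψ nM)⁻¹) := by group
        _ = S.v := by
          rw [hn, mul_inv_eq_iff_eq_mul.2 (S.z_ψ nM).symm, mul_assoc, S.zz, mul_one]
    · have h1 := (F.act_q_central (m := nM) (by decide +kernel)).comp hs0
      exact h1

/-- THE TWO CASES, with the action of that element modulo the pair. -/
theorem cases_s : F.r = !F.δ ∧ ∃ s : G, s * S.z = S.z * s ∧ s * S.v = S.v * s ∧
    F.toFlip.Act s (lf (sL F.δ F.r)) ∧ F.VAct s id (lf (sV F.δ)) := by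
  obtain ⟨s, hsz, hsv, hs⟩ := F.exists_s0
  obtain ⟨t', hs', htt⟩ := hs.inv
  have hc : F.WC (prV (t' 8)) (s⁻¹ * S.e * s) := by
    refine F.WC_of_RC ((sL_facts F.δ F.r).2.1 _ (htt 8)) ?_
    have := hs'.conj F.toFlip.RC_e
    rwa [inv_inv] at this
  obtain ⟨t, ht⟩ := F.vact_of Function.bijective_id (id_pair hsz hsv) hc
  have hfix : ∀ i : Fin 4, t (prV (([1, 2, 8, 16] : List (Fin 64)).getD i.val 0)) =
      prV (lf (sL F.δ F.r) (([1, 2, 8, 16] : List (Fin 64)).getD i.val 0)) := fun i => by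
    set a := ([1, 2, 8, 16] : List (Fin 64)).getD i.val 0
    have ha : a.val.testBit 5 = false := by
      have : ∀ i : Fin 4, ((([1, 2, 8, 16] : List (Fin 64)).getD i.val 0)).val.testBit 5 = false := by decide +kernel
      exact this i
    exact F.WC_inj (ht.conj (F.WC_of_RC ha (F.toFlip.RC_self a)))
      (F.WC_of_RC ((sL_facts F.δ F.r).2.2 i) (hs.2 a))
  obtain ⟨-, -, -, -, -, -, p1, p2, p16, -, -⟩ := dT_facts
  have e1 : t 1 = prV (lf (sL F.δ F.r) 1) := by have := hfix 0; simpa [p1] using this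
  have e2 : t 2 = prV (lf (sL F.δ F.r) 2) := by have := hfix 1; simpa [p2] using this
  have e8 : t 8 = prV (lf (sL F.δ F.r) 8) := by
    have := hfix 2; simpa [wC_units.2.2.2.2.2.2.2.2.1] using this
  have e16 : t 16 = prV (lf (sL F.δ F.r) 16) := by have := hfix 3; simpa [p16] using this
  have hl : t = lf (sCand F.δ F.r (t 4) (t 32)) := by
    conv_lhs => rw [lin_lf ht.map_add]
    congr 1
    simp [sCand, List.range_succ, ← e1, ← e2, ← e8, ← e16]
  have hq : ((List.range 64).all fun x => q4 F.δ F.r (lf (sCand F.δ F.r (t 4) (t 32)) ⟨x % 64, Nat.mod_lt _ (by norm_num)⟩) ==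
      q4 F.δ F.r ⟨x % 64, Nat.mod_lt _ (by norm_num)⟩) = true := by
    rw [List.all_eq_true]
    intro x _
    rw [beq_iff_eq, ← hl]
    exact ht.q _
  obtain ⟨hne, heq⟩ := s_ext _ _ _ _ hq
  rw [heq] at hl
  refine ⟨?_, s, hsz, hsv, hs, hl ▸ ht⟩
  revert hne
  cases F.δ <;> cases F.r <;> simp

theorem d_act : F.VAct S.d dT (lf (dV F.δ)) := by
  obtain ⟨hbij, dz, dv, hz, hv, hzm, -, -, -, -, -⟩ := dT_facts
  have hdψ : ∀ l : M, inK (dM * l * dM⁻¹) = true → S.d * S.ψ l * S.d⁻¹ = S.ψ (nC (dM * l * dM⁻¹)) := fun l hl => by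
    rw [Setup.d, mul_inv_rev, S.n_inv, ← S.n_conj hl]
    simp only [map_mul, map_inv]
    group
  have hτ : ∀ s, S.d * S.zc s * S.d⁻¹ = S.zc (dT s) := fun s => by
    have h1 : ∀ (b : Bool) (m m' : M), S.d * S.ψ m * S.d⁻¹ = S.ψ m' →
        S.d * S.ψ (pw b m) * S.d⁻¹ = S.ψ (pw b m') := fun b m m' h => by
      cases b
      · simp [pw]
      · exact h
    have e1 := h1 (s.val.testBit 0) tau a6 (by rw [hdψ _ hz, dz])
    have e2 := h1 (s.val.testBit 1) a6 (tau * a6) (by rw [hdψ _ hv, dv])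
    rw [Setup.zc, Setup.zc, hzm, zM, map_mul, map_mul, ← e1, ← e2]; group
  have hde : S.d⁻¹ * S.e * S.d = S.e := by
    have : S.e * S.d = S.d * S.e := Commute.mul_right S.e_n (S.e_ψ _)
    rw [mul_assoc, this, inv_mul_cancel_left]
  obtain ⟨t, ht⟩ := F.vact_of hbij hτ (hde.symm ▸ F.WC_e)
  have t8 : t 8 = 8 := F.WC_inj (ht.conj F.WC_e) (by
    have : S.d * S.e * S.d⁻¹ = S.e := mul_inv_eq_iff_eq_mul.2 ((Commute.mul_right S.e_n (S.e_ψ _)).symm)
    rw [this]; exact F.WC_e)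
  have hu : ∀ i : Fin 3, t (([1, 2, 4] : List (Fin 64)).getD i.val 0) = ([1, 7, 3] : List (Fin 64)).getD i.val 0 :=
    fun i => by
    obtain ⟨hk, s, hs⟩ := d_units i
    refine F.WC_inj (ht.2 _) ⟨s, ?_⟩
    have hb : ∀ i : Fin 3, ∀ j : Fin 3,
        ((([1, 2, 4] : List (Fin 64)).getD i.val 0)).val.testBit (3 + j.val) = false ∧
        ((([1, 7, 3] : List (Fin 64)).getD i.val 0)).val.testBit (3 + j.val) = false := by decide +kernel
    have b3 := hb i 0
    have b4 := hb i 1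
    have b5 := hb i 2
    simp only [Fin.val_zero, Fin.val_one, Fin.val_two, add_zero] at b3 b4 b5
    have hrw : ∀ a : Fin 64, a.val.testBit 3 = false → a.val.testBit (3 + 1) = false → a.val.testBit (3 + 2) = false →
        F.rW a = S.ψ (lW a) := fun a h3 h4 h5 => by
      simp [rW, ev4, wC, H, Twist.W, Setup.E, h3, h4, h5]
    rw [hrw _ b3.1 b4.1 b5.1, hdψ _ hk, hs, hrw _ b3.2 b4.2 b5.2, map_mul]
    rfl
  have e1 : t 1 = 1 := hu 0
  have e2 : t 2 = 7 := hu 1
  have e4 : t 4 = 3 := hu 2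
  have hl : t = lf [1, 7, 3, 8, (t 16).val, (t 32).val] := by
    conv_lhs => rw [lin_lf ht.map_add]
    congr 1
    simp [List.range_succ, e1, e2, e4, t8]
  have hcase := F.cases_s.1
  have := d_ext F.δ F.r (by rw [hcase]; cases F.δ <;> rfl) (t 16) (t 32) (by
    rw [List.all_eq_true]
    intro x _
    rw [beq_iff_eq, ← hl]
    exact ht.q _)
  rwa [hl, this] at ht

end Mid

end Cfsg.Lib.CoThreeM
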