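/-
Checks of the tables of the automizers.
-/
import Cfsg.Agent.CoThreeM.CasesModel
import Cfsg.Agent.CoThreeM.XData

set_option autoImplicit false
set_option maxRecDepth 100000

namespace Cfsg.Lib.CoThreeM

open Cfsg.Lib.M12Cent

/-- unpack -/
def up (n : ℕ) : List ℕ := (List.range 6).map fun i => (n >>> (6 * i)) % 64
/-- a packed map -/
def mapOf (n : ℕ) : Fin 64 → Fin 64 := lf (up n)
/-- all codes -/
def all64 : List (Fin 64) := (List.range 64).map fun x => ⟨x % 64, Nat.mod_lt _ (by norm_num)⟩
/-- pack -/
def pk6 (t : Fin 64 → Fin 64) : ℕ :=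
  ((List.range 6).map fun i => (t ⟨2 ^ i % 64, Nat.mod_lt _ (by norm_num)⟩).val <<< (6 * i)).sum

/-- images of the units -/
def units (t : Fin 64 → Fin 64) : List ℕ :=
  (List.range 6).map fun i => (t ⟨2 ^ i % 64, Nat.mod_lt _ (by norm_num)⟩).val

/-- the four generators -/
def gen4 (δ : Bool) (k : ℕ) (g : ℕ) : Fin 64 → Fin 64 :=
  if g = 0 then lf yL else if g = 1 then lf piL else if g = 2 then lf (rhoL δ !δ) else mapOf k

/-- value of a word -/
def evW4 (δ : Bool) (k : ℕ) (w : List ℕ) (a : Fin 64) : Fin 64 := w.foldr (fun g x => gen4 δ k g x) a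

/-- the six maps of the stabiliser of `e` -/
def s3W : List (List ℕ) := [[], [0], [0, 0], [1], [0, 1], [0, 0, 1]]

/-- the lifts -/
def candL (δ : Bool) : List (ℕ × ℕ × List ℕ) := bif δ then candA else candW
/-- the table of a group -/
def grpOf (δ : Bool) (g : ℕ) : List (ℕ × ℕ × ℕ) := bif δ then (if g = 0 then grpA else grpB) else grpW
/-- its fourth generator -/
def kOf (δ : Bool) (g : ℕ) : ℕ := repK.getD (bif δ then (if g = 0 then 0 else 1) else 2) 0

/-- the image of a unit with the bit of `v` free -/
def gBase (i : Fin 4) : ℕ := ([25, 2, 18, 10] : List ℕ).getD i.val 0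

/-- a candidate lift -/
def liftL (c : Fin 16) (t : Fin 64) : List ℕ :=
  [gBase 0 ^^^ (if c.val.testBit 0 then 4 else 0), gBase 1 ^^^ (if c.val.testBit 1 then 4 else 0), 4,
    gBase 2 ^^^ (if c.val.testBit 2 then 4 else 0), gBase 3 ^^^ (if c.val.testBit 3 then 4 else 0), t.val]

theorem lift_cover : ∀ δ : Bool, ∀ c : Fin 16, ∀ t : Fin 64, q6 t = q6 32 →
    (∀ i : Fin 5, B6 t (lf (liftL c t) ⟨2 ^ i.val % 64, Nat.mod_lt _ (by norm_num)⟩) =
      B6 32 ⟨2 ^ i.val % 64, Nat.mod_lt _ (by norm_num)⟩) →
    ((candL δ).any fun r => up r.1 == liftL c t) = true := by decide +kernel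

theorem lift_check : ∀ δ : Bool, ((candL δ).all fun r =>
    if r.2.1 = 2 then (evW4 δ r.1 r.2.2 8 == 8) &&
      s3W.all fun s => all64.any fun a => !(evW4 δ r.1 r.2.2 a == evW4 δ r.1 s a)
    else (decide (r.2.1 < 2)) && all64.all fun a => evW4 δ r.1 r.2.2 a == mapOf (kOf δ r.2.1) a) = true := by
  decide +kernel

/-- one row of a table is built from its generators -/
def rowCheck (δ : Bool) (g i : ℕ) : Bool :=
  let r := (grpOf δ g).getD i (0, 0, 0)
  if i = 0 then units id == up r.2.2
  else decide (r.2.1 < i) &&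
    units (fun a => gen4 δ (kOf δ g) r.1 (mapOf ((grpOf δ g).getD r.2.1 (0, 0, 0)).2.2 a)) == up r.2.2

/-- the rows of a table -/
def grpCheck (δ : Bool) (g : ℕ) : Bool := (List.range (grpOf δ g).length).all fun i => rowCheck δ g i

theorem grp_check0 : grpCheck true 0 = true := by decide +kernel
theorem grp_check1 : grpCheck true 1 = true := by decide +kernel
theorem grp_checkW : grpCheck false 0 = true := by decide +kernel

theorem grp_check : ∀ δ : Bool, ∀ g : Fin 2, grpCheck δ g.val = true := by
  intro δ g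
  fin_cases g <;> cases δ
  · exact grp_checkW
  · exact grp_check0
  · exact grp_checkW
  · exact grp_check1

/-- the multiplication table on the right -/
def clOf (g : ℕ) : List ℕ := if g = 0 then clA else clB

/-- one row times a generator of the stabiliser stays in the table -/
def closeCheck (g i x : ℕ) : Bool :=
  let j := (clOf g).getD (2 * i + x) 0
  decide (j < (grpOf true g).length) &&
    units (fun a => mapOf ((grpOf true g).getD i (0, 0, 0)).2.2 (gen4 true 0 x a)) ==
      up ((grpOf true g).getD j (0, 0, 0)).2.2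

/-- all rows -/
def closeAll (g : ℕ) : Bool :=
  (List.range (grpOf true g).length).all fun i => closeCheck g i 0 && closeCheck g i 1

theorem grp_closed0 : closeAll 0 = true := by decide +kernel
theorem grp_closed1 : closeAll 1 = true := by decide +kernel

theorem grp_closed : ∀ g : Fin 2, closeAll g.val = true := by
  intro g
  fin_cases g
  · exact grp_closed0
  · exact grp_closed1

theorem grp_orbit : ∀ g : Fin 2, ∀ j : Fin 64, q6 j = false → j ≠ 0 →
    ((grpOf true g.val).any fun r => mapOf r.2.2 8 == j || mapOf r.2.2 j == 4) = true := by decide +kernel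

theorem grp_sizes : ∀ δ : Bool, ∀ g : Fin 2, 0 < (grpOf δ g.val).length := by decide +kernel

end Cfsg.Lib.CoThreeM
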