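/-
Small facts used to find the lifts.
-/
import Cfsg.Agent.CoThreeM.CasesModel

set_option autoImplicit false
set_option maxRecDepth 100000

namespace Cfsg.Lib.CoThreeM

open Cfsg.Lib.M12Cent

/-- the images modulo the pair of the word in the conjugates -/
def xImg (δ : Bool) (a : Fin 64) : Fin 64 :=
  let dv := lf (dV δ)
  let s := lf (sV δ)
  let di := fun b => dv (dv b)
  let A := fun b => dv (s (di b))
  let B := fun b => di (s (dv b))
  bif δ then A (B (A a)) else B (A a)

theorem d_cube : ∀ δ : Bool, ∀ a : Fin 64, lf (dV δ) (lf (dV δ) (lf (dV δ) a)) = a := by decide +kernel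

theorem x_units : ∀ δ : Bool, xImg δ 1 = 25 ∧ xImg δ 2 = 2 ∧ xImg δ 8 = 18 ∧ xImg δ 16 = 10 := by decide +kernel

theorem back_code : ∀ a : Fin 64, a.val.testBit 2 = false → a.val.testBit 5 = false → ∀ s : Fin 4,
    ∃ (b : Fin 64) (c : Bool), b.val.testBit 5 = false ∧ b.val.testBit 3 = a.val.testBit 3 ∧
      b.val.testBit 4 = a.val.testBit 4 ∧ lW a * zM s = qrep b * pw c tau := by decide +kernel

theorem prV_fibre : ∀ b : Fin 64, b.val.testBit 5 = false → ∀ j : Fin 4,
    prV b = ([25, 2, 18, 10] : List (Fin 64)).getD j.val 0 →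
      ∃ bit : Bool, b.val = ([25, 2, 18, 10] : List ℕ).getD j.val 0 ^^^ (if bit then 4 else 0) := by decide +kernel

theorem bit_five : ∀ b : Fin 64, B6 b 4 = b.val.testBit 5 := by decide +kernel

theorem unit_bit5 : ∀ i : Fin 4, (([1, 2, 8, 16] : List (Fin 64)).getD i.val 0).val.testBit 5 = false ∧
    prV (([1, 2, 8, 16] : List (Fin 64)).getD i.val 0) = ([1, 2, 8, 16] : List (Fin 64)).getD i.val 0 := by
  decide +kernel

theorem pick_bits : ∀ b0 b1 b2 b3 : Bool, ∃ c : Fin 16,
    c.val.testBit 0 = b0 ∧ c.val.testBit 1 = b1 ∧ c.val.testBit 2 = b2 ∧ c.val.testBit 3 = b3 := by decide +kernel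

end Cfsg.Lib.CoThreeM
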