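/-
The group of actions on `R`.
-/
import Cfsg.Agent.CoThreeM.Cases
import Cfsg.Agent.CoThreeM.XUnits
import Cfsg.Agent.CoThreeM.XModel

set_option autoImplicit false
set_option linter.unusedSectionVars false
set_option linter.style.haveILetI false
set_option maxRecDepth 10000

namespace Cfsg.Lib.CoThreeM

open Subgroup Cfsg.Lib.M12Cent

universe u

theorem units_eq {t : Fin 64 → Fin 64} (h : ∀ a b, t (x6 a b) = x6 (t a) (t b)) {n : ℕ}
    (hn : units t = up n) : t = mapOf n := by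
  rw [mapOf, ← hn]
  exact lin_lf h

variable {G : Type u} [Group G] [Finite G] {S : Setup G}

namespace Mid

variable (F : Mid S)

theorem act_e : F.toFlip.Act S.e id := by
  refine ⟨S.e_z, fun a => ⟨B6 8 a, mul_inv_eq_iff_eq_mul.2 ?_⟩⟩
  rw [F.toFlip.RC_comm F.toFlip.RC_e (F.toFlip.RC_self a), ← mul_assoc,
    ← F.toFlip.tC_central _ _ (F.toFlip.rR_z a)]
  rfl

theorem act_w : F.toFlip.Act F.w id := by
  refine ⟨F.wz, fun a => ⟨B6 16 a, mul_inv_eq_iff_eq_mul.2 ?_⟩⟩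
  rw [F.toFlip.RC_comm F.toFlip.RC_w (F.toFlip.RC_self a), ← mul_assoc,
    ← F.toFlip.tC_central _ _ (F.toFlip.rR_z a)]
  rfl

theorem act_E (i : Bool) : F.toFlip.Act (S.E i) id := by
  cases i
  · exact F.toFlip.one_act
  · exact F.act_e

theorem act_W (j : Bool) : F.toFlip.Act (F.W j) id := by
  cases j
  · exact F.toFlip.one_act
  · exact F.act_w

theorem act_pow {k : G} {t : Fin 64 → Fin 64} (h : F.toFlip.Act k t) : ∀ n : ℕ, F.toFlip.Act (k ^ n) t^[n]
  | 0 => by rw [pow_zero]; exact F.toFlip.one_act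
  | n + 1 => by rw [pow_succ, Function.iterate_succ]; exact (act_pow h n).comp h

/-- the generators have lifts -/
theorem gen4_act {k0 : G} {k : ℕ} (hk : F.toFlip.Act k0 (mapOf k)) (g : ℕ) :
    ∃ x, F.toFlip.Act x (gen4 F.δ k g) := by
  unfold gen4
  split_ifs
  · exact ⟨_, F.toFlip.act_yM⟩
  · exact ⟨_, F.toFlip.act_piM⟩
  · refine ⟨F.toFlip.h, ?_⟩
    rw [← F.cases_s.1]
    exact F.toFlip.act_h F.hr
  · exact ⟨k0, hk⟩

theorem evW4_act {k0 : G} {k : ℕ} (hk : F.toFlip.Act k0 (mapOf k)) :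
    ∀ w : List ℕ, ∃ x, F.toFlip.Act x (evW4 F.δ k w)
  | [] => ⟨1, F.toFlip.one_act⟩
  | g :: w => by
    obtain ⟨x, hx⟩ := F.gen4_act hk g
    obtain ⟨x', hx'⟩ := evW4_act hk w
    exact ⟨x * x', hx.comp hx'⟩

theorem evW4_zero (w : List ℕ) (hw : ∀ g ∈ w, g < 2) (δ : Bool) (k k' : ℕ) : evW4 δ k w = evW4 δ k' w := by
  induction w with
  | nil => rfl
  | cons g w ih =>
    funext a
    have hg := hw g List.mem_cons_self
    show gen4 δ k g (evW4 δ k w a) = gen4 δ k' g (evW4 δ k' w a)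
    rw [ih fun x hx => hw x (List.mem_cons_of_mem _ hx)]
    simp only [gen4]
    split_ifs with h0 h1
    · rfl
    · rfl
    all_goals omega

/-- THE STABILISER of `e` acts as the complement of the model. -/
theorem stab {k : G} {t : Fin 64 → Fin 64} (h : F.toFlip.Act k t) (h8 : t 8 = 8) (k' : ℕ) :
    ∃ w ∈ s3W, t = evW4 F.δ k' w := by
  obtain ⟨d, hd⟩ := h.conj F.toFlip.RC_e
  have hR8 : F.toFlip.rR 8 = S.e := by simp [Flip.rR, rC_zero.2.1, Twist.ev, Twist.W, Setup.E]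
  rw [h8, hR8, F.toFlip.ev_tC] at hd
  have he : k * S.e * k⁻¹ = S.e ∨ k * S.e * k⁻¹ = S.e * S.z := by
    cases d
    · exact Or.inl (by simpa [pw] using hd)
    · exact Or.inr hd
  obtain ⟨⟨i, m, j⟩, rfl⟩ := F.toTwist.mem_K0 h.1 he
  obtain ⟨q, p, b, rfl, -⟩ := gen_cover m
  have hq : inQ (gQ aM bM yM q) = true := by
    have : ∀ q : Fin 32, inQ (gQ aM bM yM q) = true := by decide +kernel
    exact this q
  have hpi : F.toFlip.Act (S.ψ (pw b piM)) (bif b then lf piL else id) := by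
    cases b
    · show F.toFlip.Act (S.ψ 1) id
      rw [map_one]; exact F.toFlip.one_act
    · exact F.toFlip.act_piM
  have hall := ((F.act_E i).comp (((F.act_q_central hq).comp (F.act_pow F.toFlip.act_yM p.val)).comp hpi)).comp
    (F.act_W j)
  have hev : F.ev (i, gQ aM bM yM q * yM ^ p.val * pw b piM, j) =
      S.E i * (S.ψ (gQ aM bM yM q) * S.ψ yM ^ p.val * S.ψ (pw b piM)) * F.W j := by
    simp only [Twist.ev, map_mul, map_pow]
  rw [hev] at h
  have ht := h.unique hall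
  rw [ht]
  fin_cases p <;> cases b
  · exact ⟨[], by simp [s3W], rfl⟩
  · exact ⟨[1], by simp [s3W], rfl⟩
  · exact ⟨[0], by simp [s3W], rfl⟩
  · exact ⟨[0, 1], by simp [s3W], rfl⟩
  · exact ⟨[0, 0], by simp [s3W], rfl⟩
  · exact ⟨[0, 0, 1], by simp [s3W], rfl⟩

theorem VAct_inv {k : G} {τ : Fin 4 → Fin 4} {t : Fin 64 → Fin 64} (hτ : Function.Bijective τ) (h : F.VAct k τ t) :
    ∃ τ' t', F.VAct k⁻¹ τ' t' ∧ (∀ a, t (t' a) = a) ∧ ∀ s, τ (τ' s) = s := by
  have hinj : Function.Injective t := fun a b hab => by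
    obtain ⟨s, hs⟩ := h.2 a
    obtain ⟨s', hs'⟩ := h.2 b
    rw [← hab] at hs'
    obtain ⟨c, hc⟩ := hτ.2 (x4 s' s)
    refine F.WC_inj (F.WC_self a) ⟨c, mul_left_cancel (a := k) (mul_right_cancel (b := k⁻¹) ?_)⟩
    calc k * F.rW a * k⁻¹ = F.rW (t a) * S.zc s' * S.zc (x4 s' s) := by
          rw [hs, mul_assoc _ (S.zc s'), zc_mul, ← (x4_facts s' s' s).2.2.2.2, (x4_facts s' 0 0).1,
            (x4_facts s 0 0).2.1]
      _ = k * F.rW b * k⁻¹ * (k * S.zc c * k⁻¹) := by rw [← hs', h.1, hc]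
      _ = k * (F.rW b * S.zc c) * k⁻¹ := by group
  choose τ' hτ' using hτ.2
  choose t' ht' using (Finite.injective_iff_surjective.1 hinj)
  refine ⟨τ', t', ⟨fun s => ?_, fun a => ?_⟩, ht', hτ'⟩
  · conv_lhs => rw [← hτ' s, ← h.1]
    group
  · obtain ⟨s, hs⟩ := h.2 (t' a)
    rw [ht'] at hs
    obtain ⟨c, hc⟩ := hτ.2 s
    refine ⟨c, ?_⟩
    have h1 : F.rW a = k * (F.rW (t' a) * S.zc c) * k⁻¹ := by
      calc F.rW a = k * F.rW (t' a) * k⁻¹ * S.zc s := by
            rw [hs, mul_assoc, zc_mul, (x4_facts s 0 0).1, zc_zero, mul_one]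
        _ = k * F.rW (t' a) * k⁻¹ * (k * S.zc c * k⁻¹) := by rw [h.1, hc]
        _ = _ := by group
    rw [h1]; group

/-- THE MOVING ELEMENT: a lift in the table. -/
theorem exists_lift : ∃ (k0 : G) (r : ℕ × ℕ × List ℕ), r ∈ candL F.δ ∧ F.toFlip.Act k0 (mapOf r.1) := by
  obtain ⟨-, s, hsz, hsv, -, hs⟩ := F.cases_s
  obtain ⟨τ', t', hd', htt, hττ⟩ := F.VAct_inv dT_facts.1 F.d_act
  have ht' : t' = fun a => lf (dV F.δ) (lf (dV F.δ) a) := funext fun a => by
    have h1 : ∀ b c, lf (dV F.δ) b = lf (dV F.δ) c → b = c := fun b c h => by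
      rw [← d_cube F.δ b, ← d_cube F.δ c, h]
    exact h1 _ _ ((htt a).trans (d_cube F.δ a).symm)
  have hτ1 : dT ∘ id ∘ τ' = id := funext hττ
  have hτ2 : τ' ∘ id ∘ dT = id := funext fun a => dT_facts.1.1 (hττ (dT a))
  have hA := (F.d_act.comp (hs.comp hd'))
  rw [hτ1] at hA
  have hB := (hd'.comp (hs.comp F.d_act))
  rw [hτ2] at hB
  obtain ⟨x, hx⟩ : ∃ x, F.VAct x id (xImg F.δ) := by
    cases hδ : F.δ
    · refine ⟨(S.d⁻¹ * (s * S.d)) * (S.d * (s * S.d⁻¹)), ?_⟩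
      convert hB.comp hA using 1
      all_goals first | rfl | (funext a; simp [xImg, hδ, ht'])
    · refine ⟨(S.d * (s * S.d⁻¹)) * ((S.d⁻¹ * (s * S.d)) * (S.d * (s * S.d⁻¹))), ?_⟩
      convert hA.comp (hB.comp hA) using 1
      all_goals first | rfl | (funext a; simp [xImg, hδ, ht'])
  have hxz : x * S.z = S.z * x := by
    have := hx.1 1; rw [id, zc_one] at this; exact mul_inv_eq_iff_eq_mul.1 this
  have hxv : x * S.v = S.v * x := by
    have := hx.1 2; rw [id, zc_two] at this; exact mul_inv_eq_iff_eq_mul.1 this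
  obtain ⟨u1, u2, u8, u16⟩ := x_units F.δ
  obtain ⟨sg, hsg⟩ := hx.conj F.WC_e
  rw [u8] at hsg
  obtain ⟨b, c, hb5, hb3, hb4, hb⟩ := back_code 18 (by decide) (by decide) sg
  have heR : F.toFlip.RC b (x * S.e * x⁻¹) := by
    refine ⟨c, ?_⟩
    rw [hsg, F.rW_zc, Flip.rR, ← F.toFlip.ev_tC_mul]
    have e1 : mulD false (rC b) (tC c) = ((18 : Fin 64).val.testBit 3, lW 18 * zM sg, (18 : Fin 64).val.testBit 4) := by
      rw [hb, ← hb3, ← hb4]
      simp only [mulD, tC, rC]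
      rcases Bool.eq_false_or_eq_true (b.val.testBit 4) with h4 | h4 <;> simp [h4, tw, pw]
    rw [e1]
    simp [ev4, H, show (18 : ℕ).testBit 5 = false from by decide, Twist.ev]
  obtain ⟨t, ht⟩ := F.toFlip.act_of_e hxz heR
  have t4 : t 4 = 4 := F.toFlip.RC_inj (ht.conj F.toFlip.RC_v) (by
    rw [mul_inv_eq_iff_eq_mul.2 hxv]; exact F.toFlip.RC_v)
  have himg : ∀ i : Fin 4, ∃ bit : Bool,
      (t (([1, 2, 8, 16] : List (Fin 64)).getD i.val 0)).val =
        ([25, 2, 18, 10] : List ℕ).getD i.val 0 ^^^ (if bit then 4 else 0) := fun i => by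
    obtain ⟨ha5, hap⟩ := unit_bit5 i
    set a := ([1, 2, 8, 16] : List (Fin 64)).getD i.val 0 with ha
    have h5 : (t a).val.testBit 5 = false := by
      rw [← bit_five, ← t4, ht.B, bit_five, ha5]
    refine prV_fibre _ h5 i ?_
    have h1 : prV (t a) = xImg F.δ a := F.WC_inj (F.WC_of_RC h5 (ht.2 a)) (by
      have h2 := hx.conj (F.WC_of_RC ha5 (F.toFlip.RC_self a))
      rwa [hap] at h2)
    rw [h1, ha]
    fin_cases i
    exacts [u1, u2, u8, u16]
  obtain ⟨b0, e0⟩ := himg 0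
  obtain ⟨b1, e1⟩ := himg 1
  obtain ⟨b2, e2⟩ := himg 2
  obtain ⟨b3, e3⟩ := himg 3
  obtain ⟨cc, c0, c1, c2, c3⟩ := pick_bits b0 b1 b2 b3
  have hl : t = lf (liftL cc (t 32)) := by
    conv_lhs => rw [lin_lf ht.map_add]
    congr 1
    simp only [List.getD_cons_zero, List.getD_cons_succ, Fin.val_zero, Fin.val_one, Fin.val_two,
      show ((3 : Fin 4).val) = 3 from rfl] at e0 e1 e2 e3
    simp [liftL, gBase, List.range_succ, c0, c1, c2, c3, ← e0, ← e1, ← e2, ← e3, t4]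
  have hcov := lift_cover F.δ cc (t 32) (ht.q 32) fun i => by rw [← hl, ht.B]
  obtain ⟨r, hr, hr'⟩ := List.any_eq_true.1 hcov
  refine ⟨x, r, hr, ?_⟩
  rw [mapOf, beq_iff_eq.1 hr', ← hl]
  exact ht

/-- THE TABLE of the group consists of actions. -/
theorem exists_table : ∃ g : Fin 2, ∀ i, i < (grpOf F.δ g.val).length →
    ∃ k, F.toFlip.Act k (mapOf ((grpOf F.δ g.val).getD i (0, 0, 0)).2.2) := by
  obtain ⟨k0, r, hr, hk0⟩ := F.exists_lift
  have hc := List.all_eq_true.1 (lift_check F.δ) r hr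
  obtain ⟨x, hx⟩ := F.evW4_act hk0 r.2.2
  split_ifs at hc with h2
  · exfalso
    simp only [Bool.and_eq_true, beq_iff_eq, List.all_eq_true, List.any_eq_true] at hc
    obtain ⟨w, hw, htw⟩ := F.stab hx hc.1 r.1
    obtain ⟨a, -, ha⟩ := hc.2 w hw
    simp [htw] at ha
  simp only [Bool.and_eq_true, decide_eq_true_eq, List.all_eq_true, beq_iff_eq] at hc
  have hrep : evW4 F.δ r.1 r.2.2 = mapOf (kOf F.δ r.2.1) := funext fun a => hc.2 a (by
    simp only [all64, List.mem_map, List.mem_range]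
    exact ⟨a.val, a.isLt, Fin.ext (Nat.mod_eq_of_lt a.isLt)⟩)
  rw [hrep] at hx
  refine ⟨⟨r.2.1, hc.1⟩, ?_⟩
  intro i
  induction i using Nat.strong_induction_on with
  | _ i ih =>
    intro hi
    have hchk := List.all_eq_true.1 (grp_check F.δ ⟨r.2.1, hc.1⟩) i (List.mem_range.2 hi)
    simp only [rowCheck] at hchk
    split_ifs at hchk with h0
    · refine ⟨1, ?_⟩
      rw [← units_eq (t := id) (fun _ _ => rfl) (beq_iff_eq.1 hchk)]
      exact F.toFlip.one_act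
    simp only [Bool.and_eq_true, decide_eq_true_eq, beq_iff_eq] at hchk
    obtain ⟨kp, hkp⟩ := ih _ hchk.1 (hchk.1.trans hi)
    obtain ⟨kg, hkg⟩ := F.gen4_act hx ((grpOf F.δ r.2.1).getD i (0, 0, 0)).1
    refine ⟨kg * kp, ?_⟩
    rw [← units_eq (hkg.comp hkp).map_add hchk.2]
    exact hkg.comp hkp

theorem not_conj_v (k : G) : k * S.e * k⁻¹ ≠ S.v ∧ k * S.e * k⁻¹ ≠ S.v * S.z := by
  have h : ∀ k : G, k * S.e * k⁻¹ ≠ S.v := fun k h => S.not_conj_z (S.n * k) (by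
    calc S.n * k * S.e * (S.n * k)⁻¹ = S.n * (k * S.e * k⁻¹) * S.n⁻¹ := by group
      _ = S.z := by rw [h, S.n_inv, S.n_v])
  refine ⟨h k, fun h' => h (S.ψ nM * k) ?_⟩
  have hn : S.ψ nM * S.v * (S.ψ nM)⁻¹ = S.v * S.z := by
    rw [Setup.v, Setup.z, ← map_inv, ← map_mul, ← map_mul, ← map_mul, elt_facts.2.2.2.2.2.2.2.2.2.2.2.2.2.1]
  calc S.ψ nM * k * S.e * (S.ψ nM * k)⁻¹ = S.ψ nM * (k * S.e * k⁻¹) * (S.ψ nM)⁻¹ := by group
    _ = S.ψ nM * S.v * (S.ψ nM)⁻¹ * (S.ψ nM * S.z * (S.ψ nM)⁻¹) := by rw [h']; group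
    _ = S.v := by rw [hn, mul_inv_eq_iff_eq_mul.2 (S.z_ψ nM).symm, mul_assoc, S.zz, mul_one]

theorem close_word (hδ : F.δ = true) {g : Fin 2} (hg : ∀ i, i < (grpOf true g.val).length →
    ∃ k, F.toFlip.Act k (mapOf ((grpOf true g.val).getD i (0, 0, 0)).2.2)) :
    ∀ w : List ℕ, (∀ x ∈ w, x < 2) → ∀ i, i < (grpOf true g.val).length → ∃ j, j < (grpOf true g.val).length ∧
      (fun a => mapOf ((grpOf true g.val).getD i (0, 0, 0)).2.2 (evW4 true 0 w a)) =
        mapOf ((grpOf true g.val).getD j (0, 0, 0)).2.2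
  | [], _, i, hi => ⟨i, hi, rfl⟩
  | x :: w, hw, i, hi => by
    have hx := hw x List.mem_cons_self
    have hch := List.all_eq_true.1 (grp_closed g) i (List.mem_range.2 hi)
    simp only [Bool.and_eq_true] at hch
    have hc : closeCheck g.val i x = true := by
      interval_cases x
      exacts [hch.1, hch.2]
    simp only [closeCheck, Bool.and_eq_true, decide_eq_true_eq, beq_iff_eq] at hc
    obtain ⟨hj, hu⟩ := hc
    obtain ⟨ki, hki⟩ := hg i hi
    obtain ⟨kx, hkx⟩ : ∃ kx, F.toFlip.Act kx (gen4 true 0 x) := by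
      interval_cases x
      exacts [⟨_, F.toFlip.act_yM⟩, ⟨_, F.toFlip.act_piM⟩]
    have e1 := units_eq (hki.comp hkx).map_add hu
    obtain ⟨j, hj', hje⟩ := close_word hδ hg w (fun y hy => hw y (List.mem_cons_of_mem _ hy)) _ hj
    refine ⟨j, hj', ?_⟩
    rw [← hje, ← e1]
    rfl

/-- THE AUTOMIZER in the first case is the table. -/
theorem autom_eq (hδ : F.δ = true) : ∃ g : Fin 2,
    (∀ i, i < (grpOf true g.val).length → ∃ k, F.toFlip.Act k (mapOf ((grpOf true g.val).getD i (0, 0, 0)).2.2)) ∧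
    ∀ k t, F.toFlip.Act k t → ∃ r ∈ grpOf true g.val, t = mapOf r.2.2 := by
  obtain ⟨g, hg⟩ := F.exists_table
  rw [hδ] at hg
  refine ⟨g, hg, fun k t ht => ?_⟩
  have hmemAct : ∀ r ∈ grpOf true g.val, ∃ k', F.toFlip.Act k' (mapOf r.2.2) := fun r hr => by
    obtain ⟨i, hi, rfl⟩ := List.getElem_of_mem hr
    obtain ⟨k', hk'⟩ := hg i hi
    rw [List.getD_eq_getElem _ _ hi] at hk'
    exact ⟨k', hk'⟩
  have hq : q6 (t 8) = false := by rw [ht.q]; decide +kernel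
  have hne : t 8 ≠ 0 := fun h => by
    have h0 : t 0 = 0 := by
      have := ht.map_add 0 0
      rw [x6_self, x6_self] at this
      exact this
    exact absurd (ht.injective (h.trans h0.symm)) (by decide)
  obtain ⟨r, hr, horb⟩ := List.any_eq_true.1 (grp_orbit g (t 8) hq hne)
  obtain ⟨k', hk'⟩ := hmemAct r hr
  simp only [Bool.or_eq_true, beq_iff_eq] at horb
  rcases horb with h8 | h4
  · obtain ⟨t'', ht'', htt⟩ := hk'.inv
    have hfix : (t'' ∘ t) 8 = 8 := hk'.injective (by rw [Function.comp_apply, htt, h8])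
    obtain ⟨w, hw, hwt⟩ := F.stab (ht''.comp ht) hfix 0
    have htmap : t = fun a => mapOf r.2.2 (evW4 true 0 w a) := funext fun a => by
      have := congrFun hwt a
      rw [hδ] at this
      rw [← this, Function.comp_apply, htt]
    obtain ⟨i, hi, hir⟩ := List.getElem_of_mem hr
    have hlet : ∀ x ∈ w, x < 2 := by
      have : ∀ w ∈ s3W, ∀ x ∈ w, x < 2 := by decide
      exact this w hw
    obtain ⟨j, hj, hje⟩ := F.close_word hδ hg w hlet i hi
    refine ⟨_, List.getElem_mem hj, ?_⟩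
    rw [htmap, ← List.getD_eq_getElem _ (0, 0, 0) hj, ← hje, List.getD_eq_getElem _ _ hi, hir]
  · exfalso
    obtain ⟨c, hc⟩ := (hk'.comp ht).conj F.toFlip.RC_e
    rw [Function.comp_apply, h4] at hc
    have hR4 : F.toFlip.rR 4 = S.v := by
      simp [Flip.rR, rC_zero.2.2.1, Twist.ev, Twist.W, Setup.E]; rfl
    rw [hR4, F.toFlip.ev_tC] at hc
    obtain ⟨h1, h2⟩ := not_conj_v (S := S) (k' * k)
    cases c
    · exact h1 (by simpa [pw] using hc)
    · exact h2 hc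

end Mid

end Cfsg.Lib.CoThreeM
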