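/-
The centraliser of `z` modulo `z`, and the image of `R`.
-/
import Cfsg.Agent.CoThreeM.Autom

set_option autoImplicit false
set_option linter.unusedSectionVars false
set_option linter.style.haveILetI false
set_option maxRecDepth 10000

namespace Cfsg.Lib.CoThreeM

open Subgroup Cfsg.Lib.M12Cent

universe u

variable {G : Type u} [Group G] [Finite G] {S : Setup G}

namespace Setup

variable (S : Setup G)

/-- the central involution inside its centraliser -/
def zK : ↥S.K := ⟨S.z, mem_centralizer_singleton_iff.2 rfl⟩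

instance zK_normal : (zpowers S.zK).Normal where
  conj_mem x hx g := by
    obtain ⟨n, rfl⟩ := mem_zpowers_iff.1 hx
    have h : Commute g S.zK := Subtype.ext (mem_centralizer_singleton_iff.1 g.2)
    rw [(h.zpow_right n).eq, mul_inv_cancel_right]
    exact zpow_mem_zpowers _ n

/-- the centraliser modulo the involution -/
abbrev Kb : Type u := ↥S.K ⧸ zpowers S.zK

/-- the quotient map -/
def pK : ↥S.K →* S.Kb := QuotientGroup.mk' (zpowers S.zK)

theorem pK_surj : Function.Surjective S.pK := QuotientGroup.mk'_surjective _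

theorem pK_ker (x : ↥S.K) : S.pK x = 1 ↔ (x : G) = 1 ∨ (x : G) = S.z := by
  rw [pK, QuotientGroup.mk'_apply, QuotientGroup.eq_one_iff]
  constructor
  · intro h
    obtain ⟨n, rfl⟩ := mem_zpowers_iff.1 h
    rcases Int.even_or_odd' n with ⟨m, rfl | rfl⟩
    · left
      rw [zpow_mul, Subgroup.coe_zpow]
      simp [zK, zpow_ofNat, pow_two, S.zz]
    · right
      rw [zpow_add, zpow_mul, zpow_one, Subgroup.coe_mul, Subgroup.coe_zpow]
      simp [zK, zpow_ofNat, pow_two, S.zz]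
  · rintro (h | h)
    · rw [show x = 1 from Subtype.ext h]; exact one_mem _
    · rw [show x = S.zK from Subtype.ext h]; exact mem_zpowers _

/-- the image of an element of the centraliser -/
def kb (g : G) (h : g * S.z = S.z * g) : S.Kb := S.pK ⟨g, mem_centralizer_singleton_iff.2 h⟩

theorem cz_mul {g h : G} (hg : g * S.z = S.z * g) (hh : h * S.z = S.z * h) : g * h * S.z = S.z * (g * h) :=
  Commute.mul_left hg hh

theorem cz_inv {g : G} (hg : g * S.z = S.z * g) : g⁻¹ * S.z = S.z * g⁻¹ := Commute.inv_left hg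

theorem kb_mul {g h : G} (hg : g * S.z = S.z * g) (hh : h * S.z = S.z * h) :
    S.kb g hg * S.kb h hh = S.kb (g * h) (S.cz_mul hg hh) := by
  show S.pK _ * S.pK _ = S.pK _
  rw [← map_mul]; rfl

theorem kb_eq {g h : G} (hg : g * S.z = S.z * g) (hh : h * S.z = S.z * h) :
    S.kb g hg = S.kb h hh ↔ g = h ∨ g = h * S.z := by
  rw [kb, kb, eq_comm, ← mul_inv_eq_one, ← map_inv, ← map_mul, pK_ker]
  simp only [Subgroup.coe_mul, Subgroup.coe_inv]
  constructor
  · rintro (e | e)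
    · exact Or.inl (mul_inv_eq_one.1 e).symm
    · right
      rw [mul_inv_eq_iff_eq_mul] at e
      rw [e, ← hg, mul_assoc, S.zz, mul_one]
  · rintro (e | e)
    · exact Or.inl (by rw [e, mul_inv_cancel])
    · right
      rw [e, mul_inv_rev, S.z_inv]
      calc h * (S.z * h⁻¹) = S.z * h * h⁻¹ := by rw [← mul_assoc, hh]
        _ = S.z := by group

theorem kb_surj (q : S.Kb) : ∃ g, ∃ h : g * S.z = S.z * g, q = S.kb g h := by
  obtain ⟨⟨g, hg⟩, rfl⟩ := S.pK_surj q
  exact ⟨g, mem_centralizer_singleton_iff.1 hg, rfl⟩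

theorem kb_inv {g : G} (hg : g * S.z = S.z * g) : (S.kb g hg)⁻¹ = S.kb g⁻¹ (S.cz_inv hg) := by
  show (S.pK _)⁻¹ = S.pK _
  rw [← map_inv]; rfl

end Setup

namespace Mid

variable (F : Mid S)

/-- the image of a code -/
def rb (a : Fin 64) : S.Kb := S.kb (F.toFlip.rR a) (F.toFlip.rR_z a)

theorem kb_RC {a : Fin 64} {x : G} (h : F.toFlip.RC a x) (hx : x * S.z = S.z * x) : S.kb x hx = F.rb a := by
  rw [rb, S.kb_eq]
  obtain ⟨c, rfl⟩ := h
  rw [F.toFlip.ev_tC]
  cases c
  · exact Or.inl (by simp [pw])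
  · exact Or.inr rfl

theorem RC_of_kb {a : Fin 64} {x : G} (hx : x * S.z = S.z * x) (h : S.kb x hx = F.rb a) : F.toFlip.RC a x := by
  rw [rb, S.kb_eq] at h
  rcases h with h | h
  · exact ⟨false, by rw [F.toFlip.ev_tC, h]; simp [pw]⟩
  · exact ⟨true, by rw [F.toFlip.ev_tC, h]; rfl⟩

theorem rb_mul (a b : Fin 64) : F.rb a * F.rb b = F.rb (x6 a b) := by
  rw [rb, rb, S.kb_mul]
  exact F.kb_RC (F.toFlip.RC_mul (F.toFlip.RC_self a) (F.toFlip.RC_self b)) _

theorem rb_zero : F.rb 0 = 1 := by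
  have h := F.rb_mul 0 0
  rw [x6_self] at h
  exact mul_eq_left.1 h

theorem rb_sq (a : Fin 64) : F.rb a * F.rb a = 1 := by rw [F.rb_mul, x6_self, F.rb_zero]

theorem rb_inv (a : Fin 64) : (F.rb a)⁻¹ = F.rb a := inv_eq_of_mul_eq_one_right (F.rb_sq a)

theorem rb_inj {a b : Fin 64} (h : F.rb a = F.rb b) : a = b :=
  F.toFlip.RC_inj (F.toFlip.RC_self a) (F.RC_of_kb _ h)

theorem rb_conj {k : G} {t : Fin 64 → Fin 64} (h : F.toFlip.Act k t) (a : Fin 64) :
    S.kb k h.1 * F.rb a * (S.kb k h.1)⁻¹ = F.rb (t a) := by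
  have hz : k * S.z = S.z * k := h.1
  show S.kb k hz * S.kb (F.toFlip.rR a) (F.toFlip.rR_z a) * (S.kb k hz)⁻¹ = _
  rw [S.kb_inv, S.kb_mul, S.kb_mul]
  exact F.kb_RC (h.2 a) _

theorem rb_comm {k : G} {t : Fin 64 → Fin 64} (h : F.toFlip.Act k t) (a : Fin 64) :
    S.kb k h.1 * F.rb a = F.rb (t a) * S.kb k h.1 := mul_inv_eq_iff_eq_mul.1 (F.rb_conj h a)

/-- THE KERNEL of the action is `R`. -/
theorem act_id_mem {k : G} (h : F.toFlip.Act k id) : ∃ a, F.toFlip.RC a k := by
  obtain ⟨d, hd⟩ := h.conj F.toFlip.RC_e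
  have hR8 : F.toFlip.rR 8 = S.e := by simp [Flip.rR, rC_zero.2.1, Twist.ev, Twist.W, Setup.E]
  rw [id, hR8, F.toFlip.ev_tC] at hd
  have he : k * S.e * k⁻¹ = S.e ∨ k * S.e * k⁻¹ = S.e * S.z := by
    cases d
    · exact Or.inl (by simpa [pw] using hd)
    · exact Or.inr hd
  obtain ⟨⟨i, m, j⟩, rfl⟩ := F.toTwist.mem_K0 h.1 he
  obtain ⟨q, p, b, rfl, -⟩ := gen_cover m
  have hq : ∀ q : Fin 32, inQ (gQ aM bM yM q) = true := by decide +kernel
  have hpi : F.toFlip.Act (S.ψ (pw b piM)) (bif b then lf piL else id) := by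
    cases b
    · show F.toFlip.Act (S.ψ 1) id
      rw [map_one]; exact F.toFlip.one_act
    · exact F.toFlip.act_piM
  have hall := ((F.act_E i).comp (((F.act_q_central (hq q)).comp (F.act_pow F.toFlip.act_yM p.val)).comp hpi)).comp
    (F.act_W j)
  have hev : F.ev (i, gQ aM bM yM q * yM ^ p.val * pw b piM, j) =
      S.E i * (S.ψ (gQ aM bM yM q) * S.ψ yM ^ p.val * S.ψ (pw b piM)) * F.W j := by
    simp only [Twist.ev, map_mul, map_pow]
  rw [hev] at h
  have ht := h.unique hall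
  have hkey : ∀ (p : Fin 3) (b : Bool), units (id ∘ ((id ∘ (lf yL)^[p.val]) ∘ bif b then lf piL else id) ∘ id) = units id →
      p = 0 ∧ b = false := by decide +kernel
  obtain ⟨hp, hb⟩ := hkey p b (by
    have h1 := congrArg units ht.symm
    exact h1)
  subst hp hb
  refine F.toFlip.mem_R_of_ev ?_
  show inQ (gQ aM bM yM q * yM ^ (0 : Fin 3).val * pw false piM) = true
  simp [pw, hq q]

end Mid

end Cfsg.Lib.CoThreeM
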