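/-
Tables for the Sylow subgroup of the centraliser of `z` modulo `z`.
-/
import Cfsg.Agent.CoThreeM.XModel
import Cfsg.Agent.AltTwelveType.Model

set_option autoImplicit false
set_option maxRecDepth 100000

namespace Cfsg.Lib.CoThreeM

open Cfsg.Lib.M12Cent

/-- the first involution of the normal four group -/
def cT : Fin 64 → Fin 64 := lf [5, 6, 4, 12, 16, 55]
/-- the second one -/
def aT : Fin 64 → Fin 64 := lf [22, 21, 4, 11, 16, 35]
/-- the third one -/
def bT : Fin 64 → Fin 64 := lf [18, 17, 4, 15, 16, 52]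

/-- a power -/
def pf (b : Bool) (t : Fin 64 → Fin 64) : Fin 64 → Fin 64 := bif b then t else id

/-- the coordinates in the complement -/
def dCode (k : Fin 8) : Bool × Bool × Bool :=
  ([(false, false, false), (true, true, false), (true, false, false), (false, true, false),
    (false, false, true), (true, true, true), (true, false, true), (false, true, true)] : List (Bool × Bool × Bool)).getD
      k.val (false, false, false)

/-- product of coordinates -/
def d8mul (p q : Bool × Bool × Bool) : Bool × Bool × Bool :=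
  (xor p.1 (bif p.2.2 then q.2.1 else q.1), xor p.2.1 (bif p.2.2 then q.1 else q.2.1), xor p.2.2 q.2.2)

/-- the map of an element of the complement -/
def tD (k : Fin 8) : Fin 64 → Fin 64 :=
  pf (dCode k).1 aT ∘ pf (dCode k).2.1 bT ∘ pf (dCode k).2.2 (lf piL)

/-- the coordinates of the elementary group in the model -/
def iot (a : Fin 64) : Fin 64 := lf [23, 41, 19, 47, 20, 10] a

/-- the fixed points of the normal four group -/
def inFL (a : Fin 64) : Bool := ([0, 3, 4, 7, 16, 19, 20, 23] : List ℕ).contains a.val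

theorem rho_c : ∀ a : Fin 64, lf piL (lf (rhoL true false) a) = cT a := by decide +kernel

theorem y_conj : ∀ a : Fin 64, lf yL (cT a) = aT (lf yL a) ∧ lf yL (aT a) = bT (lf yL a) ∧
    lf yL (lf yL (lf yL a)) = a ∧ lf yL (lf piL (lf yL a)) = lf piL a := by decide +kernel

theorem d8_maps : ∀ a : Fin 64, cT (aT a) = bT a ∧ lf piL (aT (lf piL a)) = bT a ∧ lf piL (cT (lf piL a)) = cT a ∧
    cT (cT a) = a ∧ aT (aT a) = a ∧ bT (bT a) = a ∧ lf piL (lf piL a) = a := by decide +kernel

theorem fix_four : ∀ a : Fin 64, (cT a = a ∧ aT a = a) ↔ inFL a = true := by decide +kernel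

theorem fl_facts : inFL 4 = true ∧ inFL 16 = true ∧ (∀ a b : Fin 64, inFL a = true → inFL b = true → inFL (x6 a b) = true) ∧
    ∀ a : Fin 64, inFL a = true → inFL (lf yL a) = true ∧ inFL (lf piL a) = true ∧ a.val.testBit 5 = false := by
  decide +kernel

theorem y_pre : lf yL 7 = 4 ∧ lf yL (lf yL 3) = 4 ∧ lf yL 16 = 16 ∧ cT 16 = 16 ∧ cT 32 = 55 ∧ x6 55 32 = 23 ∧
    prV 23 = 19 ∧ x6 46 19 = 61 ∧ prV 7 = 3 ∧ prV 3 = 3 ∧ lf yL 4 ≠ 4 ∧ lf yL (lf yL 4) ≠ 4 ∧
    lf yL 4 ≠ lf yL (lf yL 4) := by decide +kernel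

theorem xc_q : q4 true false 46 = 0 ∧ q4 true false 62 = 1 ∧ B4 true false 46 3 = 1 ∧ x6 46 16 = 62 ∧
    (∀ s : Fin 4, s = 0 ∨ s = 1 ∨ s = 2 ∨ s = 3) := by decide +kernel

/-- candidate extension of the conjugates of the first involution -/
def cCand (s : Fin 64 → Fin 64) (a b : Fin 64) : List ℕ :=
  [(prV (s 1)).val, (prV (s 2)).val, a.val, (prV (s 8)).val, (prV (s 16)).val, b.val]

theorem a_ext : ∀ a b : Fin 64,
    ((List.range 64).all fun x => q4 true false (lf (cCand aT a b) ⟨x % 64, Nat.mod_lt _ (by norm_num)⟩) ==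
      q4 true false ⟨x % 64, Nat.mod_lt _ (by norm_num)⟩) = true → cCand aT a b = sV true := by decide +kernel

theorem b_ext : ∀ a b : Fin 64,
    ((List.range 64).all fun x => q4 true false (lf (cCand bT a b) ⟨x % 64, Nat.mod_lt _ (by norm_num)⟩) ==
      q4 true false ⟨x % 64, Nat.mod_lt _ (by norm_num)⟩) = true → cCand bT a b = sV true := by decide +kernel

theorem ab_facts : lf (sV true) 61 = 46 ∧ (∀ i : Fin 4,
      (aT (([1, 2, 8, 16] : List (Fin 64)).getD i.val 0)).val.testBit 5 = false ∧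
      (bT (([1, 2, 8, 16] : List (Fin 64)).getD i.val 0)).val.testBit 5 = false) ∧
    (aT 8).val.testBit 5 = false ∧ (bT 8).val.testBit 5 = false ∧ aT 4 = 4 ∧ bT 4 = 4 ∧ aT 16 = 16 ∧ bT 16 = 16 := by
  decide +kernel

theorem d8_table : ∀ k l : Fin 8, ∀ k' l' : Fin 24, k'.val = k.val → l'.val = l.val →
    ∃ m : Fin 8, (AltTwelveType.kmul k' l').val = m.val ∧ d8mul (dCode k) (dCode l) = dCode m := by decide +kernel

theorem d8_basic : (∀ k l : Fin 8, dCode k = dCode l → k = l) ∧ (∀ p : Bool × Bool × Bool, ∃ k : Fin 8, dCode k = p) ∧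
    dCode 0 = (false, false, false) ∧ ∀ k : Fin 8, ∀ k' : Fin 24, k'.val = k.val → ∀ a : Fin 64,
      iot (AltTwelveType.act k' a) = tD k (iot a) := by decide +kernel

theorem iot_facts : (∀ a b : Fin 64, iot (AltTwelveType.axor a b) = x6 (iot a) (iot b)) ∧
    (∀ a : Fin 64, iot a = 0 → a = 0) ∧ (∀ b : Fin 64, ∃ a : Fin 64, iot a = b) ∧ iot 21 = 16 := by decide +kernel

theorem tD_inj : ∀ k l : Fin 8, units (tD k) = units (tD l) → k = l := by decide +kernel

theorem tD_fix : ∀ k : Fin 8, tD k 16 = 16 := by decide +kernel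

theorem tD_one : ∀ k : Fin 8, k ≠ 0 → units (tD k ∘ tD k) = units id →
    (Finset.univ.filter fun a : Fin 64 => tD k a = a).card ≤ 16 ∧
      ∀ l : Fin 8, l ≠ 0 → l ≠ k → units (tD l ∘ tD l) = units id → units (tD k ∘ tD l) = units (tD l ∘ tD k) →
        (Finset.univ.filter fun a : Fin 64 => tD k a = a ∧ tD l a = a).card ≤ 8 := by decide +kernel

theorem tD_klein : ∀ k l m : Fin 8, k ≠ 0 → l ≠ 0 → k ≠ l →
    units (tD k ∘ tD k) = units id → units (tD l ∘ tD l) = units id → units (tD m ∘ tD m) = units id →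
    units (tD k ∘ tD l) = units (tD l ∘ tD k) → units (tD k ∘ tD m) = units (tD m ∘ tD k) →
    units (tD l ∘ tD m) = units (tD m ∘ tD l) →
      m = 0 ∨ m = k ∨ m = l ∨ units (tD m) = units (tD k ∘ tD l) := by decide +kernel

/-- the maps of the complement, as lists of images -/
def d8U : List (List ℕ) := (List.range 8).map fun k => units (tD ⟨k % 8, Nat.mod_lt _ (by norm_num)⟩)

/-- the complement is self-normalising in a table -/
def selfNorm (g : ℕ) : Bool :=
  (grpOf true g).all fun r => d8U.contains (up r.2.2) ||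
    (List.range 8).any fun k => (List.range 8).all fun l =>
      !(units (fun a => mapOf r.2.2 (tD ⟨k % 8, Nat.mod_lt _ (by norm_num)⟩ a)) ==
        units (fun a => tD ⟨l % 8, Nat.mod_lt _ (by norm_num)⟩ (mapOf r.2.2 a)))

theorem self_norm0 : selfNorm 0 = true := by decide +kernel
theorem self_norm1 : selfNorm 1 = true := by decide +kernel

/-- the fixers of `f` in a table -/
def fixTable (g : ℕ) : Bool :=
  (grpOf true g).all fun r => !(mapOf r.2.2 16 == 16) || ([0, 1, 2] : List ℕ).any fun p =>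
    (List.range 8).any fun k => up r.2.2 == units ((lf yL)^[p] ∘ tD ⟨k % 8, Nat.mod_lt _ (by norm_num)⟩)

theorem fix_table0 : fixTable 0 = true := by decide +kernel
theorem fix_table1 : fixTable 1 = true := by decide +kernel

theorem y_d8 : ∀ k : Fin 8, units (tD k) = units (lf yL) → False := by decide +kernel
theorem yy_d8 : ∀ k : Fin 8, units (tD k) = units (lf yL ∘ lf yL) → False := by decide +kernel

/-- the element moving the elementary group, modulo the pair -/
def hImg (a : Fin 64) : Fin 64 :=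
  let dv := lf (dV true)
  let s := lf (sV true)
  let di := fun b => dv (dv b)
  let A := fun b => dv (s (di b))
  let B := fun b => di (s (dv b))
  B (A a)

theorem h_facts : hImg 16 = 16 ∧ hImg 8 = 20 ∧ (∀ a : Fin 64, hImg (hImg (hImg a)) = a) ∧
    ∀ x : Fin 64, B4 true false x 16 = 0 ∨ B4 true false x 16 = 1 := by decide +kernel

/-- rows used by the endgame: of order seven, of the product of two conjugates of `e`, carrying `c` to `π` -/
def rowOf (g : Fin 2) : ℕ × ℕ × ℕ × ℕ := if g = 0 then (21, 31, 103, 67) else (8, 31, 71, 71)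

theorem row_facts : ∀ g : Fin 2,
    let m := fun i => mapOf ((grpOf true g.val).getD i (0, 0, 0)).2.2
    let R := rowOf g
    (R.1 < (grpOf true g.val).length ∧ R.2.1 < (grpOf true g.val).length ∧ R.2.2.1 < (grpOf true g.val).length ∧
      R.2.2.2 < (grpOf true g.val).length) ∧
    units ((m R.1)^[7]) = units id ∧ m R.1 16 ≠ 16 ∧ x6 8 (m R.2.1 8) = m R.2.2.1 8 ∧ m R.2.1 8 ≠ 8 ∧
    units (m R.2.2.2 ∘ cT) = units (lf piL ∘ m R.2.2.2) ∧
    (m R.2.2.2 16 = 30 ∨ m R.2.2.2 16 = 26) := by decide +kernel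

/-- the conjugator of the second reflection -/
def rhoConj : Fin 64 → Fin 64 := lf [18, 21, 4, 11, 16, 54]

theorem rho_conj : units (rhoConj ∘ lf (rhoL true false)) = units (lf piL ∘ rhoConj) ∧ rhoConj 16 = 16 := by
  decide +kernel

end Cfsg.Lib.CoThreeM
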