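/-
Three commuting involutions over the normal four group of the stabiliser of `f`.
-/
import Cfsg.Agent.CoThreeM.Quot
import Cfsg.Agent.CoThreeM.TeeModel

set_option autoImplicit false
set_option linter.unusedSectionVars false
set_option linter.style.haveILetI false
set_option maxRecDepth 10000

namespace Cfsg.Lib.CoThreeM

open Subgroup Cfsg.Lib.M12Cent

universe u

/-- the configuration of `Co₃` -/
structure Co {G : Type u} [Group G] [Finite G] (S : Setup G) extends Mid S where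
  hd : δ = true

variable {G : Type u} [Group G] [Finite G] {S : Setup G}

namespace Co

variable (F : Co S)

theorem r_false : F.r = false := by rw [F.toMid.cases_s.1, F.hd]; rfl

/-- a representative of the first involution -/
def xg : G := F.toMid.rW 46

theorem xg_z : F.xg * S.z = S.z * F.xg := (F.toMid.rW_cent 46).1
theorem xg_v : F.xg * S.v = S.v * F.xg := (F.toMid.rW_cent 46).2

theorem act_xg : F.toFlip.Act F.xg cT := by
  have hx : F.xg = S.E true * S.ψ (lW 46) * F.W false * F.H true := rfl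
  obtain ⟨q, hq, hl⟩ : ∃ q : M, inQ q = true ∧ lW 46 = q * piM := by
    refine ⟨lW 46 * piM⁻¹, by decide +kernel, ?_⟩
    rw [inv_mul_cancel_right]
  have hh := F.toFlip.act_h F.hr
  rw [F.r_false, F.hd] at hh
  have h := (((F.toMid.act_E true).comp ((F.toMid.act_q_central hq).comp F.toFlip.act_piM)).comp
    (F.toMid.act_W false)).comp hh
  rw [hx, hl, map_mul]
  convert h using 1
  · rfl
  · funext a; exact (rho_c a).symm

/-- the first involution -/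
def xc : S.Kb := S.kb F.xg F.xg_z
/-- the element of order three -/
def yb (_ : Co S) : S.Kb := S.kb (S.ψ yM) (S.z_ψ yM).symm
/-- the involution of the complement -/
def pb (_ : Co S) : S.Kb := S.kb (S.ψ piM) (S.z_ψ piM).symm
/-- the second involution -/
def x1 : S.Kb := F.yb * F.xc * F.yb⁻¹
/-- the third one -/
def x2 : S.Kb := F.yb * F.x1 * F.yb⁻¹

/-- `q` acts on `R` by `t` -/
def BAct (q : S.Kb) (t : Fin 64 → Fin 64) : Prop := ∃ k, ∃ h : k * S.z = S.z * k, q = S.kb k h ∧ F.toFlip.Act k t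

theorem BAct.conj {q : S.Kb} {t : Fin 64 → Fin 64} (h : F.BAct q t) (a : Fin 64) :
    q * F.rb a * q⁻¹ = F.rb (t a) := by
  obtain ⟨k, hk, rfl, hA⟩ := h
  exact F.toMid.rb_conj hA a

theorem BAct.comm {q : S.Kb} {t : Fin 64 → Fin 64} (h : F.BAct q t) (a : Fin 64) :
    q * F.rb a = F.rb (t a) * q := mul_inv_eq_iff_eq_mul.1 (h.conj F a)

theorem BAct.comp {q q' : S.Kb} {t t' : Fin 64 → Fin 64} (h : F.BAct q t) (h' : F.BAct q' t') :
    F.BAct (q * q') (t ∘ t') := by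
  obtain ⟨k, hk, rfl, hA⟩ := h
  obtain ⟨l, hl, rfl, hB⟩ := h'
  exact ⟨k * l, S.cz_mul hk hl, S.kb_mul hk hl, hA.comp hB⟩

theorem BAct.unique {q : S.Kb} {t t' : Fin 64 → Fin 64} (h : F.BAct q t) (h' : F.BAct q t') : t = t' :=
  funext fun a => F.toMid.rb_inj (by rw [← h.conj F, ← h'.conj F])

theorem BAct.inv {q : S.Kb} {t t' : Fin 64 → Fin 64} (h : F.BAct q t) (ht : ∀ a, t (t' a) = a) : F.BAct q⁻¹ t' := by
  obtain ⟨k, hk, rfl, hA⟩ := h
  obtain ⟨s, hs, hts⟩ := hA.inv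
  have : s = t' := funext fun a => hA.injective ((hts a).trans (ht a).symm)
  exact ⟨k⁻¹, S.cz_inv hk, S.kb_inv hk, this ▸ hs⟩

theorem BAct.rb (a : Fin 64) : F.BAct (F.rb a) id := by
  refine ⟨_, F.toFlip.rR_z a, rfl, F.toFlip.rR_z a, fun b => ⟨B6 a b, mul_inv_eq_iff_eq_mul.2 ?_⟩⟩
  rw [F.toFlip.RC_comm (F.toFlip.RC_self a) (F.toFlip.RC_self b), ← mul_assoc,
    ← F.toFlip.tC_central _ _ (F.toFlip.rR_z b)]
  rfl

theorem BAct.one : F.BAct 1 id := F.toMid.rb_zero ▸ BAct.rb F 0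

/-- THE KERNEL. -/
theorem eq_rb {q : S.Kb} (h : F.BAct q id) : ∃ a, q = F.rb a := by
  obtain ⟨k, hk, rfl, hA⟩ := h
  obtain ⟨a, ha⟩ := F.toMid.act_id_mem hA
  exact ⟨a, F.toMid.kb_RC ha hk⟩

theorem eq_rb_of_same {q q' : S.Kb} {t t' : Fin 64 → Fin 64} (h : F.BAct q t) (h' : F.BAct q' t)
    (ht : ∀ a, t (t' a) = a) : ∃ a, q = q' * F.rb a := by
  obtain ⟨a, ha⟩ := F.eq_rb (q := q'⁻¹ * q) (by
    have := (h'.inv F ht).comp F h
    rwa [show t' ∘ t = id from funext fun x => by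
      have hinj : Function.Injective t := fun a b e => F.toMid.rb_inj (by
        have := congrArg F.rb e
        rw [← h.conj F, ← h.conj F] at this
        exact mul_left_cancel (mul_right_cancel this))
      exact hinj (ht (t x))] at this)
  exact ⟨a, by rw [← ha, mul_inv_cancel_left]⟩

theorem act_xc : F.BAct F.xc cT := ⟨_, F.xg_z, rfl, F.act_xg⟩
theorem act_yb : F.BAct F.yb (lf yL) := ⟨_, (S.z_ψ yM).symm, rfl, F.toFlip.act_yM⟩
theorem act_pb : F.BAct F.pb (lf piL) := ⟨_, (S.z_ψ piM).symm, rfl, F.toFlip.act_piM⟩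

theorem act_yinv : F.BAct F.yb⁻¹ (lf yL ∘ lf yL) := F.act_yb.inv F fun a => (y_conj a).2.2.1

theorem act_x1 : F.BAct F.x1 aT := by
  have h := (F.act_yb.comp F F.act_xc).comp F F.act_yinv
  convert h using 1
  · rfl
  funext a
  show aT a = lf yL (cT (lf yL (lf yL a)))
  rw [(y_conj _).1, (y_conj a).2.2.1]

theorem act_x2 : F.BAct F.x2 bT := by
  have h := (F.act_yb.comp F F.act_x1).comp F F.act_yinv
  convert h using 1
  · rfl
  funext a
  show bT a = lf yL (aT (lf yL (lf yL a)))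
  rw [(y_conj _).2.1, (y_conj a).2.2.1]

theorem kb_one {h : (1 : G) * S.z = S.z * 1} : S.kb 1 h = 1 := S.pK.map_one

theorem y_cube : F.yb * (F.yb * F.yb) = 1 := by
  rw [yb, S.kb_mul, S.kb_mul]
  have : S.ψ yM * (S.ψ yM * S.ψ yM) = 1 := by rw [← map_mul, ← map_mul, y_rels.1, map_one]
  simp only [this]
  exact kb_one

theorem p_sq : F.pb * F.pb = 1 := by
  rw [pb, S.kb_mul]
  have : S.ψ piM * S.ψ piM = 1 := by rw [← map_mul, y_rels.2.2.1, map_one]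
  simp only [this]
  exact kb_one

theorem p_y : F.pb * F.yb = F.yb * F.yb * F.pb := by
  rw [pb, yb, S.kb_mul, S.kb_mul, S.kb_mul, S.kb_eq]
  left
  rw [← map_mul, ← map_mul, ← map_mul, ← mul_inv_eq_iff_eq_mul.1 y_rels.2.2.2.1]

theorem xc_sq : F.xc * F.xc = 1 := by
  rw [xc, S.kb_mul]
  have : F.xg * F.xg = 1 := by
    rw [xg, F.toMid.WC_sq (F.toMid.WC_self 46), F.hd, F.r_false, xc_q.1, Mid.zc_zero]
  simp only [this]
  exact kb_one

theorem conj_sq {a b : S.Kb} (hb : b * b = 1) : a * b * a⁻¹ * (a * b * a⁻¹) = 1 := by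
  rw [show a * b * a⁻¹ * (a * b * a⁻¹) = a * (b * b) * a⁻¹ by group, hb, mul_one, mul_inv_cancel]

theorem x1_sq : F.x1 * F.x1 = 1 := conj_sq F.xc_sq
theorem x2_sq : F.x2 * F.x2 = 1 := conj_sq F.x1_sq

theorem kb_zc {g : G} (hg : g * S.z = S.z * g) {s : Fin 4} (h : g = S.zc s) :
    S.kb g hg = 1 ∨ S.kb g hg = F.rb 4 := by
  subst h
  have hv : S.v * S.z = S.z * S.v := (S.z_ψ _).symm
  rcases xc_q.2.2.2.2 s with rfl | rfl | rfl | rfl
  · left; simp only [Mid.zc_zero]; exact kb_one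
  · left; exact (S.pK_ker _).2 (Or.inr (by exact Mid.zc_one))
  · right; exact F.toMid.kb_RC (by rw [Mid.zc_two]; exact F.toFlip.RC_v) _
  · right
    refine F.toMid.kb_RC ?_ _
    rw [show S.zc 3 = S.zc 2 * S.zc 1 by rw [Mid.zc_mul]; rfl, Mid.zc_two, Mid.zc_one]
    have := F.toFlip.RC_mul F.toFlip.RC_v F.toFlip.RC_zz
    rwa [(x6_zero _).2] at this

/-- conjugates of the first involution differ from it by at most `v` -/
theorem key {k : G} {σ : Fin 64 → Fin 64} (hk : F.toFlip.Act k σ) (hv : k * S.v * k⁻¹ = S.v * S.z)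
    (hσ : ∀ a, σ (σ a) = a) (h8 : (σ 8).val.testBit 5 = false)
    (h5 : ∀ i : Fin 4, (σ (([1, 2, 8, 16] : List (Fin 64)).getD i.val 0)).val.testBit 5 = false)
    (hext : ∀ a b : Fin 64,
      ((List.range 64).all fun x => q4 true false (lf (cCand σ a b) ⟨x % 64, Nat.mod_lt _ (by norm_num)⟩) ==
        q4 true false ⟨x % 64, Nat.mod_lt _ (by norm_num)⟩) = true → cCand σ a b = sV true) :
    S.kb k hk.1 * F.xc * (S.kb k hk.1)⁻¹ = F.xc ∨ S.kb k hk.1 * F.xc * (S.kb k hk.1)⁻¹ = F.xc * F.rb 4 := by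
  have hn : S.ψ nM * S.v * (S.ψ nM)⁻¹ = S.v * S.z := by
    rw [Setup.v, Setup.z, ← map_inv, ← map_mul, ← map_mul, ← map_mul, elt_facts.2.2.2.2.2.2.2.2.2.2.2.2.2.1]
  have hnq : inQ nM = true := by decide +kernel
  have hnA := F.toMid.act_q_central hnq
  set k' := k * S.ψ nM with hk'
  have hk'z : k' * S.z = S.z * k' := S.cz_mul hk.1 hnA.1
  have hk'v : k' * S.v = S.v * k' := by
    refine mul_inv_eq_iff_eq_mul.1 ?_
    calc k' * S.v * k'⁻¹ = k * (S.ψ nM * S.v * (S.ψ nM)⁻¹) * k⁻¹ := by rw [hk']; group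
      _ = k * S.v * k⁻¹ * (k * S.z * k⁻¹) := by rw [hn]; group
      _ = S.v := by rw [hv, mul_inv_eq_iff_eq_mul.2 hk.1, mul_assoc, S.zz, mul_one]
  have hA : F.toFlip.Act k' σ := hk.comp hnA
  obtain ⟨s, hs, hsσ⟩ := hA.inv
  have hs8 : s 8 = σ 8 := hA.injective ((hsσ 8).trans (hσ 8).symm)
  have hc : F.toMid.WC (prV (σ 8)) (k'⁻¹ * S.e * k') := by
    refine F.toMid.WC_of_RC h8 ?_
    have := hs.conj F.toFlip.RC_e
    rwa [inv_inv, hs8] at this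
  obtain ⟨t, ht⟩ := F.toMid.vact_of Function.bijective_id (Mid.id_pair hk'z hk'v) hc
  have hfix : ∀ i : Fin 4, t (([1, 2, 8, 16] : List (Fin 64)).getD i.val 0) =
      prV (σ (([1, 2, 8, 16] : List (Fin 64)).getD i.val 0)) := fun i => by
    obtain ⟨ha5, hap⟩ := unit_bit5 i
    set a := ([1, 2, 8, 16] : List (Fin 64)).getD i.val 0
    have h2 := ht.conj (F.toMid.WC_of_RC ha5 (F.toFlip.RC_self a))
    rw [hap] at h2
    exact F.toMid.WC_inj h2 (F.toMid.WC_of_RC (h5 i) (hA.2 a))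
  have hl : t = lf (cCand σ (t 4) (t 32)) := by
    conv_lhs => rw [lin_lf ht.map_add]
    congr 1
    have e1 : t 1 = prV (σ 1) := hfix 0
    have e2 : t 2 = prV (σ 2) := hfix 1
    have e8 : t 8 = prV (σ 8) := hfix 2
    have e16 : t 16 = prV (σ 16) := hfix 3
    simp [cCand, List.range_succ, e1, e2, e8, e16]
  have heq := hext (t 4) (t 32) (by
    rw [List.all_eq_true]
    intro x _
    rw [beq_iff_eq, ← hl]
    have := ht.q ⟨x % 64, Nat.mod_lt _ (by norm_num)⟩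
    rwa [F.hd, F.r_false] at this)
  rw [heq] at hl
  -- the conjugate by the element of the two-group
  have hW : F.toMid.WC 61 ((S.ψ nM)⁻¹ * F.xg * S.ψ nM) := by
    obtain ⟨b, hb⟩ := F.toFlip.mem_R_of_ev (c := (false, nM, false)) hnq
    rw [F.toFlip.ev_model] at hb
    have hb32 : b = 32 := by
      refine F.toFlip.RC_inj hb ⟨false, ?_⟩
      rw [Flip.rR, unit_codes.2.2.2.2, F.toFlip.ev_model, F.toFlip.ev_tC]; simp [pw]
    rw [hb32] at hb
    obtain ⟨c, hc', hcs⟩ := F.act_xg.inv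
    have hcc : c = cT := funext fun a => F.act_xg.injective ((hcs a).trans (d8_maps a).2.2.2.1.symm)
    have hprod := F.toFlip.RC_mul (hc'.conj (F.toFlip.RC_inv hb)) hb
    rw [hcc, y_pre.2.2.2.2.1, y_pre.2.2.2.2.2.1, inv_inv] at hprod
    have hw := F.toMid.WC_of_RC (show (23 : Fin 64).val.testBit 5 = false by decide) hprod
    rw [y_pre.2.2.2.2.2.2.1] at hw
    have h2 := F.toMid.WC_mul (F.toMid.WC_self 46) hw
    rw [y_pre.2.2.2.2.2.2.2.1] at h2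
    rwa [show F.toMid.rW 46 * (F.xg⁻¹ * (S.ψ nM)⁻¹ * F.xg * S.ψ nM) = (S.ψ nM)⁻¹ * F.xg * S.ψ nM by
      rw [show F.toMid.rW 46 = F.xg from rfl]; group] at h2
  have h3 := ht.conj hW
  rw [hl, ab_facts.1, show k' * ((S.ψ nM)⁻¹ * F.xg * S.ψ nM) * k'⁻¹ = k * F.xg * k⁻¹ by rw [hk']; group] at h3
  obtain ⟨d, hd⟩ := h3
  have hdz : S.zc d * S.z = S.z * S.zc d := by rw [Setup.zc]; exact (S.z_ψ _).symm
  have hgoal : S.kb k hk.1 * F.xc * (S.kb k hk.1)⁻¹ = F.xc * S.kb (S.zc d) hdz := by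
    have e1 : S.kb k hk.1 = S.kb k (show k * S.z = S.z * k from hk.1) := rfl
    rw [e1, xc, S.kb_inv, S.kb_mul, S.kb_mul, S.kb_mul, S.kb_eq]
    exact Or.inl hd
  rcases F.kb_zc hdz rfl with e | e
  · left; rw [hgoal, e, mul_one]
  · right; rw [hgoal, e]

theorem act_of_kb {q : S.Kb} {t : Fin 64 → Fin 64} (h : F.BAct q t) {k : G} (hk : k * S.z = S.z * k)
    (he : S.kb k hk = q) : F.toFlip.Act k t := by
  obtain ⟨k', hk', rfl, hA⟩ := h
  rcases (S.kb_eq hk hk').1 he with e | e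
  · rw [e]; exact hA
  · rw [e]
    have hz1 : F.toFlip.Act S.z id :=
      ⟨rfl, fun a => by rw [← F.toFlip.rR_z a, mul_inv_cancel_right]; exact F.toFlip.RC_self a⟩
    exact hA.comp hz1

/-- conjugates of the first involution invert `v` modulo `z` -/
theorem conj_v {m : M} {t : Fin 64 → Fin 64} {a : Fin 64} (hA : F.toFlip.Act (S.ψ m) t) (hta : t a = 4)
    (ha5 : a.val.testBit 5 = false) (hpa : prV a = 3) :
    S.ψ m * F.xg * (S.ψ m)⁻¹ * S.v * (S.ψ m * F.xg * (S.ψ m)⁻¹)⁻¹ = S.v * S.z := by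
  obtain ⟨c, hc⟩ := hA.2 a
  rw [hta] at hc
  have hR4 : F.toFlip.rR 4 = S.v := by
    simp [Flip.rR, rC_zero.2.2.1, Twist.ev, Twist.W, Setup.E]; rfl
  have hw := F.toMid.WC_of_RC ha5 (F.toFlip.RC_self a)
  rw [hpa] at hw
  have hcom := F.toMid.WC_comm (F.toMid.WC_self 46) hw
  rw [F.hd, F.r_false, xc_q.2.2.1, Mid.zc_one] at hcom
  have hxR : F.xg * F.toFlip.rR a * F.xg⁻¹ = S.z * F.toFlip.rR a := by
    rw [show F.xg * F.toFlip.rR a = F.toMid.rW 46 * F.toFlip.rR a from rfl, hcom, xg, mul_assoc, mul_assoc,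
      mul_inv_cancel, mul_one]
  have hxC : F.xg * F.toFlip.ev (tC c) * F.xg⁻¹ = F.toFlip.ev (tC c) :=
    mul_inv_eq_iff_eq_mul.2 (F.toFlip.tC_central c F.xg F.xg_z)
  have hyC : (S.ψ m)⁻¹ * F.toFlip.ev (tC c) * S.ψ m = F.toFlip.ev (tC c) := by
    rw [mul_assoc, ← F.toFlip.tC_central c (S.ψ m) (S.z_ψ _).symm, inv_mul_cancel_left]
  have hC2 : F.toFlip.ev (tC c) * F.toFlip.ev (tC c) = 1 := by
    rw [F.toFlip.tC_mul, Bool.xor_self, F.toFlip.ev_tC]; simp [pw]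
  have hyv : (S.ψ m)⁻¹ * S.v * S.ψ m = F.toFlip.rR a * F.toFlip.ev (tC c) := by
    have : S.v = S.ψ m * F.toFlip.rR a * (S.ψ m)⁻¹ * F.toFlip.ev (tC c) := by
      rw [hc, hR4, mul_assoc, hC2, mul_one]
    rw [this]
    calc (S.ψ m)⁻¹ * (S.ψ m * F.toFlip.rR a * (S.ψ m)⁻¹ * F.toFlip.ev (tC c)) * S.ψ m
        = F.toFlip.rR a * ((S.ψ m)⁻¹ * F.toFlip.ev (tC c) * S.ψ m) := by group
      _ = _ := by rw [hyC]
  have hyz : S.ψ m * S.z * (S.ψ m)⁻¹ = S.z := mul_inv_eq_iff_eq_mul.2 (S.z_ψ _).symm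
  calc S.ψ m * F.xg * (S.ψ m)⁻¹ * S.v * (S.ψ m * F.xg * (S.ψ m)⁻¹)⁻¹ = S.ψ m * (F.xg * ((S.ψ m)⁻¹ * S.v * S.ψ m) * F.xg⁻¹) * (S.ψ m)⁻¹ := by group
    _ = S.ψ m * ((F.xg * F.toFlip.rR a * F.xg⁻¹) * (F.xg * F.toFlip.ev (tC c) * F.xg⁻¹)) * (S.ψ m)⁻¹ := by
      rw [hyv]; group
    _ = (S.ψ m * S.z * (S.ψ m)⁻¹) * (S.ψ m * F.toFlip.rR a * (S.ψ m)⁻¹) *
        (S.ψ m * F.toFlip.ev (tC c) * (S.ψ m)⁻¹) := by rw [hxR, hxC]; group
    _ = S.z * S.v := by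
      rw [hyz, hc, hR4, mul_inv_eq_iff_eq_mul.2 (F.toFlip.tC_central c (S.ψ m) (S.z_ψ _).symm),
        mul_assoc S.z, mul_assoc S.v, hC2, mul_one]
    _ = S.v * S.z := by rw [Setup.v]; exact S.z_ψ _

theorem x1_key : F.x1 * F.xc * F.x1⁻¹ = F.xc ∨ F.x1 * F.xc * F.x1⁻¹ = F.xc * F.rb 4 := by
  have hkz : S.ψ yM * F.xg * (S.ψ yM)⁻¹ * S.z = S.z * (S.ψ yM * F.xg * (S.ψ yM)⁻¹) :=
    S.cz_mul (S.cz_mul (S.z_ψ _).symm F.xg_z) (S.cz_inv (S.z_ψ _).symm)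
  have he : S.kb _ hkz = F.x1 := by rw [x1, yb, xc, S.kb_inv, S.kb_mul, S.kb_mul]
  have hkA := F.act_of_kb F.act_x1 hkz he
  have h := F.key hkA (F.conj_v F.toFlip.act_yM y_pre.1 (by decide) y_pre.2.2.2.2.2.2.2.2.1)
    (fun a => (d8_maps a).2.2.2.2.1) ab_facts.2.2.1 (fun i => (ab_facts.2.1 i).1) a_ext
  rwa [he] at h

theorem x2_key : F.x2 * F.xc * F.x2⁻¹ = F.xc ∨ F.x2 * F.xc * F.x2⁻¹ = F.xc * F.rb 4 := by
  have hkz : S.ψ (yM * yM) * F.xg * (S.ψ (yM * yM))⁻¹ * S.z = S.z * (S.ψ (yM * yM) * F.xg * (S.ψ (yM * yM))⁻¹) :=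
    S.cz_mul (S.cz_mul (S.z_ψ _).symm F.xg_z) (S.cz_inv (S.z_ψ _).symm)
  have he : S.kb _ hkz = F.x2 := by
    rw [x2, x1, yb, xc, S.kb_inv, S.kb_mul, S.kb_mul, S.kb_mul, S.kb_mul, S.kb_eq]
    left; rw [map_mul]; group
  have hy2 : F.toFlip.Act (S.ψ (yM * yM)) (lf yL ∘ lf yL) := by
    rw [map_mul]; exact F.toFlip.act_yM.comp F.toFlip.act_yM
  have hkA := F.act_of_kb F.act_x2 hkz he
  have h := F.key hkA (F.conj_v hy2 y_pre.2.1 (by decide) y_pre.2.2.2.2.2.2.2.2.2.1)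
    (fun a => (d8_maps a).2.2.2.2.2.1) ab_facts.2.2.2.1 (fun i => (ab_facts.2.1 i).2) b_ext
  rwa [he] at h

theorem rb_four {q : S.Kb} {t : Fin 64 → Fin 64} (h : F.BAct q t) (ht : t 4 = 4) :
    q * F.rb 4 = F.rb 4 * q := by
  have := h.comm F 4
  rwa [ht] at this

/-- THE THREE INVOLUTIONS COMMUTE. -/
theorem four_comm : F.x1 * F.xc = F.xc * F.x1 ∧ F.x2 * F.xc = F.xc * F.x2 ∧ F.x2 * F.x1 = F.x1 * F.x2 := by
  have hc4 := F.rb_four F.act_xc (by decide +kernel)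
  have hy4 : F.rb (lf yL 4) ≠ F.rb 4 := fun e => y_pre.2.2.2.2.2.2.2.2.2.2.1 (F.toMid.rb_inj e)
  have hy0 : lf yL 4 ≠ 0 := by decide +kernel
  have h21 : F.xc * F.x1 * F.xc⁻¹ = F.x1 ∨ F.xc * F.x1 * F.xc⁻¹ = F.x1 * F.rb (lf yL 4) := by
    have hy3 : F.yb * F.x2 * F.yb⁻¹ = F.xc := by
      rw [x2, x1]
      calc F.yb * (F.yb * (F.yb * F.xc * F.yb⁻¹) * F.yb⁻¹) * F.yb⁻¹
          = F.yb * (F.yb * F.yb) * F.xc * (F.yb * (F.yb * F.yb))⁻¹ := by group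
        _ = F.xc := by rw [F.y_cube, inv_one, mul_one, one_mul]
    have e : F.xc * F.x1 * F.xc⁻¹ = F.yb * (F.x2 * F.xc * F.x2⁻¹) * F.yb⁻¹ := by
      calc F.xc * F.x1 * F.xc⁻¹ = (F.yb * F.x2 * F.yb⁻¹) * F.x1 * (F.yb * F.x2 * F.yb⁻¹)⁻¹ := by rw [hy3]
        _ = _ := by rw [x1]; group
    rcases F.x2_key with h | h
    · left; rw [e, h]; rfl
    · right; rw [e, h, ← (F.act_yb).conj F 4, x1]; group
  have h12 : F.xc * F.x1 * F.xc⁻¹ = F.x1 ∨ F.xc * F.x1 * F.xc⁻¹ = F.x1 * F.rb 4 := by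
    rcases F.x1_key with h | h
    · left
      rw [mul_inv_eq_iff_eq_mul] at h ⊢
      exact h.symm
    · right
      rw [mul_inv_eq_iff_eq_mul] at h
      rw [mul_inv_eq_iff_eq_mul]
      symm
      calc F.x1 * F.rb 4 * F.xc = F.x1 * (F.xc * F.rb 4) := by rw [hc4, mul_assoc]
        _ = F.xc * F.rb 4 * F.x1 * F.rb 4 := by rw [← mul_assoc, h]
        _ = F.xc * (F.x1 * F.rb 4) * F.rb 4 := by rw [F.rb_four F.act_x1 (by decide +kernel), ← mul_assoc]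
        _ = F.xc * F.x1 := by rw [mul_assoc, mul_assoc, F.toMid.rb_sq, mul_one]
  have h1 : F.x1 * F.xc = F.xc * F.x1 := by
    rcases h12 with h | h
    · exact (mul_inv_eq_iff_eq_mul.1 h).symm
    · rcases h21 with h' | h'
      · exact (mul_inv_eq_iff_eq_mul.1 h').symm
      · exact absurd (mul_left_cancel (h'.symm.trans h)) hy4
  have h2 : F.x2 * F.xc = F.xc * F.x2 := by
    rcases F.x2_key with h | h
    · exact mul_inv_eq_iff_eq_mul.1 h
    · exfalso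
      have e : F.xc * F.x1 * F.xc⁻¹ = F.x1 := by rw [← h1, mul_inv_cancel_right]
      have hy3 : F.yb * F.x2 * F.yb⁻¹ = F.xc := by
        rw [x2, x1]
        calc F.yb * (F.yb * (F.yb * F.xc * F.yb⁻¹) * F.yb⁻¹) * F.yb⁻¹
            = F.yb * (F.yb * F.yb) * F.xc * (F.yb * (F.yb * F.yb))⁻¹ := by group
          _ = F.xc := by rw [F.y_cube, inv_one, mul_one, one_mul]
      have e2 : F.xc * F.x1 * F.xc⁻¹ = F.x1 * F.rb (lf yL 4) := by
        rw [← (F.act_yb).conj F 4]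
        calc F.xc * F.x1 * F.xc⁻¹ = (F.yb * F.x2 * F.yb⁻¹) * F.x1 * (F.yb * F.x2 * F.yb⁻¹)⁻¹ := by rw [hy3]
          _ = F.yb * (F.x2 * F.xc * F.x2⁻¹) * F.yb⁻¹ := by rw [x1]; group
          _ = _ := by rw [h, x1]; group
      rw [e, eq_comm, mul_eq_left, ← F.toMid.rb_zero] at e2
      exact hy0 (F.toMid.rb_inj e2)
  refine ⟨h1, h2, ?_⟩
  have : F.yb * (F.x1 * F.xc) * F.yb⁻¹ = F.yb * (F.xc * F.x1) * F.yb⁻¹ := by rw [h1]
  calc F.x2 * F.x1 = F.yb * (F.x1 * F.xc) * F.yb⁻¹ := by rw [x2, x1]; group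
    _ = _ := this
    _ = _ := by rw [x2, x1]; group

/-- THE PRODUCT of the three involutions is fixed by the four group. -/
theorem four_prod : ∃ a, inFL a = true ∧ F.xc * F.x1 * F.x2 = F.rb a := by
  have hA := (F.act_xc.comp F F.act_x1).comp F F.act_x2
  have ht : (cT ∘ aT) ∘ bT = id := funext fun a => by
    show cT (aT (bT a)) = a
    rw [(d8_maps (bT a)).1, (d8_maps a).2.2.2.2.2.1]
  rw [ht] at hA
  obtain ⟨a, ha⟩ := F.eq_rb hA
  refine ⟨a, (fix_four a).1 ⟨?_, ?_⟩, ha⟩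
  · have := F.act_xc.comm F a
    refine F.toMid.rb_inj (mul_right_cancel (b := F.xc) ?_)
    rw [← this, ← ha]
    obtain ⟨h1, h2, h3⟩ := F.four_comm
    simp only [mul_assoc]
    rw [h2, ← mul_assoc F.x1, h1, mul_assoc]
  · have := F.act_x1.comm F a
    refine F.toMid.rb_inj (mul_right_cancel (b := F.x1) ?_)
    rw [← this, ← ha]
    obtain ⟨h1, h2, h3⟩ := F.four_comm
    simp only [mul_assoc]
    rw [h3, ← mul_assoc F.x1 F.xc, h1, mul_assoc]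

end Co

end Cfsg.Lib.CoThreeM
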