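/-
The Sylow subgroup of the stabiliser of `f` as a subgroup of the model.
-/
import Cfsg.Agent.CoThreeM.Four

set_option autoImplicit false
set_option linter.unusedSectionVars false
set_option linter.style.haveILetI false
set_option maxRecDepth 10000

namespace Cfsg.Lib.CoThreeM

open Subgroup Cfsg.Lib.M12Cent

universe u

variable {G : Type u} [Group G] [Finite G] {S : Setup G}

theorem p_ext : ∀ x : Fin 64,
    ((List.range 64).all fun i => q4 true false (lf [1, 2, 4, 8, 16, x.val] ⟨i % 64, Nat.mod_lt _ (by norm_num)⟩) ==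
      q4 true false ⟨i % 64, Nat.mod_lt _ (by norm_num)⟩) = true → x = 32 := by decide +kernel

theorem p_units : prV (lf piL 1) = 1 ∧ prV (lf piL 2) = 2 ∧ prV (lf piL 8) = 8 ∧ prV (lf piL 16) = 16 ∧
    lf [1, 2, 4, 8, 16, 32] 46 = 46 ∧ (∀ i : Fin 4,
      (lf piL (([1, 2, 8, 16] : List (Fin 64)).getD i.val 0)).val.testBit 5 = false) ∧
    units (tD 0) = units id ∧ inFL (lf yL (lf yL 4)) = true ∧ dCode 0 = (false, false, false) := by decide +kernel

/-- a power -/
def pg {A : Type*} [Monoid A] (b : Bool) (x : A) : A := bif b then x else 1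

theorem pg_mul {A : Type*} [Monoid A] {x : A} (hx : x * x = 1) (a b : Bool) : pg a x * pg b x = pg (xor a b) x := by
  cases a <;> cases b <;> simp [pg, hx]

theorem pg_comm {A : Type*} [Monoid A] {x y : A} (h : Commute x y) (a b : Bool) : Commute (pg a x) (pg b y) := by
  cases a <;> cases b <;> simp [pg, h]

namespace Co

variable (F : Co S)

/-- the involution of the complement fixes the first involution modulo `v` -/
theorem p_xc : F.pb * F.xc * F.pb⁻¹ = F.xc ∨ F.pb * F.xc * F.pb⁻¹ = F.xc * F.rb 4 := by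
  have hz : S.ψ piM * S.z = S.z * S.ψ piM := (S.z_ψ _).symm
  have hv : S.ψ piM * S.v = S.v * S.ψ piM := by
    rw [Setup.v, ← map_mul, ← map_mul, (inK_iff piM).1 elt_facts.2.2.1]
  have hA := F.toFlip.act_piM
  have hc : F.toMid.WC 8 ((S.ψ piM)⁻¹ * S.e * S.ψ piM) := by
    rw [mul_assoc, S.e_ψ, inv_mul_cancel_left]; exact F.toMid.WC_e
  obtain ⟨t, ht⟩ := F.toMid.vact_of Function.bijective_id (Mid.id_pair hz hv) hc
  have hfix : ∀ i : Fin 4, t (([1, 2, 8, 16] : List (Fin 64)).getD i.val 0) =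
      prV (lf piL (([1, 2, 8, 16] : List (Fin 64)).getD i.val 0)) := fun i => by
    obtain ⟨ha5, hap⟩ := unit_bit5 i
    set a := ([1, 2, 8, 16] : List (Fin 64)).getD i.val 0
    have h2 := ht.conj (F.toMid.WC_of_RC ha5 (F.toFlip.RC_self a))
    rw [hap] at h2
    exact F.toMid.WC_inj h2 (F.toMid.WC_of_RC (p_units.2.2.2.2.2.1 i) (hA.2 a))
  have h4 : t 4 = 4 := by
    refine F.toMid.WC_inj (ht.conj (F.toMid.WC_self 4)) ?_
    have e : F.toMid.rW 4 = S.ψ piM := by
      simp [Mid.rW, Mid.ev4, wC_units.2.2.2.2.2.2.2.1, Setup.E, Twist.W, Mid.H]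
    have h := F.toMid.WC_self 4
    rw [e] at h ⊢
    rwa [mul_inv_cancel_right]
  have hl : t = lf [1, 2, 4, 8, 16, (t 32).val] := by
    conv_lhs => rw [lin_lf ht.map_add]
    congr 1
    have e1 : t 1 = prV (lf piL 1) := hfix 0
    have e2 : t 2 = prV (lf piL 2) := hfix 1
    have e8 : t 8 = prV (lf piL 8) := hfix 2
    have e16 : t 16 = prV (lf piL 16) := hfix 3
    rw [p_units.1] at e1
    rw [p_units.2.1] at e2
    rw [p_units.2.2.1] at e8
    rw [p_units.2.2.2.1] at e16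
    simp [List.range_succ, e1, e2, e8, e16, h4]
  have heq := p_ext (t 32) (by
    rw [List.all_eq_true]
    intro x _
    rw [beq_iff_eq, ← hl]
    have := ht.q ⟨x % 64, Nat.mod_lt _ (by norm_num)⟩
    rwa [F.hd, F.r_false] at this)
  rw [heq] at hl
  have h3 := ht.conj (F.toMid.WC_self 46)
  rw [hl, show lf [1, 2, 4, 8, 16, (32 : Fin 64).val] 46 = 46 from p_units.2.2.2.2.1,
    show F.toMid.rW 46 = F.xg from rfl] at h3
  obtain ⟨d, hd⟩ := h3
  have hdz : S.zc d * S.z = S.z * S.zc d := by rw [Setup.zc]; exact (S.z_ψ _).symm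
  have hgoal : F.pb * F.xc * F.pb⁻¹ = F.xc * S.kb (S.zc d) hdz := by
    rw [pb, xc, S.kb_inv, S.kb_mul, S.kb_mul, S.kb_mul, S.kb_eq]
    exact Or.inl hd
  rcases F.kb_zc hdz rfl with e | e
  · left; rw [hgoal, e, mul_one]
  · right; rw [hgoal, e]

/-- the conjugate of the second involution -/
def xp : S.Kb := F.pb * F.x1 * F.pb⁻¹

theorem xp_sq : F.xp * F.xp = 1 := conj_sq F.x1_sq

theorem act_xp : F.BAct F.xp bT := by
  have h := (F.act_pb.comp F F.act_x1).comp F (F.act_pb.inv F fun a => (d8_maps a).2.2.2.2.2.2)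
  convert h using 1
  · rfl
  funext a
  exact ((d8_maps a).2.1).symm

theorem x1_xp : Commute F.x1 F.xp := by
  obtain ⟨h1, h2, h3⟩ := F.four_comm
  have hx : F.xp = F.x2 ∨ F.xp = F.x2 * F.rb (lf yL (lf yL 4)) := by
    have e : F.xp = F.yb * (F.yb * (F.pb * F.xc * F.pb⁻¹) * F.yb⁻¹) * F.yb⁻¹ := by
      rw [xp, x1, show F.pb * (F.yb * F.xc * F.yb⁻¹) * F.pb⁻¹ = (F.pb * F.yb) * F.xc * (F.pb * F.yb)⁻¹ by group, F.p_y]
      group
    rcases F.p_xc with h | h
    · left; rw [e, h, x2, x1]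
    · right
      rw [e, h, x2, x1, ← F.act_yb.conj F (lf yL 4), ← F.act_yb.conj F 4]
      group
  rcases hx with h | h
  · rw [h]; exact h3.symm
  · rw [h]
    refine Commute.mul_right h3.symm ?_
    have := F.act_x1.comm F (lf yL (lf yL 4))
    rwa [((fix_four _).2 p_units.2.2.2.2.2.2.2.1).2] at this

/-- an element of the complement -/
def de (p : Bool × Bool × Bool) : S.Kb := pg p.1 F.x1 * pg p.2.1 F.xp * pg p.2.2 F.pb

theorem de_mul (p q : Bool × Bool × Bool) : F.de p * F.de q = F.de (d8mul p q) := by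
  obtain ⟨i, j, l⟩ := p
  obtain ⟨i', j', l'⟩ := q
  have hA : ∀ i j i' j', pg i F.x1 * pg j F.xp * (pg i' F.x1 * pg j' F.xp) =
      pg (xor i i') F.x1 * pg (xor j j') F.xp := fun i j i' j' => by
    rw [← pg_mul F.x1_sq, ← pg_mul F.xp_sq, mul_assoc, ← mul_assoc (pg j F.xp), ← (pg_comm F.x1_xp i' j).eq]
    simp only [mul_assoc]
  have hp1 : F.pb * F.x1 = F.xp * F.pb := by rw [xp, inv_mul_cancel_right]
  have hp2 : F.pb * F.xp = F.x1 * F.pb := by
    have hpi : F.pb⁻¹ = F.pb := inv_eq_of_mul_eq_one_right F.p_sq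
    rw [xp, hpi, ← mul_assoc, ← mul_assoc, F.p_sq, one_mul]
  cases l
  · simp only [de, d8mul, pg, cond_false, mul_one, Bool.false_bne]
    have := hA i j i' j'
    simp only [pg] at this
    rw [← mul_assoc, this]
  · have hq1 : ∀ b, F.pb * pg b F.x1 = pg b F.xp * F.pb := fun b => by cases b <;> simp [pg, hp1]
    have hq2 : ∀ b, F.pb * pg b F.xp = pg b F.x1 * F.pb := fun b => by cases b <;> simp [pg, hp2]
    have hsw : F.pb * (pg i' F.x1 * pg j' F.xp) = pg j' F.x1 * pg i' F.xp * F.pb := by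
      rw [← mul_assoc, hq1, mul_assoc, hq2, ← mul_assoc, (pg_comm F.x1_xp j' i').eq]
    simp only [de, d8mul, cond_true]
    rw [← pg_mul F.p_sq]
    calc pg i F.x1 * pg j F.xp * pg true F.pb * (pg i' F.x1 * pg j' F.xp * pg l' F.pb)
        = pg i F.x1 * pg j F.xp * (F.pb * (pg i' F.x1 * pg j' F.xp)) * pg l' F.pb := by
          simp only [pg, cond_true, mul_assoc]
      _ = pg i F.x1 * pg j F.xp * (pg j' F.x1 * pg i' F.xp) * (F.pb * pg l' F.pb) := by
          rw [hsw]; simp only [mul_assoc]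
      _ = _ := by rw [hA]; rfl

theorem act_pg {q : S.Kb} {t : Fin 64 → Fin 64} (h : F.BAct q t) (b : Bool) : F.BAct (pg b q) (pf b t) := by
  cases b
  · exact BAct.one F
  · exact h

/-- an element of the complement, by code -/
def dd (k : Fin 8) : S.Kb := F.de (dCode k)

theorem act_dd (k : Fin 8) : F.BAct (F.dd k) (tD k) :=
  ((F.act_pg F.act_x1 _).comp F (F.act_pg F.act_xp _)).comp F (F.act_pg F.act_pb _)

/-- an element of the Sylow subgroup -/
def qv (a : Fin 64) (k : Fin 8) : S.Kb := F.rb a * F.dd k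

theorem act_qv (a : Fin 64) (k : Fin 8) : F.BAct (F.qv a k) (tD k) :=
  (BAct.rb F a).comp F (F.act_dd k)

theorem qv_mul (a b : Fin 64) {k l m : Fin 8} (h : d8mul (dCode k) (dCode l) = dCode m) :
    F.qv a k * F.qv b l = F.qv (x6 a (tD k b)) m := by
  have e : F.dd k * F.dd l = F.dd m := by rw [dd, dd, F.de_mul, h]; rfl
  calc F.qv a k * F.qv b l = F.rb a * (F.dd k * F.rb b) * F.dd l := by simp only [qv, mul_assoc]
    _ = F.rb a * F.rb (tD k b) * (F.dd k * F.dd l) := by rw [(F.act_dd k).comm F b]; simp only [mul_assoc]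
    _ = _ := by rw [F.toMid.rb_mul, e, qv]

theorem qv_inj {a b : Fin 64} {k l : Fin 8} (h : F.qv a k = F.qv b l) : a = b ∧ k = l := by
  have hkl : k = l := tD_inj k l (congrArg units ((F.act_qv a k).unique F (h ▸ F.act_qv b l)))
  subst hkl
  exact ⟨F.toMid.rb_inj (mul_right_cancel h), rfl⟩

theorem qv_zero : F.qv 0 0 = 1 := by
  rw [qv, F.toMid.rb_zero, dd, p_units.2.2.2.2.2.2.2.2]
  simp [de, pg]

open Cfsg.Lib.AltTwelveType in
/-- the image of an element of the Sylow subgroup of the model -/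
noncomputable def psiFun (m : ↥Sm) : S.Kb :=
  F.qv (iot m.2.choose) ⟨m.2.choose_spec.choose.val, m.2.choose_spec.choose_spec.1⟩

open Cfsg.Lib.AltTwelveType in
theorem psiFun_eq (m : ↥Sm) {a : Fin 64} {k : Fin 24} (hk : k.val < 8) (h : (m : Mh) = pa a * pk k) :
    F.psiFun m = F.qv (iot a) ⟨k.val, hk⟩ := by
  obtain ⟨e1, e2⟩ := pair_inj (m.2.choose_spec.choose_spec.2.symm.trans h)
  unfold psiFun
  congr 1
  · rw [e1]
  · exact Fin.ext (congrArg (fun x : Fin 24 => x.val) e2)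

open Cfsg.Lib.AltTwelveType in
/-- THE EMBEDDING of the Sylow subgroup of the model. -/
noncomputable def psi : ↥Sm →* S.Kb :=
  MonoidHom.mk' F.psiFun fun m n => by
    obtain ⟨a, k, hk, hm⟩ := m.2
    obtain ⟨b, l, hl, hn⟩ := n.2
    obtain ⟨j, hj, hd⟩ := d8_table ⟨k.val, hk⟩ ⟨l.val, hl⟩ k l rfl rfl
    have hmn : ((m * n : ↥Sm) : Mh) = pa (axor a (act k b)) * pk (kmul k l) := by
      rw [Subgroup.coe_mul, hm, hn, ← pa_mul, ← pk_mul]
      calc pa a * pk k * (pa b * pk l) = pa a * (pk k * pa b) * pk l := by group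
        _ = _ := by rw [pk_pa]; group
    rw [F.psiFun_eq m hk hm, F.psiFun_eq n hl hn, F.qv_mul _ _ hd,
      F.psiFun_eq (m * n) (hj ▸ j.isLt) hmn, iot_facts.1, d8_basic.2.2.2 ⟨k.val, hk⟩ k rfl b]
    congr 1
    exact Fin.ext hj

open Cfsg.Lib.AltTwelveType in
theorem psi_eq (m : ↥Sm) {a : Fin 64} {k : Fin 24} (hk : k.val < 8) (h : (m : Mh) = pa a * pk k) :
    F.psi m = F.qv (iot a) ⟨k.val, hk⟩ := F.psiFun_eq m hk h

open Cfsg.Lib.AltTwelveType in
theorem mem_psi {q : S.Kb} : q ∈ F.psi.range ↔ ∃ a k, q = F.qv a k := by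
  constructor
  · rintro ⟨m, rfl⟩
    obtain ⟨a, k, hk, hm⟩ := m.2
    exact ⟨_, _, F.psi_eq m hk hm⟩
  · rintro ⟨a, k, rfl⟩
    obtain ⟨a', rfl⟩ := iot_facts.2.2.1 a
    have hk24 : k.val < 24 := by omega
    have hm : pa a' * pk ⟨k.val, hk24⟩ ∈ Sm := ⟨a', ⟨k.val, hk24⟩, k.isLt, rfl⟩
    exact ⟨⟨_, hm⟩, F.psi_eq ⟨_, hm⟩ (a := a') (k := ⟨k.val, hk24⟩) k.isLt rfl⟩

open Cfsg.Lib.AltTwelveType in
theorem psi_inj : Function.Injective F.psi := by
  intro m n h
  obtain ⟨a, k, hk, hm⟩ := m.2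
  obtain ⟨b, l, hl, hn⟩ := n.2
  rw [F.psi_eq m hk hm, F.psi_eq n hl hn] at h
  obtain ⟨e1, e2⟩ := F.qv_inj h
  have e3 : a = b := by
    have e0 : iot (axor a b) = 0 := by rw [iot_facts.1, e1, x6_self]
    have hx : ∀ a b : Fin 64, axor a b = 0 → a = b := by decide +kernel
    exact hx a b (iot_facts.2.1 _ e0)
  have e4 : k = l := Fin.ext (congrArg (fun x : Fin 8 => x.val) e2)
  exact Subtype.ext (by rw [hm, hn, e3, e4])

end Co

end Cfsg.Lib.CoThreeM
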