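/-
The image of the Sylow subgroup of the model is a Sylow subgroup.
-/
import Cfsg.Agent.CoThreeM.Tee

set_option autoImplicit false
set_option linter.unusedSectionVars false
set_option linter.style.haveILetI false
set_option maxRecDepth 10000

namespace Cfsg.Lib.CoThreeM

open Subgroup Cfsg.Lib.M12Cent

universe u

variable {G : Type u} [Group G] [Finite G] {S : Setup G}

namespace Co

variable (F : Co S)

theorem BAct.map_add {q : S.Kb} {t : Fin 64 → Fin 64} (h : F.BAct q t) (a b : Fin 64) :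
    t (x6 a b) = x6 (t a) (t b) := by
  refine F.toMid.rb_inj ?_
  rw [← h.conj F, ← F.toMid.rb_mul, ← F.toMid.rb_mul, ← h.conj F, ← h.conj F]
  group

theorem BAct.injective {q : S.Kb} {t : Fin 64 → Fin 64} (h : F.BAct q t) : Function.Injective t := fun a b e => by
  have := congrArg F.rb e
  rw [← h.conj F, ← h.conj F] at this
  exact F.toMid.rb_inj (mul_left_cancel (mul_right_cancel this))

/-- elements acting as the complement are in the range -/
theorem mem_of_act {u : S.Kb} {k : Fin 8} (h : F.BAct u (tD k)) : u ∈ F.psi.range := by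
  choose t' ht' using Finite.injective_iff_surjective.1 ((F.act_dd k).injective F)
  obtain ⟨a, ha⟩ := F.eq_rb_of_same h (F.act_dd k) ht'
  refine F.mem_psi.2 ⟨tD k a, k, ?_⟩
  rw [ha, (F.act_dd k).comm F a, qv]

theorem card_range : Nat.card ↥F.psi.range = 512 := by
  rw [← Nat.card_congr (MonoidHom.ofInjective F.psi_inj).toEquiv, AltTwelveType.card_Sm]

theorem range_two : IsPGroup 2 ↥F.psi.range := IsPGroup.of_card (n := 9) (by rw [F.card_range]; rfl)

/-- THE RADICAL is fixed by what normalises the range. -/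
theorem rad_image {u : S.Kb} (hu : ∀ x ∈ F.psi.range, u * x * u⁻¹ ∈ F.psi.range) (a : Fin 64) :
    ∃ b, u * F.rb a * u⁻¹ = F.rb b := by
  have hmem : ∀ a, ∃ b k, u * F.rb a * u⁻¹ = F.qv b k := fun a => F.mem_psi.1 (hu _ (F.mem_psi.2 ⟨a, 0, by
    rw [qv, dd, p_units.2.2.2.2.2.2.2.2]; simp [de, pg]⟩))
  choose α κ hf using hmem
  have hbase : ∀ a b, tD (κ (x6 a b)) = tD (κ a) ∘ tD (κ b) ∧ tD (κ a) ∘ tD (κ b) = tD (κ b) ∘ tD (κ a) := by
    intro a b
    have h1 := F.act_qv (α (x6 a b)) (κ (x6 a b))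
    have h2 := (F.act_qv (α a) (κ a)).comp F (F.act_qv (α b) (κ b))
    have h3 := (F.act_qv (α b) (κ b)).comp F (F.act_qv (α a) (κ a))
    rw [← hf, ← hf] at h2 h3
    rw [← hf, ← F.toMid.rb_mul] at h1
    rw [show u * F.rb a * u⁻¹ * (u * F.rb b * u⁻¹) = u * (F.rb a * F.rb b) * u⁻¹ by group] at h2
    rw [show u * F.rb b * u⁻¹ * (u * F.rb a * u⁻¹) = u * (F.rb b * F.rb a) * u⁻¹ by group,
      F.toMid.rb_mul, show x6 b a = x6 a b by simp [x6, Nat.xor_comm], ← F.toMid.rb_mul] at h3
    exact ⟨h1.unique F h2, h2.unique F h3⟩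
  have hsq : ∀ a, units (tD (κ a) ∘ tD (κ a)) = units id := fun a => by
    obtain ⟨h1, -⟩ := hbase a a
    rw [x6_self] at h1
    have h0 := F.act_qv (α 0) (κ 0)
    rw [← hf, F.toMid.rb_zero, mul_one, mul_inv_cancel] at h0
    rw [← h1, h0.unique F (BAct.one F)]
  have hadd : ∀ a b, units (tD (κ (x6 a b))) = units (tD (κ a) ∘ tD (κ b)) := fun a b => congrArg units (hbase a b).1
  have hfix : ∀ a c, κ c = 0 → tD (κ a) (α c) = α c := fun a c hc => by
    refine F.toMid.rb_inj ?_
    have e : u * F.rb c * u⁻¹ = F.rb (α c) := by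
      rw [hf, hc, qv, dd, p_units.2.2.2.2.2.2.2.2]; simp [de, pg]
    rw [← (F.act_qv (α a) (κ a)).conj F, ← hf, ← e,
      show u * F.rb a * u⁻¹ * (u * F.rb c * u⁻¹) * (u * F.rb a * u⁻¹)⁻¹ = u * (F.rb a * F.rb c * (F.rb a)⁻¹) * u⁻¹ by
        group, F.toMid.rb_inv, F.toMid.rb_mul, F.toMid.rb_mul]
    congr 3
    exact (by decide +kernel : ∀ a c : Fin 64, x6 (x6 a c) a = c) a c
  have hαinj : ∀ a b, κ a = κ b → α a = α b → a = b := fun a b h1 h2 => by
    have e : u * F.rb a * u⁻¹ = u * F.rb b * u⁻¹ := by rw [hf, hf, h1, h2]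
    exact F.toMid.rb_inj (mul_left_cancel (mul_right_cancel e))
  by_contra hne
  have hk : κ a ≠ 0 := fun h => hne ⟨α a, by rw [hf, h, qv, dd, p_units.2.2.2.2.2.2.2.2]; simp [de, pg]⟩
  obtain ⟨hk16, hk8⟩ := tD_one (κ a) hk (hsq a)
  have hshift : ∀ c d, units (tD (κ c)) = units (tD (κ d)) → κ (x6 c d) = 0 := fun c d h => by
    refine tD_inj _ _ ?_
    rw [hadd, tD_inj _ _ h, hsq, p_units.2.2.2.2.2.2.1]
  have hx : ∀ c s : Fin 64, x6 (x6 c s) s = c := by decide +kernel
  by_cases hall : ∀ c, κ c = 0 ∨ κ c = κ a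
  · have hle : (Finset.univ : Finset (Fin 64)).card ≤
        ((Finset.univ : Finset Bool) ×ˢ Finset.univ.filter fun x : Fin 64 => tD (κ a) x = x).card := by
      refine Finset.card_le_card_of_injOn
        (fun c => if κ c = 0 then (false, α c) else (true, α (x6 c a))) (fun c _ => ?_) fun c _ d _ h => ?_
      · simp only [Finset.coe_product, Set.mem_prod, Finset.coe_univ, Set.mem_univ, true_and, Finset.coe_filter,
          Set.mem_ofPred_eq, Finset.mem_univ]
        split_ifs with h0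
        · exact hfix a c h0
        · exact hfix a _ (hshift c a (by rw [(hall c).resolve_left h0]))
      · simp only at h
        split_ifs at h with hc hd hd
        · exact hαinj c d (hc.trans hd.symm) (Prod.mk.injEq _ _ _ _ ▸ h).2
        · simp at h
        · simp at h
        · have h1 := hshift c a (by rw [(hall c).resolve_left hc])
          have h2 := hshift d a (by rw [(hall d).resolve_left hd])
          rw [← hx c a, ← hx d a, hαinj _ _ (h1.trans h2.symm) (Prod.mk.injEq _ _ _ _ ▸ h).2]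
    rw [Finset.card_univ, Fintype.card_fin, Finset.card_product, Finset.card_univ, Fintype.card_bool] at hle
    omega
  · push Not at hall
    obtain ⟨b, hb0, hba⟩ := hall
    have hk8' := hk8 (κ b) hb0 hba (hsq b) (congrArg units (hbase a b).2)
    have hcov : ∀ c, ∃ s : Fin 4, κ (x6 c (([0, a, b, x6 a b] : List (Fin 64)).getD s.val 0)) = 0 := fun c => by
      rcases tD_klein (κ a) (κ b) (κ c) hk hb0 (Ne.symm hba) (hsq a) (hsq b) (hsq c) (congrArg units (hbase a b).2)
        (congrArg units (hbase a c).2) (congrArg units (hbase b c).2) with h | h | h | h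
      · refine ⟨0, ?_⟩
        show κ (x6 c 0) = 0
        rw [(by decide +kernel : ∀ c : Fin 64, x6 c 0 = c) c, h]
      · exact ⟨1, hshift c a (by rw [h])⟩
      · exact ⟨2, hshift c b (by rw [h])⟩
      · exact ⟨3, hshift c (x6 a b) (by rw [h, hadd])⟩
    choose s hs using hcov
    have hle : (Finset.univ : Finset (Fin 64)).card ≤ ((Finset.univ : Finset (Fin 4)) ×ˢ
        Finset.univ.filter fun x : Fin 64 => tD (κ a) x = x ∧ tD (κ b) x = x).card := by
      refine Finset.card_le_card_of_injOn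
        (fun c => (s c, α (x6 c (([0, a, b, x6 a b] : List (Fin 64)).getD (s c).val 0))))
        (fun c _ => ?_) fun c _ d _ h => ?_
      · simp only [Finset.coe_product, Set.mem_prod, Finset.coe_univ, Set.mem_univ, true_and, Finset.coe_filter,
          Set.mem_ofPred_eq, Finset.mem_univ]
        exact ⟨hfix a _ (hs c), hfix b _ (hs c)⟩
      · obtain ⟨h1, h2⟩ := Prod.mk.injEq _ _ _ _ ▸ h
        have := hαinj _ _ ((hs c).trans (hs d).symm) h2
        rw [h1] at this
        rw [← hx c _, this, hx]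
    rw [Finset.card_univ, Fintype.card_fin, Finset.card_product, Finset.card_univ, Fintype.card_fin] at hle
    omega

/-- THE RANGE is its own normaliser. -/
theorem self_norm {u : S.Kb} (hu : ∀ x ∈ F.psi.range, u * x * u⁻¹ ∈ F.psi.range) : u ∈ F.psi.range := by
  choose t ht using F.rad_image hu
  obtain ⟨g, hg, rfl⟩ := S.kb_surj u
  have hA : F.toFlip.Act g t := ⟨hg, fun a => F.toMid.RC_of_kb
    (S.cz_mul (S.cz_mul hg (F.toFlip.rR_z a)) (S.cz_inv hg)) (by rw [← ht a, Mid.rb, S.kb_inv, S.kb_mul, S.kb_mul])⟩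
  have hB : F.BAct (S.kb g hg) t := ⟨g, hg, rfl, hA⟩
  obtain ⟨g0, -, hall⟩ := F.toMid.autom_eq F.hd
  obtain ⟨r, hr, hrt⟩ := hall g t hA
  have hchk : selfNorm g0.val = true := by
    fin_cases g0
    exacts [self_norm0, self_norm1]
  have hc := List.all_eq_true.1 hchk r hr
  simp only [Bool.or_eq_true, List.any_eq_true, List.all_eq_true, Bool.not_eq_true', beq_eq_false_iff_ne] at hc
  rcases hc with hc | ⟨k, -, hk⟩
  · simp only [d8U, List.contains_iff_mem, List.mem_map] at hc
    obtain ⟨k, -, hk⟩ := hc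
    refine F.mem_of_act (k := ⟨k % 8, Nat.mod_lt _ (by norm_num)⟩) ?_
    have he : t = tD ⟨k % 8, Nat.mod_lt _ (by norm_num)⟩ := by
      rw [lin_lf ((F.act_dd _).map_add F), hrt, mapOf, ← hk]; rfl
    rwa [← he]
  · exfalso
    obtain ⟨b, l, hl⟩ := F.mem_psi.1 (hu _ (F.mem_psi.2 ⟨0, ⟨k % 8, Nat.mod_lt _ (by norm_num)⟩, rfl⟩))
    have h1 := hB.comp F (F.act_qv 0 ⟨k % 8, Nat.mod_lt _ (by norm_num)⟩)
    have h2 := (F.act_qv b l).comp F hB
    rw [← hl, inv_mul_cancel_right] at h2
    refine hk l.val (List.mem_range.2 l.isLt) ?_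
    have := h1.unique F h2
    rw [hrt] at this
    have e : (⟨l.val % 8, Nat.mod_lt _ (by norm_num)⟩ : Fin 8) = l := Fin.ext (Nat.mod_eq_of_lt l.isLt)
    rw [e]
    exact congrArg units this

/-- THE RANGE has odd index. -/
theorem range_index : ¬ 2 ∣ F.psi.range.index := by
  intro h
  have hd : 2 ^ (9 + 1) ∣ Nat.card S.Kb := by
    rw [← F.psi.range.card_mul_index, F.card_range]
    exact mul_dvd_mul (dvd_refl (2 ^ 9)) h
  obtain ⟨K, hK, hle⟩ := Sylow.exists_subgroup_card_pow_succ hd F.card_range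
  have hidx : (F.psi.range.subgroupOf K).index = 2 := by
    have h1 := (F.psi.range.subgroupOf K).card_mul_index
    rw [Nat.card_congr (Subgroup.subgroupOfEquivOfLe hle).toEquiv, F.card_range, hK] at h1
    omega
  have hn := Subgroup.normal_of_index_eq_two hidx
  obtain ⟨u, huK, huT⟩ : ∃ u ∈ K, u ∉ F.psi.range := by
    by_contra hh
    push Not at hh
    have h1 : Nat.card ↥F.psi.range = Nat.card ↥K := by rw [le_antisymm hle hh]
    rw [F.card_range, hK] at h1
    omega
  refine huT (F.self_norm fun x hx => ?_)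
  exact hn.conj_mem ⟨x, hle hx⟩ hx ⟨u, huK⟩

end Co

end Cfsg.Lib.CoThreeM
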