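/-
The centraliser of the image of `f` and the normaliser of the elementary group in it.
-/
import Cfsg.Agent.CoThreeM.TeeSylow
import Cfsg.Agent.CoThreeM.Cf.Main

set_option autoImplicit false
set_option linter.unusedSectionVars false
set_option linter.style.haveILetI false
set_option maxRecDepth 10000

namespace Cfsg.Lib.CoThreeM

open Subgroup Cfsg.Lib.M12Cent

universe u

/-- the rows acting trivially modulo the pair -/
def pairTable (g : ℕ) : Bool :=
  (grpOf true g).all fun r => !(mapOf r.2.2 4 == 4 && prV (mapOf r.2.2 1) == 1 && prV (mapOf r.2.2 2) == 2 &&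
    prV (mapOf r.2.2 8) == 8 && prV (mapOf r.2.2 16) == 16) || mapOf r.2.2 16 == 16

theorem pair_table : ∀ g : Fin 2, pairTable g.val = true := by decide +kernel

theorem pr_facts : (∀ b : Fin 64, prV b ≠ 20) ∧ prV 8 = 8 ∧ (∀ a : Fin 64, x6 a 0 = a ∧ x6 0 a = a) ∧
    x6 16 4 = 20 ∧ x6 20 4 = 16 := by decide +kernel

theorem ypow_inj : ∀ p q : Fin 3, ∀ k l : Fin 8,
    units ((lf yL)^[p.val] ∘ tD k) = units ((lf yL)^[q.val] ∘ tD l) → p = q ∧ k = l := by decide +kernel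

theorem ypow_fix : ∀ p : Fin 3, (lf yL)^[p.val] 16 = 16 := by decide +kernel

variable {G : Type u} [Group G] [Finite G] {S : Setup G}

namespace Co

variable (F : Co S)

/-- the stabiliser of `f` -/
def fH : Subgroup S.Kb := centralizer {F.rb 16}

theorem fix_of_cent {q : S.Kb} {t : Fin 64 → Fin 64} (h : F.BAct q t) (hq : q ∈ F.fH) : t 16 = 16 :=
  F.toMid.rb_inj (by rw [← h.conj F, mem_centralizer_singleton_iff.1 hq, mul_inv_cancel_right])

theorem cent_of_fix {q : S.Kb} {t : Fin 64 → Fin 64} (h : F.BAct q t) (ht : t 16 = 16) : q ∈ F.fH := by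
  refine mem_centralizer_singleton_iff.2 ?_
  have := h.comm F 16
  rwa [ht] at this

theorem range_le : F.psi.range ≤ F.fH := by
  intro q hq
  obtain ⟨a, k, rfl⟩ := F.mem_psi.1 hq
  exact F.cent_of_fix (F.act_qv a k) (tD_fix k)

/-- the embedding into the stabiliser -/
noncomputable def psiH : ↥AltTwelveType.Sm →* ↥F.fH :=
  F.psi.codRestrict F.fH fun m => F.range_le ⟨m, rfl⟩

theorem psiH_inj : Function.Injective F.psiH := fun m n h =>
  F.psi_inj (congrArg Subtype.val h)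

theorem psiH_range : F.psiH.range = F.psi.range.subgroupOf F.fH := by
  ext x
  constructor
  · rintro ⟨m, rfl⟩; exact ⟨m, rfl⟩
  · rintro ⟨m, hm⟩; exact ⟨m, Subtype.ext hm⟩

theorem fH_index : ¬ 2 ∣ F.fH.index := fun h =>
  F.range_index (h.trans (Subgroup.index_dvd_of_le F.range_le))

theorem psiH_index : ¬ 2 ∣ F.psiH.range.index := fun h => F.range_index (by
  rw [← Subgroup.relIndex_mul_index F.range_le]
  rw [F.psiH_range] at h
  exact h.mul_right _)

theorem psiH_alpha : F.psiH ⟨AltTwelveType.αm, AltTwelveType.pa_mem_Sm 21⟩ ∈ Subgroup.center ↥F.fH := by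
  rw [Subgroup.mem_center_iff]
  intro g
  refine Subtype.ext ?_
  show g.1 * F.psi _ = F.psi _ * g.1
  rw [F.psi_eq _ (a := 21) (k := 0) (by decide) (by rw [AltTwelveType.pk_zero, mul_one]; rfl), iot_facts.2.2.2,
    show (⟨(0 : Fin 24).val, by decide⟩ : Fin 8) = 0 from rfl, qv, dd, p_units.2.2.2.2.2.2.2.2]
  simp only [de, pg, cond_false, mul_one]
  exact mem_centralizer_singleton_iff.1 g.2

theorem mem_E6 {x : ↥F.fH} : x ∈ Cf.E6.map F.psiH ↔ ∃ b, x.1 = F.rb b := by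
  have h0 : ∀ a, F.qv a 0 = F.rb a := fun a => by
    rw [qv, dd, p_units.2.2.2.2.2.2.2.2]; simp [de, pg]
  constructor
  · rintro ⟨m, ⟨a, ha⟩, rfl⟩
    refine ⟨iot a, ?_⟩
    rw [← h0]
    exact F.psi_eq m (a := a) (k := 0) (by decide) (by rw [AltTwelveType.pk_zero, mul_one]; exact ha)
  · rintro ⟨b, hb⟩
    obtain ⟨a, rfl⟩ := iot_facts.2.2.1 b
    refine ⟨⟨AltTwelveType.pa a, AltTwelveType.pa_mem_Sm a⟩, ⟨a, rfl⟩, Subtype.ext ?_⟩
    rw [hb, ← h0]
    exact F.psi_eq _ (a := a) (k := 0) (by decide) (by rw [AltTwelveType.pk_zero, mul_one])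

theorem act_of_norm {g : ↥F.fH} (hg : g ∈ normalizer (Cf.E6.map F.psiH : Set ↥F.fH)) :
    ∃ t, F.BAct g.1 t := by
  have h : ∀ a, ∃ b, g.1 * F.rb a * g.1⁻¹ = F.rb b := fun a => by
    obtain ⟨a', ha'⟩ := iot_facts.2.2.1 a
    have hmem : F.rb a ∈ F.fH := F.cent_of_fix (BAct.rb F a) rfl
    exact F.mem_E6.1 ((Subgroup.mem_normalizer_iff.1 hg ⟨F.rb a, hmem⟩).1 (F.mem_E6.2 ⟨a, rfl⟩))
  choose t ht using h
  obtain ⟨k, hk, hkq⟩ := S.kb_surj g.1
  refine ⟨t, k, hk, hkq, hk, fun a => F.toMid.RC_of_kb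
    (S.cz_mul (S.cz_mul hk (F.toFlip.rR_z a)) (S.cz_inv hk)) ?_⟩
  rw [← ht a, hkq, Mid.rb, S.kb_inv, S.kb_mul, S.kb_mul]

theorem norm_of_act {g : ↥F.fH} {t : Fin 64 → Fin 64} (h : F.BAct g.1 t) :
    g ∈ normalizer (Cf.E6.map F.psiH : Set ↥F.fH) := by
  rw [Subgroup.mem_normalizer_iff]
  intro x
  simp only [SetLike.mem_coe, F.mem_E6, Subgroup.coe_mul, Subgroup.coe_inv]
  constructor
  · rintro ⟨b, hb⟩
    exact ⟨t b, by rw [hb, h.conj F]⟩
  · rintro ⟨b, hb⟩
    obtain ⟨a, rfl⟩ := (Finite.injective_iff_surjective.1 (h.injective F)) b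
    exact ⟨a, by rw [← h.conj F] at hb; exact mul_left_cancel (mul_right_cancel hb)⟩

theorem act_ypow : ∀ p : ℕ, F.BAct (F.yb ^ p) (lf yL)^[p]
  | 0 => by rw [pow_zero]; exact BAct.one F
  | p + 1 => by rw [pow_succ, Function.iterate_succ]; exact (act_ypow p).comp F F.act_yb

/-- THE NORMALISER of the elementary group in the stabiliser. -/
theorem card_norm : Nat.card ↥(normalizer (Cf.E6.map F.psiH : Set ↥F.fH)) = 1536 := by
  have hact : ∀ x : Fin 64 × Fin 3 × Fin 8, F.BAct (F.rb x.1 * (F.yb ^ x.2.1.val * F.dd x.2.2))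
      ((lf yL)^[x.2.1.val] ∘ tD x.2.2) := fun x =>
    (BAct.rb F x.1).comp F ((F.act_ypow _).comp F (F.act_dd _))
  have hmem : ∀ x : Fin 64 × Fin 3 × Fin 8, F.rb x.1 * (F.yb ^ x.2.1.val * F.dd x.2.2) ∈ F.fH := fun x =>
    F.cent_of_fix (hact x) (by rw [Function.comp_apply, tD_fix, ypow_fix])
  let f : Fin 64 × Fin 3 × Fin 8 → ↥(normalizer (Cf.E6.map F.psiH : Set ↥F.fH)) := fun x =>
    ⟨⟨_, hmem x⟩, F.norm_of_act (g := ⟨_, hmem x⟩) (hact x)⟩
  have hbij : Function.Bijective f := by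
    constructor
    · rintro ⟨a, p, k⟩ ⟨b, q, l⟩ e
      have e' := congrArg (fun z => z.1.1) e
      simp only [f] at e'
      have h1 := hact (a, p, k)
      have h2 := hact (b, q, l)
      simp only at h1 h2
      rw [e'] at h1
      obtain ⟨rfl, rfl⟩ := ypow_inj p q k l (congrArg units (h1.unique F h2))
      rw [F.toMid.rb_inj (mul_right_cancel e')]
    · rintro ⟨g, hg⟩
      obtain ⟨t, ht⟩ := F.act_of_norm hg
      have h16 := F.fix_of_cent ht g.2
      have ht' := ht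
      obtain ⟨k, hk, hkq, hA⟩ := ht'
      obtain ⟨g0, -, hall⟩ := F.toMid.autom_eq F.hd
      obtain ⟨r, hr, hrt⟩ := hall k t hA
      have hchk : fixTable g0.val = true := by
        fin_cases g0
        exacts [fix_table0, fix_table1]
      have hc := List.all_eq_true.1 hchk r hr
      rw [← hrt, h16] at hc
      simp only [List.any_eq_true, beq_iff_eq, beq_self_eq_true, Bool.not_true, Bool.false_or] at hc
      obtain ⟨p, hp, l, -, hl⟩ := hc
      have hp3 : p < 3 := by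
        simp only [List.mem_cons, List.not_mem_nil, or_false] at hp
        omega
      set l8 : Fin 8 := ⟨l % 8, Nat.mod_lt _ (by norm_num)⟩
      have hb := (F.act_ypow p).comp F (F.act_dd l8)
      have hte : t = (lf yL)^[p] ∘ tD l8 := by
        rw [lin_lf (hb.map_add F), hrt, mapOf, hl]; rfl
      subst hte
      choose t' ht2 using Finite.injective_iff_surjective.1 (hb.injective F)
      obtain ⟨a, ha⟩ := F.eq_rb_of_same ht hb ht2
      refine ⟨(((lf yL)^[p] ∘ tD l8) a, ⟨p, hp3⟩, l8), Subtype.ext (Subtype.ext ?_)⟩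
      show F.rb _ * (F.yb ^ p * F.dd l8) = g.1
      rw [ha, hb.comm F a]
  rw [← Nat.card_congr (Equiv.ofBijective f hbij), Nat.card_prod, Nat.card_prod, Nat.card_fin, Nat.card_fin,
    Nat.card_fin]

theorem pair_trivial {k : G} (hk : F.toMid.VAct k id id) : k * F.toFlip.rR 16 * k⁻¹ = F.toFlip.rR 16 ∨
    k * F.toFlip.rR 16 * k⁻¹ = F.toFlip.rR 16 * S.z := by
  have hkz : k * S.z = S.z * k := by
    have := hk.1 1; rw [id, Mid.zc_one] at this; exact mul_inv_eq_iff_eq_mul.1 this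
  have hkv : k * S.v * k⁻¹ = S.v := by
    have := hk.1 2; rwa [id, Mid.zc_two] at this
  obtain ⟨b, hb⟩ : ∃ b, F.toFlip.RC b (k * S.e * k⁻¹) := by
    obtain ⟨s, hs⟩ := hk.conj F.toMid.WC_e
    obtain ⟨s', hs'⟩ := F.toMid.WC_e
    simp only [id] at hs
    have e : k * S.e * k⁻¹ = S.e * S.zc (x4 s' s) := by
      rw [hs, hs', mul_assoc, Mid.zc_mul, ← (x4_facts s' s' s).2.2.2.2, (x4_facts s' s' s).1, (x4_facts s 0 0).2.1]
    have hdz : S.zc (x4 s' s) * S.z = S.z * S.zc (x4 s' s) := by rw [Setup.zc]; exact (S.z_ψ _).symm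
    have hq : S.kb (k * S.e * k⁻¹) (S.cz_mul (S.cz_mul hkz S.e_z) (S.cz_inv hkz)) =
        S.kb S.e S.e_z * S.kb (S.zc (x4 s' s)) hdz := by rw [S.kb_mul, S.kb_eq]; exact Or.inl e
    rw [F.toMid.kb_RC F.toFlip.RC_e S.e_z] at hq
    rcases F.kb_zc hdz rfl with h | h
    · rw [h, mul_one] at hq; exact ⟨8, F.toMid.RC_of_kb _ hq⟩
    · rw [h, F.toMid.rb_mul] at hq; exact ⟨_, F.toMid.RC_of_kb _ hq⟩
  obtain ⟨t, ht⟩ := F.toFlip.act_of_e hkz hb
  have t4 : t 4 = 4 := F.toFlip.RC_inj (ht.conj F.toFlip.RC_v) (by rw [hkv]; exact F.toFlip.RC_v)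
  have hfix : ∀ i : Fin 4, prV (t (([1, 2, 8, 16] : List (Fin 64)).getD i.val 0)) =
      ([1, 2, 8, 16] : List (Fin 64)).getD i.val 0 := fun i => by
    obtain ⟨ha5, hap⟩ := unit_bit5 i
    set a := ([1, 2, 8, 16] : List (Fin 64)).getD i.val 0
    have h5 : (t a).val.testBit 5 = false := by rw [← bit_five, ← t4, ht.B, bit_five, ha5]
    have h2 := hk.conj (F.toMid.WC_of_RC ha5 (F.toFlip.RC_self a))
    rw [hap] at h2
    exact F.toMid.WC_inj (F.toMid.WC_of_RC h5 (ht.2 a)) h2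
  obtain ⟨g0, -, hall⟩ := F.toMid.autom_eq F.hd
  obtain ⟨r, hr, hrt⟩ := hall k t ht
  have hc := List.all_eq_true.1 (pair_table g0) r hr
  have e1 : prV (t 1) = 1 := hfix 0
  have e2 : prV (t 2) = 2 := hfix 1
  have e8 : prV (t 8) = 8 := hfix 2
  have e16 : prV (t 16) = 16 := hfix 3
  rw [← hrt, t4, e1, e2, e8, e16] at hc
  simp only [beq_self_eq_true, Bool.and_self, Bool.not_true, Bool.false_or, beq_iff_eq] at hc
  obtain ⟨c, hc'⟩ := ht.2 16
  rw [hc, F.toFlip.ev_tC] at hc'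
  cases c
  · left; rw [hc']; simp [pw]
  · right; rw [hc']; rfl

/-- an element of the stabiliser moving `e` out of the elementary group -/
theorem exists_move20 : ∃ (x : G) (hxz : x * S.z = S.z * x), x * S.v * x⁻¹ = S.v ∧ S.kb x hxz ∈ F.fH ∧
    F.toMid.WC 20 (x * S.e * x⁻¹) := by
  obtain ⟨-, s, -, -, -, hs⟩ := F.toMid.cases_s
  obtain ⟨τ', t', hd', htt, hττ⟩ := F.toMid.VAct_inv dT_facts.1 F.toMid.d_act
  have ht' : t' = fun a => lf (dV true) (lf (dV true) a) := funext fun a => by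
    have h1 : ∀ b c, lf (dV true) b = lf (dV true) c → b = c := fun b c h => by
      rw [← d_cube true b, ← d_cube true c, h]
    have := htt a
    rw [F.hd] at this
    exact h1 _ _ (this.trans (d_cube true a).symm)
  have hτ1 : dT ∘ id ∘ τ' = id := funext hττ
  have hτ2 : τ' ∘ id ∘ dT = id := funext fun a => dT_facts.1.1 (hττ (dT a))
  have hA := F.toMid.d_act.comp (hs.comp hd')
  rw [hτ1] at hA
  have hB := hd'.comp (hs.comp F.toMid.d_act)
  rw [hτ2] at hB
  set x := (S.d⁻¹ * (s * S.d)) * (S.d * (s * S.d⁻¹)) with hx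
  have hX : F.toMid.VAct x id hImg := by
    convert hB.comp hA using 1
    all_goals first | rfl | (funext a; simp [hImg, F.hd, ht'])
  have hxz : x * S.z = S.z * x := by
    have := hX.1 1; rw [id, Mid.zc_one] at this; exact mul_inv_eq_iff_eq_mul.1 this
  have hxv : x * S.v * x⁻¹ = S.v := by
    have := hX.1 2; rwa [id, Mid.zc_two] at this
  have hX3 : F.toMid.VAct (x * (x * x)) id id := by
    convert hX.comp (hX.comp hX) using 1
    all_goals first | rfl | (funext a; exact (h_facts.2.2.1 a).symm)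
  set q := S.kb x hxz
  have hv4 : S.kb S.v (show S.v * S.z = S.z * S.v from (S.z_ψ _).symm) = F.rb 4 := F.toMid.kb_RC F.toFlip.RC_v _
  have hq4 : q * F.rb 4 * q⁻¹ = F.rb 4 := by
    rw [← hv4, S.kb_inv, S.kb_mul, S.kb_mul, S.kb_eq]
    exact Or.inl hxv
  obtain ⟨c, hc⟩ := hX.conj (F.toMid.WC_of_RC (by decide) (F.toFlip.RC_self 16))
  have h16 : prV 16 = 16 := dT_facts.2.2.2.2.2.2.2.2.1
  rw [h16, h_facts.1] at hc
  obtain ⟨c', hc'⟩ : F.toMid.WC 16 (F.toFlip.rR 16) := by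
    have := F.toMid.WC_of_RC (a := 16) (by decide) (F.toFlip.RC_self 16)
    rwa [h16] at this
  have hdz : ∀ d, S.zc d * S.z = S.z * S.zc d := fun d => by rw [Setup.zc]; exact (S.z_ψ _).symm
  have hq16 : q * F.rb 16 * q⁻¹ = F.rb 16 := by
    have e : x * F.toFlip.rR 16 * x⁻¹ = F.toFlip.rR 16 * S.zc (x4 c' c) := by
      rw [hc, hc', mul_assoc, Mid.zc_mul, ← (x4_facts c' c' c).2.2.2.2, (x4_facts c' c' c).1, (x4_facts c 0 0).2.1]
    have e' : q * F.rb 16 * q⁻¹ = F.rb 16 * S.kb (S.zc (x4 c' c)) (hdz _) := by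
      rw [Mid.rb, S.kb_inv, S.kb_mul, S.kb_mul, S.kb_mul, S.kb_eq]
      exact Or.inl e
    rcases F.kb_zc (hdz _) rfl with h | h
    · rw [e', h, mul_one]
    · exfalso
      rw [h, F.toMid.rb_mul, pr_facts.2.2.2.1] at e'
      have e4 : q * F.rb 20 * q⁻¹ = F.rb 16 := by
        rw [← pr_facts.2.2.2.1, ← F.toMid.rb_mul,
          show q * (F.rb 16 * F.rb 4) * q⁻¹ = q * F.rb 16 * q⁻¹ * (q * F.rb 4 * q⁻¹) by group, e', hq4, F.toMid.rb_mul,
          pr_facts.2.2.2.2]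
      have hcube : S.kb (x * (x * x)) (S.cz_mul hxz (S.cz_mul hxz hxz)) * F.rb 16 *
          (S.kb (x * (x * x)) (S.cz_mul hxz (S.cz_mul hxz hxz)))⁻¹ = F.rb 16 := by
        rw [Mid.rb, S.kb_inv, S.kb_mul, S.kb_mul, S.kb_eq]
        exact F.pair_trivial hX3
      rw [← S.kb_mul hxz (S.cz_mul hxz hxz), ← S.kb_mul hxz hxz] at hcube
      rw [show q * (q * q) * F.rb 16 * (q * (q * q))⁻¹ = q * (q * (q * F.rb 16 * q⁻¹) * q⁻¹) * q⁻¹ by group,
        e', e4, e'] at hcube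
      exact absurd (F.toMid.rb_inj hcube) (by decide)
  have hqH : q ∈ F.fH := mem_centralizer_singleton_iff.2 (mul_inv_eq_iff_eq_mul.1 hq16)
  refine ⟨x, hxz, hxv, hqH, ?_⟩
  have h20 := hX.conj F.toMid.WC_e
  rwa [h_facts.2.1] at h20

/-- THE STABILISER does not normalise the elementary group. -/
theorem norm_ne_top : normalizer (Cf.E6.map F.psiH : Set ↥F.fH) ≠ ⊤ := by
  intro htop
  obtain ⟨x, hxz, hxv, hqH, h20⟩ := F.exists_move20
  set q := S.kb x hxz
  obtain ⟨t, ht⟩ := F.act_of_norm (g := ⟨q, hqH⟩) (htop ▸ Subgroup.mem_top _)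
  have h8 := ht.conj F 8
  have he : F.toFlip.RC (t 8) (x * S.e * x⁻¹) := by
    refine F.toMid.RC_of_kb (S.cz_mul (S.cz_mul hxz S.e_z) (S.cz_inv hxz)) ?_
    rw [← h8, ← F.toMid.kb_RC F.toFlip.RC_e S.e_z, S.kb_inv, S.kb_mul, S.kb_mul]
  rcases Bool.eq_false_or_eq_true ((t 8).val.testBit 5) with hb | hb
  · obtain ⟨d, hd⟩ := F.toFlip.RC_v
    have h1 := F.toFlip.RC_comm he F.toFlip.RC_v
    rw [bit_five, hb, F.toFlip.ev_tC] at h1
    have hev : S.e * S.v = S.v * S.e := S.e_ψ _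
    have hcomm : x * S.e * x⁻¹ * S.v = S.v * (x * S.e * x⁻¹) := by
      conv_lhs => rw [← hxv]
      conv_rhs => rw [← hxv]
      calc x * S.e * x⁻¹ * (x * S.v * x⁻¹) = x * (S.e * S.v) * x⁻¹ := by group
        _ = _ := by rw [hev]; group
    rw [hcomm] at h1
    exact S.z_ne (mul_eq_right.1 h1.symm)
  · exact pr_facts.1 _ (F.toMid.WC_inj (F.toMid.WC_of_RC hb he) h20)

end Co

end Cfsg.Lib.CoThreeM
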