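/-
The stabiliser of `f` has no odd normal subgroup.
-/
import Cfsg.Agent.CoThreeM.Stab
import Cfsg.Agent.CoThreeM.End.Quot
import Cfsg.Agent.InvolCalc.ZStarApps

set_option autoImplicit false
set_option linter.unusedSectionVars false
set_option linter.style.haveILetI false
set_option maxRecDepth 10000

namespace Cfsg.Lib.CoThreeM

open Subgroup Cfsg.Lib.M12Cent

universe u

theorem inK_two : ∀ m : M, inK m = true → (m * m) * (m * m) * ((m * m) * (m * m)) = 1 := by decide +kernel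

theorem word_code : ∀ c : Fin 64, lf (dV true) c = 8 → c = 8 := by decide +kernel

theorem b_code : lf (dV true) 8 = 8 ∧ lf (dV true) (lf (dV true) (lf (sV true) (lf (dV true) 8))) = 12 ∧
    cT 8 = 12 ∧ x6 8 12 = 4 ∧ x6 20 16 = 4 ∧ x6 8 4 = 12 := by decide +kernel

variable {G : Type u} [Group G] [Finite G] {S : Setup G}

namespace Co

variable (F : Co S)

theorem rW_units : F.toMid.rW 12 = S.e * S.ψ piM ∧ F.toMid.rW 20 = S.ψ piM * F.toFlip.rR 16 := by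
  constructor
  · have h : wC 12 = (true, piM, false, false) := by decide +kernel
    simp [Mid.rW, Mid.ev4, h, Setup.E, Twist.W, Mid.H]
  · have h : wC 20 = (false, piM, true, false) := by decide +kernel
    simp [Mid.rW, Mid.ev4, h, Flip.rR, rC_zero.2.2.2, Twist.ev, Setup.E, Twist.W, Mid.H]

/-- THE STABILISER has no odd normal subgroup. -/
theorem oddCore_fH : Cfsg.oddCore ↥F.fH = ⊥ := by
  let R : End.KQuot S S.Kb := ⟨S.pK, S.pK_surj, S.pK_ker⟩
  have him : ∀ g (h : g * S.z = S.z * g), R.im g = S.kb g h := fun g h => R.im_mk (End.mem_K.2 h)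
  set H := F.fH
  set O := (Cfsg.oddCore ↥H).map H.subtype with hO
  have hN : (Cfsg.oddCore ↥H).Normal := Cfsg.Lib.Components.pPrimeCore_normal' 2
  have hodd : Odd (Nat.card O) := by
    rw [hO, card_map_of_injective (subtype_injective _)]
    exact Cfsg.Lib.ZStarApps.odd_card_pPrimeCore
  have hnrm : ∀ γ ∈ H, ∀ o ∈ O, γ * o * γ⁻¹ ∈ O := by
    rintro γ hγ _ ⟨a, ha, rfl⟩
    exact ⟨⟨γ, hγ⟩ * a * ⟨γ, hγ⟩⁻¹, hN.conj_mem a ha _, rfl⟩
  have hmem : ∀ γ ∈ H, γ ∈ normalizer (O : Set S.Kb) := fun γ hγ => mem_normalizer_iff.2 fun o =>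
    ⟨hnrm γ hγ o, fun h => by
      have := hnrm γ⁻¹ (inv_mem hγ) _ h
      rwa [show γ⁻¹ * (γ * o * γ⁻¹) * γ⁻¹⁻¹ = o by group] at this⟩
  have hψH : ∀ m, R.im (S.ψ m) ∈ H := fun m => by
    rw [him _ (S.z_ψ m).symm]
    refine mem_centralizer_singleton_iff.2 ?_
    have hR : F.toFlip.rR 16 = F.w := by simp [Flip.rR, rC_zero.2.2.2, Twist.ev, Twist.W, Setup.E]
    rw [Mid.rb, S.kb_mul, S.kb_mul, S.kb_eq]
    have h := F.toFlip.wψ m
    rw [F.toFlip.σ_eq, tw] at h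
    rw [hR]
    cases hb : (F.δ && chi m)
    · left
      rw [hb] at h
      simp only [pw, cond_false, mul_one] at h
      exact (mul_inv_eq_iff_eq_mul.1 h).symm
    · right
      rw [hb] at h
      simp only [pw, cond_true, map_mul] at h
      have h' : F.w * S.ψ m = S.ψ m * S.z * F.w := mul_inv_eq_iff_eq_mul.1 h
      rw [h', mul_assoc (S.ψ m * S.z), F.wz, ← mul_assoc, mul_assoc (S.ψ m) S.z S.z, S.zz, mul_one]
  have heH : R.im S.e ∈ H := by
    rw [him _ S.e_z, F.toMid.kb_RC F.toFlip.RC_e S.e_z]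
    exact F.cent_of_fix (BAct.rb F 8) rfl
  have hinv : ∀ γ ∈ H, ∀ o ∈ O, (γ * F.rb 8 * γ⁻¹) * o * (γ * F.rb 8 * γ⁻¹)⁻¹ = o⁻¹ := fun γ hγ o ho => by
    have h1 := R.e_inverts hodd (fun m => hmem _ (hψH m)) (hmem _ heH) (hnrm γ⁻¹ (inv_mem hγ) o ho)
    rw [him _ S.e_z, F.toMid.kb_RC F.toFlip.RC_e S.e_z] at h1
    calc (γ * F.rb 8 * γ⁻¹) * o * (γ * F.rb 8 * γ⁻¹)⁻¹
        = γ * (F.rb 8 * (γ⁻¹ * o * γ⁻¹⁻¹) * (F.rb 8)⁻¹) * γ⁻¹ := by group
      _ = o⁻¹ := by rw [h1]; group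
  have he : ∀ o ∈ O, F.rb 8 * o * (F.rb 8)⁻¹ = o⁻¹ := fun o ho => by
    simpa using hinv 1 (one_mem _) o ho
  have h4 : ∀ o ∈ O, F.rb 4 * o * (F.rb 4)⁻¹ = o := fun o ho => by
    have h12 : F.xc * F.rb 8 * F.xc⁻¹ = F.rb 12 := by rw [F.act_xc.conj F 8, b_code.2.2.1]
    have hxH : F.xc ∈ H := F.cent_of_fix F.act_xc (by decide +kernel)
    have e := hinv _ hxH o ho
    rw [h12] at e
    rw [← b_code.2.2.2.1, ← F.toMid.rb_mul]
    calc F.rb 8 * F.rb 12 * o * (F.rb 8 * F.rb 12)⁻¹ = F.rb 8 * (F.rb 12 * o * (F.rb 12)⁻¹) * (F.rb 8)⁻¹ := by group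
      _ = (F.rb 8 * o * (F.rb 8)⁻¹)⁻¹ := by rw [e]; group
      _ = o := by rw [he o ho, inv_inv]
  have h16 : ∀ o ∈ O, F.rb 16 * o * (F.rb 16)⁻¹ = o := fun o ho => by
    obtain ⟨a, -, rfl⟩ := ho
    exact mul_inv_eq_iff_eq_mul.2 (mem_centralizer_singleton_iff.1 a.2).symm
  -- `π` inverts
  have hπ : ∀ o ∈ O, F.pb * o * F.pb⁻¹ = o⁻¹ := fun o ho => by
    obtain ⟨x, hxz, -, hxH, hw⟩ := F.exists_move20
    obtain ⟨s, hs⟩ := hw
    rw [F.rW_units.2] at hs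
    have hdz : S.zc s * S.z = S.z * S.zc s := by rw [Setup.zc]; exact (S.z_ψ _).symm
    have hq : S.kb x hxz * F.rb 8 * (S.kb x hxz)⁻¹ = F.pb * F.rb 16 * S.kb (S.zc s) hdz := by
      rw [← F.toMid.kb_RC F.toFlip.RC_e S.e_z, pb, Mid.rb, S.kb_inv, S.kb_mul, S.kb_mul, S.kb_mul, S.kb_mul, S.kb_eq]
      exact Or.inl hs
    have e := hinv _ hxH o ho
    rw [hq] at e
    have hc : F.rb 16 * S.kb (S.zc s) hdz * o * (F.rb 16 * S.kb (S.zc s) hdz)⁻¹ = o := by
      have hzc : S.kb (S.zc s) hdz * o * (S.kb (S.zc s) hdz)⁻¹ = o := by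
        rcases F.kb_zc hdz rfl with h | h
        · rw [h]; group
        · rw [h]; exact h4 o ho
      calc _ = F.rb 16 * (S.kb (S.zc s) hdz * o * (S.kb (S.zc s) hdz)⁻¹) * (F.rb 16)⁻¹ := by group
        _ = o := by rw [hzc, h16 o ho]
    calc F.pb * o * F.pb⁻¹
        = F.pb * (F.rb 16 * S.kb (S.zc s) hdz * o * (F.rb 16 * S.kb (S.zc s) hdz)⁻¹) * F.pb⁻¹ := by rw [hc]
      _ = o⁻¹ := by rw [← e]; group
  -- a conjugate of `e` centralises
  obtain ⟨-, s, hsz, hsv, -, hs⟩ := F.toMid.cases_s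
  obtain ⟨τ', t', hd', htt, hττ⟩ := F.toMid.VAct_inv dT_facts.1 F.toMid.d_act
  have hτ2 : τ' ∘ id ∘ dT = id := funext fun a => dT_facts.1.1 (hττ (dT a))
  have hB := hd'.comp (hs.comp F.toMid.d_act)
  rw [hτ2] at hB
  set B := S.d⁻¹ * (s * S.d)
  have hBz : B * S.z = S.z * B := by
    have := hB.1 1; rw [id, Mid.zc_one] at this; exact mul_inv_eq_iff_eq_mul.1 this
  have hBv : B * S.v = S.v * B := by
    have := hB.1 2; rw [id, Mid.zc_two] at this; exact mul_inv_eq_iff_eq_mul.1 this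
  have h12 := hB.conj F.toMid.WC_e
  have ht' : ∀ a, t' a = lf (dV true) (lf (dV true) a) := fun a => by
    have h1 : ∀ b c, lf (dV true) b = lf (dV true) c → b = c := fun b c h => by
      rw [← d_cube true b, ← d_cube true c, h]
    have := htt a
    rw [F.hd] at this
    exact h1 _ _ (this.trans (d_cube true a).symm)
  simp only [Function.comp_apply, F.hd, ht', b_code.2.1] at h12
  obtain ⟨s2, hs2⟩ := h12
  rw [F.rW_units.1] at hs2
  rw [← map_eq_bot_iff_of_injective _ (subtype_injective H)]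
  refine eq_bot_iff.2 fun o ho => mem_bot.2 ?_
  obtain ⟨x, hx, hxo, hxd⟩ := R.exists_odd_lift hodd
    (show o ^ Nat.card O = 1 from congrArg Subtype.val (pow_card_eq_one' (x := (⟨o, ho⟩ : O))))
  have hxz : x * S.z = S.z * x := End.mem_K.1 hx
  have hcomm : ∀ g (hg : g * S.z = S.z * g), S.kb g hg * o * (S.kb g hg)⁻¹ = o → g * x = x * g := fun g hg h => by
    have hgK : g ∈ S.K := End.mem_K.2 hg
    refine mul_inv_eq_iff_eq_mul.1 (R.im_injOn_odd (mul_mem (mul_mem hgK hx) (inv_mem hgK)) hx hodd ?_ hxd ?_)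
    · rw [conj_pow, hxd]; group
    · rw [R.im_mul (mul_mem hgK hx) (inv_mem hgK), R.im_mul hgK hx, R.im_inv hgK, hxo, him g hg, h]
  have hcB : (B * S.e * B⁻¹) * x = x * (B * S.e * B⁻¹) := by
    refine hcomm _ (S.cz_mul (S.cz_mul hBz S.e_z) (S.cz_inv hBz)) ?_
    have hdz : S.zc s2 * S.z = S.z * S.zc s2 := by rw [Setup.zc]; exact (S.z_ψ _).symm
    have e : S.kb (B * S.e * B⁻¹) (S.cz_mul (S.cz_mul hBz S.e_z) (S.cz_inv hBz)) =
        F.rb 8 * F.pb * S.kb (S.zc s2) hdz := by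
      rw [← F.toMid.kb_RC F.toFlip.RC_e S.e_z, pb, S.kb_mul, S.kb_mul, S.kb_eq]
      exact Or.inl hs2
    have hzc : S.kb (S.zc s2) hdz * o * (S.kb (S.zc s2) hdz)⁻¹ = o := by
      rcases F.kb_zc hdz rfl with h | h
      · rw [h]; group
      · rw [h]; exact h4 o ho
    rw [e]
    calc _ = F.rb 8 * (F.pb * (S.kb (S.zc s2) hdz * o * (S.kb (S.zc s2) hdz)⁻¹) * F.pb⁻¹) * (F.rb 8)⁻¹ := by group
      _ = (F.rb 8 * o * (F.rb 8)⁻¹)⁻¹ := by rw [hzc, hπ o ho]; group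
      _ = o := by rw [he o ho, inv_inv]
  have hv : S.v * x = x * S.v := by
    have hvz : S.v * S.z = S.z * S.v := (S.z_ψ _).symm
    refine hcomm _ hvz ?_
    rw [F.toMid.kb_RC F.toFlip.RC_v hvz]
    exact h4 o ho
  set a := B⁻¹ * x * B with ha
  have hae : a * S.e = S.e * a := by
    calc a * S.e = B⁻¹ * (x * (B * S.e * B⁻¹)) * B := by rw [ha]; group
      _ = B⁻¹ * ((B * S.e * B⁻¹) * x) * B := by rw [hcB]
      _ = S.e * a := by rw [ha]; group
  have hcj : ∀ y : G, B * y = y * B → y * x = x * y → a * y = y * a := fun y h1 h2 =>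
    (Commute.mul_left (Commute.mul_left (Commute.inv_left h1) h2.symm) h1)
  have haz : a * S.z = S.z * a := hcj S.z hBz hxz.symm
  have hav : a * S.v = S.v * a := hcj S.v hBv hv
  obtain ⟨m, hm⟩ := S.cent_ez hae haz
  obtain ⟨i, hm⟩ : ∃ i, a = S.E i * S.ψ m := by
    rcases hm with h | h
    · exact ⟨false, by simp [Setup.E, h]⟩
    · exact ⟨true, h⟩
  have hK : inK m = true := by
    refine (inK_iff m).2 ?_
    rw [hm] at hav
    have h1 : S.E i * S.ψ (m * a6) = S.E i * S.ψ (a6 * m) := by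
      rw [map_mul, map_mul, ← mul_assoc, ← mul_assoc, show S.ψ a6 = S.v from rfl, hav, ← mul_assoc]
      congr 1
      exact (S.E_ψ i a6).symm
    exact (S.Eψ_inj h1).2
  have had : a ^ Nat.card O = 1 := by
    have h := conj_pow (a := B⁻¹) (b := x) (i := Nat.card O)
    rw [inv_inv] at h
    rw [ha, h, hxd]; group
  have h8 : m ^ 8 = 1 := by rw [← inK_two m hK]; simp [pow_succ, mul_assoc]
  have ha8 : a ^ 8 = 1 := by
    rw [hm, (show Commute (S.E i) (S.ψ m) from S.E_ψ i m).mul_pow, ← map_pow, h8, map_one, mul_one,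
      show (8 : ℕ) = 2 * 4 from rfl, pow_mul, pow_two, S.E_mul, Bool.xor_self]
    simp [Setup.E]
  have ha1 : a = 1 := by
    have h1 := Nat.dvd_gcd (orderOf_dvd_of_pow_eq_one had) (orderOf_dvd_of_pow_eq_one ha8)
    rw [(show Nat.Coprime (Nat.card O) 8 from Nat.Coprime.pow_right 3 hodd.coprime_two_right).gcd_eq_one,
      Nat.dvd_one] at h1
    exact orderOf_eq_one_iff.1 h1
  have hx1 : x = 1 := by
    rw [ha] at ha1
    calc x = B * (B⁻¹ * x * B) * B⁻¹ := by group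
      _ = 1 := by rw [ha1]; group
  rw [← hxo, hx1, R.im_one]

end Co

end Cfsg.Lib.CoThreeM
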