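/-
Tables separating the strongly closed subgroup.
-/
import Cfsg.Agent.CoThreeM.TeeModel

set_option autoImplicit false
set_option maxRecDepth 100000

namespace Cfsg.Lib.CoThreeM

open Cfsg.Lib.M12Cent

/-- the codes mapped to the fixed points of the four group -/
def inS (r : Fin 64) : Bool := ([0, 2, 4, 6, 24, 26, 28, 30] : List ℕ).contains r.val

/-- zero or conjugate to `v` in a table -/
def zTy (g : ℕ) (b : Fin 64) : Bool := b == 0 || (grpOf true g).any fun r => mapOf r.2.2 b == 4
/-- conjugate to `e` in a table -/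
def eTy (g : ℕ) (b : Fin 64) : Bool := (grpOf true g).any fun r => mapOf r.2.2 8 == b

/-- the split of the radical -/
def radSplit (g : ℕ) : Bool :=
  (List.range 64).all fun x =>
    let a : Fin 64 := ⟨x % 64, Nat.mod_lt _ (by norm_num)⟩
    let b := x6 a 16
    bif inFL a then (q6 a && !q6 b && zTy g b) || (q6 b && !q6 a && zTy g a)
    else (!(q6 a && !q6 b) || eTy g b) && (!(q6 b && !q6 a) || eTy g a)

theorem rad_split0 : radSplit 0 = true := by decide +kernel
theorem rad_split1 : radSplit 1 = true := by decide +kernel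

/-- the code of an element over `π` -/
def piC (r : Fin 64) : Bool × M × Bool := mulD true (false, piM, false) (rC r)
/-- its square -/
def piSq (r : Fin 64) : Bool × M × Bool := mulD true (piC r) (piC r)

theorem piM_class : ∀ s : Fin 4, ∃ g : M, g * piM * g⁻¹ = piM * zM s := by decide +kernel

/-- a conjugate of `π`, times a power of `e` -/
def overPi (i : Bool) (r : Fin 64) : Prop :=
  (piC r).1 = i ∧ (piC r).2.2 = false ∧ ∃ g : M, g * piM * g⁻¹ = (piC r).2.1

instance (i : Bool) (r : Fin 64) : Decidable (overPi i r) := by unfold overPi; infer_instance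

/-- square `z` and partner an involution -/
def piPair (r r' : Fin 64) : Prop := piSq r = tC true ∧ piSq r' = tC false

instance (r r' : Fin 64) : Decidable (piPair r r') := by unfold piPair; infer_instance

theorem pi_pos : ∀ r : Fin 64, inS r = true → ∀ gf : Fin 64, (gf = 26 ∨ gf = 30) →
    (piPair r (x6 r gf) ∧ overPi false (x6 r gf)) ∨ (piPair (x6 r gf) r ∧ overPi false r) := by decide +kernel

theorem pi_neg : ∀ r : Fin 64, inS r = false → ∀ gf : Fin 64, (gf = 26 ∨ gf = 30) →
    ¬ piPair r (x6 r gf) ∧ ¬ piPair (x6 r gf) r := by decide +kernel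

theorem pi_refl : ∀ r : Fin 64, (piPair r (x6 r 16) → overPi true (x6 r 16)) ∧
    (piPair (x6 r 16) r → overPi true r) := by decide +kernel

theorem row_fix : ∀ g : Fin 2, ∀ a : Fin 64,
    inS (mapOf ((grpOf true g.val).getD (rowOf g).2.2.2 (0, 0, 0)).2.2 a) = inFL a := by decide +kernel

theorem inS_sub : inS 0 = true ∧ ∀ a b : Fin 64, inS a = true → inS (x6 a b) = inS b := by decide +kernel

theorem v5_split : ∀ a : Fin 64, ∀ k : Fin 24, k.val < 8 →
    ((∀ i : Fin 12, (AltTwelveType.aFun a (AltTwelveType.kFun k i)).val / 2 = i.val / 2) ↔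
      (k.val < 4 ∧ inFL (iot a) = true)) := by decide +kernel

theorem code_facts : dCode 1 = (true, true, false) ∧ dCode 2 = (true, false, false) ∧ dCode 3 = (false, true, false) ∧
    dCode 4 = (false, false, true) ∧ dCode 5 = (true, true, true) ∧
    (∀ k : Fin 8, k.val < 4 ∨ k = 4 ∨ k = 5 ∨ ¬ units (tD k ∘ tD k) = units id) ∧
    units (rhoConj ∘ tD 5) = units (lf piL ∘ rhoConj) ∧ units (id ∘ tD 4) = units (lf piL ∘ id) ∧
    lf (sL true false) = rhoConj := by
  refine ⟨by decide +kernel, by decide +kernel, by decide +kernel, by decide +kernel, by decide +kernel,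
    by decide +kernel, by decide +kernel, by decide +kernel, ?_⟩
  exact rfl

theorem fl_y : ∀ a : Fin 64, inFL (lf yL a) = inFL a ∧ (∀ k : Fin 8, k.val < 4 → inFL (tD k a) = inFL a) := by
  decide +kernel

end Cfsg.Lib.CoThreeM
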