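/-
The image of the flips is strongly closed in the stabiliser of `f`.
-/
import Cfsg.Agent.CoThreeM.Stab
import Cfsg.Agent.CoThreeM.StrongModel

set_option autoImplicit false
set_option linter.unusedSectionVars false
set_option linter.style.haveILetI false
set_option maxRecDepth 10000

namespace Cfsg.Lib.CoThreeM

open Subgroup Cfsg.Lib.M12Cent

universe u

variable {G : Type u} [Group G] [Finite G] {S : Setup G}

namespace Setup

variable (S : Setup G)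

/-- neither the element nor its translate by `z` is conjugate to `e` -/
def NE (x : G) : Prop := ∀ g : G, g * S.e * g⁻¹ ≠ x ∧ g * S.e * g⁻¹ ≠ x * S.z

theorem NE_conj {x g : G} (hg : g * S.z = S.z * g) (h : S.NE x) : S.NE (g * x * g⁻¹) := fun k => by
  refine ⟨fun e => (h (g⁻¹ * k)).1 ?_, fun e => (h (g⁻¹ * k)).2 ?_⟩
  · calc g⁻¹ * k * S.e * (g⁻¹ * k)⁻¹ = g⁻¹ * (k * S.e * k⁻¹) * g := by group
      _ = x := by rw [e]; group
  · calc g⁻¹ * k * S.e * (g⁻¹ * k)⁻¹ = g⁻¹ * (k * S.e * k⁻¹) * g := by group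
      _ = g⁻¹ * (g * x * g⁻¹) * (S.z * g) := by rw [e]; simp only [mul_assoc]
      _ = x * S.z := by rw [← hg]; group

theorem NE_z {x : G} (h : S.NE x) : S.NE (x * S.z) := fun k =>
  ⟨(h k).2, fun e => (h k).1 (e.trans (by rw [mul_assoc, S.zz, mul_one]))⟩

theorem NE_one : S.NE 1 := fun g => by
  refine ⟨fun e => S.e_ne ?_, by rw [one_mul]; exact S.not_conj_z g⟩
  rw [mul_inv_eq_one] at e
  exact mul_eq_left.1 e

end Setup

namespace Co

variable (F : Co S)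

/-- one lift squares to `z`, its translate is an involution fused to no conjugate of `e` -/
def Pair (y x : G) : Prop := y * y = S.z ∧ x * x = 1 ∧ S.NE x

theorem Pair.tz {y x : G} (h : Pair (S := S) y x) (hy : y * S.z = S.z * y) (hx : x * S.z = S.z * x) :
    Pair (S := S) (y * S.z) x ∧ Pair (S := S) y (x * S.z) ∧ Pair (S := S) (y * S.z) (x * S.z) := by
  have e : ∀ k : G, k * S.z = S.z * k → k * S.z * (k * S.z) = k * k := fun k hk =>
    calc k * S.z * (k * S.z) = k * (S.z * k) * S.z := by group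
      _ = k * k * (S.z * S.z) := by rw [← hk]; group
      _ = k * k := by rw [S.zz, mul_one]
  exact ⟨⟨(e y hy).trans h.1, h.2⟩, ⟨h.1, (e x hx).trans h.2.1, S.NE_z h.2.2⟩,
    ⟨(e y hy).trans h.1, (e x hx).trans h.2.1, S.NE_z h.2.2⟩⟩

theorem Pair.conj {y x g : G} (hg : g * S.z = S.z * g) (h : Pair (S := S) y x) :
    Pair (S := S) (g * y * g⁻¹) (g * x * g⁻¹) := by
  have e : ∀ k, g * k * g⁻¹ * (g * k * g⁻¹) = g * (k * k) * g⁻¹ := fun k => by group
  refine ⟨?_, ?_, S.NE_conj hg h.2.2⟩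
  · rw [e, h.1, hg, mul_inv_cancel_right]
  · rw [e, h.2.1, mul_one, mul_inv_cancel]

/-- THE CLASS INVARIANT relative to a code. -/
def Pz (b : Fin 64) (q : S.Kb) : Prop := ∃ k, ∃ hk : k * S.z = S.z * k, q = S.kb k hk ∧
  (Pair (S := S) k (k * F.toFlip.rR b) ∨ Pair (S := S) (k * F.toFlip.rR b) k)

theorem Pz.any {b : Fin 64} {q : S.Kb} (h : F.Pz b q) {k x : G} (hk : k * S.z = S.z * k) (hq : q = S.kb k hk)
    (hx : F.toFlip.RC b x) : Pair (S := S) k (k * x) ∨ Pair (S := S) (k * x) k := by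
  obtain ⟨k', hk', hq', hP⟩ := h
  have hz' := F.toFlip.rR_z b
  have hkb := S.cz_mul hk' hz'
  have hxx : x = F.toFlip.rR b ∨ x = F.toFlip.rR b * S.z := by
    obtain ⟨c, rfl⟩ := hx
    rw [F.toFlip.ev_tC]
    cases c
    · exact Or.inl (by simp [pw])
    · exact Or.inr rfl
  rcases (S.kb_eq hk hk').1 (hq ▸ hq') with rfl | rfl <;> rcases hxx with rfl | rfl
  · exact hP
  · rw [← mul_assoc]
    exact hP.imp (fun h => (h.tz hk hkb).2.1) fun h => (h.tz hkb hk).1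
  · have e : k' * S.z * F.toFlip.rR b = k' * F.toFlip.rR b * S.z := by rw [mul_assoc, ← hz', ← mul_assoc]
    rw [e]
    exact hP.imp (fun h => (h.tz hk' hkb).2.2) fun h => (h.tz hkb hk').2.2
  · have e : k' * S.z * (F.toFlip.rR b * S.z) = k' * F.toFlip.rR b := by
      rw [mul_assoc, ← mul_assoc S.z, ← hz', mul_assoc, S.zz, mul_one]
    rw [e]
    exact hP.imp (fun h => (h.tz hk' hkb).1) fun h => (h.tz hkb hk').2.1

theorem Pz.conj {b b' : Fin 64} {q γ : S.Kb} (h : F.Pz b q) (hb : γ * F.rb b * γ⁻¹ = F.rb b') :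
    F.Pz b' (γ * q * γ⁻¹) := by
  obtain ⟨g, hg, rfl⟩ := S.kb_surj γ
  obtain ⟨k, hk, hq, -⟩ := id h
  have hr : F.toFlip.RC b' (g * F.toFlip.rR b * g⁻¹) := by
    refine F.toMid.RC_of_kb (S.cz_mul (S.cz_mul hg (F.toFlip.rR_z b)) (S.cz_inv hg)) ?_
    rw [← hb, Mid.rb, S.kb_inv, S.kb_mul, S.kb_mul]
  obtain ⟨c, hc⟩ := hr
  have hrev : F.toFlip.RC b (g⁻¹ * F.toFlip.rR b' * g) := by
    refine ⟨c, ?_⟩
    have hc2 : F.toFlip.ev (tC c) * F.toFlip.ev (tC c) = 1 := by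
      rw [F.toFlip.tC_mul, Bool.xor_self, F.toFlip.ev_tC]; simp [pw]
    have : F.toFlip.rR b' = g * F.toFlip.rR b * g⁻¹ * F.toFlip.ev (tC c) := by rw [hc, mul_assoc, hc2, mul_one]
    calc g⁻¹ * F.toFlip.rR b' * g = F.toFlip.rR b * (g⁻¹ * (F.toFlip.ev (tC c) * g)) := by rw [this]; group
      _ = _ := by rw [← F.toFlip.tC_central c g hg, inv_mul_cancel_left]
  have hP := Pz.any F h hk hq hrev
  refine ⟨g * k * g⁻¹, S.cz_mul (S.cz_mul hg hk) (S.cz_inv hg), ?_, ?_⟩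
  · rw [hq, S.kb_inv, S.kb_mul, S.kb_mul]
  · have e : g * k * g⁻¹ * F.toFlip.rR b' = g * (k * (g⁻¹ * F.toFlip.rR b' * g)) * g⁻¹ := by group
    rw [e]
    exact hP.imp (Pair.conj hg) (Pair.conj hg)

theorem Pz.conj_iff {b b' : Fin 64} {q γ : S.Kb} (hb : γ * F.rb b * γ⁻¹ = F.rb b') :
    F.Pz b' (γ * q * γ⁻¹) ↔ F.Pz b q := by
  refine ⟨fun h => ?_, fun h => Pz.conj F h hb⟩
  have := Pz.conj F h (γ := γ⁻¹) (b' := b) (by rw [← hb]; group)
  rwa [show γ⁻¹ * (γ * q * γ⁻¹) * γ⁻¹⁻¹ = q by group] at this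

theorem Pz.sq {b : Fin 64} {q : S.Kb} (h : F.Pz b q) : q * q = 1 := by
  obtain ⟨k, hk, rfl, hP⟩ := h
  rw [S.kb_mul]
  refine (S.pK_ker _).2 ?_
  rcases hP with h | h
  · exact Or.inr h.1
  · exact Or.inl h.2.1

theorem NE_zTy {g : Fin 2} (hg : ∀ i, i < (grpOf true g.val).length →
      ∃ k, F.toFlip.Act k (mapOf ((grpOf true g.val).getD i (0, 0, 0)).2.2))
    {b : Fin 64} {x : G} (hx : F.toFlip.RC b x) (hb : zTy g.val b = true) : S.NE x := by
  simp only [zTy, Bool.or_eq_true, beq_iff_eq, List.any_eq_true] at hb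
  rcases hb with rfl | ⟨r, hr, hm⟩
  · obtain ⟨c, rfl⟩ := hx
    have h0 : F.toFlip.rR 0 = 1 := by
      rw [Flip.rR, rC_zero.1, F.toFlip.ev_tC]; simp [pw]
    rw [h0, one_mul, F.toFlip.ev_tC]
    cases c
    · simpa [pw] using S.NE_one
    · have := S.NE_z S.NE_one
      rw [one_mul] at this
      exact this
  · obtain ⟨i, hi, rfl⟩ := List.getElem_of_mem hr
    obtain ⟨k, hk⟩ := hg i hi
    rw [List.getD_eq_getElem _ _ hi] at hk
    have h4 := hk.conj hx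
    rw [hm] at h4
    obtain ⟨c, hc⟩ := h4
    have hR4 : F.toFlip.rR 4 = S.v := by
      simp [Flip.rR, rC_zero.2.2.1, Twist.ev, Twist.W, Setup.E]; rfl
    rw [hR4, F.toFlip.ev_tC] at hc
    have hv : S.NE S.v := fun g => Mid.not_conj_v (S := S) g
    have hne : S.NE (k * x * k⁻¹) := by
      rw [hc]
      cases c
      · simpa [pw] using hv
      · exact S.NE_z hv
    have := S.NE_conj (S.cz_inv hk.1) hne
    rwa [show k⁻¹ * (k * x * k⁻¹) * k⁻¹⁻¹ = x by group] at this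

theorem not_NE_eTy {g : Fin 2} (hg : ∀ i, i < (grpOf true g.val).length →
      ∃ k, F.toFlip.Act k (mapOf ((grpOf true g.val).getD i (0, 0, 0)).2.2))
    {b : Fin 64} {x : G} (hx : F.toFlip.RC b x) (hb : eTy g.val b = true) : ¬ S.NE x := by
  simp only [eTy, beq_iff_eq, List.any_eq_true] at hb
  obtain ⟨r, hr, rfl⟩ := hb
  obtain ⟨i, hi, rfl⟩ := List.getElem_of_mem hr
  obtain ⟨k, hk⟩ := hg i hi
  rw [List.getD_eq_getElem _ _ hi] at hk
  obtain ⟨c, hc⟩ := hk.conj F.toFlip.RC_e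
  obtain ⟨d, rfl⟩ := hx
  intro h
  have hcd : ∀ a : G, a * F.toFlip.ev (tC c) = a * F.toFlip.ev (tC d) ∨
      a * F.toFlip.ev (tC c) = a * F.toFlip.ev (tC d) * S.z := fun a => by
    rw [F.toFlip.ev_tC, F.toFlip.ev_tC]
    cases c <;> cases d
    · exact Or.inl rfl
    · right
      show a * S.ψ 1 = a * S.z * S.z
      rw [map_one, mul_one, mul_assoc, S.zz, mul_one]
    · right
      show a * S.z = a * S.ψ 1 * S.z
      rw [map_one, mul_one]
    · exact Or.inl rfl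
  rcases hcd (F.toFlip.rR _) with e | e
  · exact (h k).1 (hc.trans e)
  · exact (h k).2 (hc.trans e)

theorem q_true {b : Fin 64} {x : G} (hx : F.toFlip.RC b x) : q6 b = true ↔ x * x = S.z := by
  rw [F.toFlip.RC_sq hx, F.toFlip.ev_tC]
  cases q6 b
  · simp [pw, Ne.symm S.z_ne]
  · exact iff_of_true rfl rfl

theorem q_false {b : Fin 64} {x : G} (hx : F.toFlip.RC b x) : q6 b = false ↔ x * x = 1 := by
  rw [F.toFlip.RC_sq hx, F.toFlip.ev_tC]
  cases q6 b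
  · simp [pw]
  · exact iff_of_false (by simp) S.z_ne

/-- THE RADICAL part. -/
theorem Pz_rad (a : Fin 64) : F.Pz 16 (F.rb a) ↔ inFL a = true := by
  obtain ⟨g, hg, -⟩ := F.toMid.autom_eq F.hd
  have hchk : radSplit g.val = true := by
    fin_cases g
    exacts [rad_split0, rad_split1]
  have hc := List.all_eq_true.1 hchk a.val (List.mem_range.2 a.isLt)
  simp only [show (⟨a.val % 64, Nat.mod_lt _ (by norm_num)⟩ : Fin 64) = a from
    Fin.ext (Nat.mod_eq_of_lt a.isLt)] at hc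
  have hk : F.toFlip.RC a (F.toFlip.rR a) := F.toFlip.RC_self a
  have hkf : F.toFlip.RC (x6 a 16) (F.toFlip.rR a * F.toFlip.rR 16) := F.toFlip.RC_mul hk (F.toFlip.RC_self 16)
  constructor
  · intro h
    by_contra hne
    rw [Bool.not_eq_true] at hne
    rw [hne, cond_false] at hc
    simp only [Bool.and_eq_true, Bool.or_eq_true, Bool.not_eq_true'] at hc
    rcases Pz.any F h (F.toFlip.rR_z a) rfl (F.toFlip.RC_self 16) with ⟨h1, h2, h3⟩ | ⟨h1, h2, h3⟩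
    · refine not_NE_eTy F hg hkf (hc.1.resolve_left ?_) h3
      rw [(F.q_true hk).2 h1, (F.q_false hkf).2 h2]; decide
    · refine not_NE_eTy F hg hk (hc.2.resolve_left ?_) h3
      rw [(F.q_true hkf).2 h1, (F.q_false hk).2 h2]; decide
  · intro hin
    rw [hin, cond_true] at hc
    simp only [Bool.and_eq_true, Bool.or_eq_true, Bool.not_eq_true'] at hc
    refine ⟨_, F.toFlip.rR_z a, rfl, ?_⟩
    rcases hc with ⟨⟨h1, h2⟩, h3⟩ | ⟨⟨h1, h2⟩, h3⟩
    · exact Or.inl ⟨(F.q_true hk).1 h1, (F.q_false hkf).1 h2, F.NE_zTy hg hkf h3⟩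
    · exact Or.inr ⟨(F.q_true hkf).1 h1, (F.q_false hk).1 h2, F.NE_zTy hg hk h3⟩

theorem NE_pi (g : M) : S.NE (S.ψ (g * piM * g⁻¹)) := by
  obtain ⟨k, -, hk⟩ := S.pi_conj
  have key : ∀ (g : M) (h : G), h * S.e * h⁻¹ ≠ S.ψ (g * piM * g⁻¹) := by
    intro g h e
    refine S.not_conj_z (k⁻¹ * (S.ψ g)⁻¹ * h) ?_
    calc k⁻¹ * (S.ψ g)⁻¹ * h * S.e * (k⁻¹ * (S.ψ g)⁻¹ * h)⁻¹
        = k⁻¹ * ((S.ψ g)⁻¹ * (h * S.e * h⁻¹) * S.ψ g) * k := by group
      _ = k⁻¹ * S.ψ piM * k := by rw [e, map_mul, map_mul, map_inv]; group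
      _ = S.z := by rw [← hk]; group
  intro h
  refine ⟨key g h, ?_⟩
  obtain ⟨g', hg'⟩ := piM_class 1
  rw [wC_units.2.2.2.2.2.1] at hg'
  have : S.ψ (g * piM * g⁻¹) * S.z = S.ψ (g * g' * piM * (g * g')⁻¹) := by
    rw [show g * g' * piM * (g * g')⁻¹ = g * (g' * piM * g'⁻¹) * g⁻¹ by group, hg', Setup.z, ← map_mul]
    congr 1
    rw [mul_assoc (g * piM), ← tau_central, ← mul_assoc, mul_assoc g piM tau]
  rw [this]
  exact key _ h

/-- over `π`: the code of the element -/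
theorem ev_pi (r : Fin 64) : F.toFlip.ev (piC r) = S.ψ piM * F.toFlip.rR r := by
  have e : S.ψ piM = F.toFlip.ev (false, piM, false) := by simp [Twist.ev, Twist.W, Setup.E]
  rw [e, Flip.rR, F.toFlip.ev_mulD, F.hd]; rfl

theorem pi_sq (r : Fin 64) : F.toFlip.ev (piC r) * F.toFlip.ev (piC r) = F.toFlip.ev (piSq r) := by
  rw [F.toFlip.ev_mulD, F.hd]; rfl

theorem pi_pair {r r' : Fin 64} {i : Bool} (h : piPair r r') (hi : overPi i r') :
    F.toFlip.ev (piC r) * F.toFlip.ev (piC r) = S.z ∧ F.toFlip.ev (piC r') * F.toFlip.ev (piC r') = 1 ∧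
      ∃ g : M, F.toFlip.ev (piC r') = S.E i * S.ψ (g * piM * g⁻¹) := by
  obtain ⟨h1, h2⟩ := h
  obtain ⟨e1, e2, g, hg⟩ := hi
  refine ⟨?_, ?_, g, ?_⟩
  · rw [F.pi_sq, h1, F.toFlip.ev_tC]; rfl
  · rw [F.pi_sq, h2, F.toFlip.ev_tC]; simp [pw]
  · simp [Twist.ev, e1, e2, hg, Twist.W]

theorem piPair_of {r r' : Fin 64} {y x : G} (hy : F.toFlip.ev (piC r) * F.toFlip.ev (piC r) = y * y)
    (hx : F.toFlip.ev (piC r') * F.toFlip.ev (piC r') = x * x) (h1 : y * y = S.z) (h2 : x * x = 1) : piPair r r' := by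
  have hsq : ∀ r, piSq r = tC true ∨ piSq r = tC false ∨ (∀ c, F.toFlip.ev (piSq r) ≠ F.toFlip.ev (tC c)) := by
    intro r
    by_cases ha : piSq r = tC true
    · exact Or.inl ha
    by_cases hb : piSq r = tC false
    · exact Or.inr (Or.inl hb)
    refine Or.inr (Or.inr fun c e => ?_)
    have := F.toTwist.ev_inj e
    cases c
    · exact hb this
    · exact ha this
  constructor
  · rcases hsq r with h | h | h
    · exact h
    · rw [F.pi_sq, h, F.toFlip.ev_tC, h1] at hy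
      exact absurd (by simpa [pw] using hy.symm) S.z_ne
    · exact absurd (by rw [← F.pi_sq, hy, h1, F.toFlip.ev_tC]; rfl) (h true)
  · rcases hsq r' with h | h | h
    · rw [F.pi_sq, h, F.toFlip.ev_tC, h2] at hx
      exact absurd hx S.z_ne
    · exact h
    · exact absurd (by rw [← F.pi_sq, hx, h2, F.toFlip.ev_tC]; simp [pw]) (h false)

theorem pi_cases {b r : Fin 64} (h : F.Pz b (F.pb * F.rb r)) :
    (∃ y : G, piPair r (x6 r b) ∧ S.NE y ∧
      (y = F.toFlip.ev (piC (x6 r b)) ∨ y = F.toFlip.ev (piC (x6 r b)) * S.z)) ∨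
    (piPair (x6 r b) r ∧ S.NE (F.toFlip.ev (piC r))) := by
  obtain ⟨c, hc⟩ := F.toFlip.RC_mul (F.toFlip.RC_self r) (F.toFlip.RC_self b)
  have hk := S.cz_mul (S.z_ψ piM).symm (F.toFlip.rR_z r)
  have hq : F.pb * F.rb r = S.kb _ hk := by rw [pb, Mid.rb, S.kb_mul]
  have e : S.ψ piM * F.toFlip.rR r * F.toFlip.rR b = F.toFlip.ev (piC (x6 r b)) * F.toFlip.ev (tC c) := by
    rw [mul_assoc, hc, ← mul_assoc, F.ev_pi]
  have hz : F.toFlip.ev (piC (x6 r b)) * S.z = S.z * F.toFlip.ev (piC (x6 r b)) := by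
    rw [F.ev_pi]; exact S.cz_mul (S.z_ψ piM).symm (F.toFlip.rR_z _)
  have hsq : F.toFlip.ev (piC (x6 r b)) * F.toFlip.ev (piC (x6 r b)) =
      S.ψ piM * F.toFlip.rR r * F.toFlip.rR b * (S.ψ piM * F.toFlip.rR r * F.toFlip.rR b) := by
    rw [e, F.toFlip.ev_tC]
    cases c
    · simp [pw]
    · show _ = F.toFlip.ev (piC (x6 r b)) * S.z * (F.toFlip.ev (piC (x6 r b)) * S.z)
      rw [mul_assoc _ S.z, ← mul_assoc S.z, ← hz, mul_assoc, S.zz, mul_one]
  rcases Pz.any F h hk hq (F.toFlip.RC_self b) with ⟨h1, h2, h3⟩ | ⟨h1, h2, h3⟩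
  · left
    refine ⟨_, F.piPair_of (by rw [F.ev_pi]) hsq h1 h2, h3, ?_⟩
    rw [e, F.toFlip.ev_tC]
    cases c
    · exact Or.inl (by simp [pw])
    · exact Or.inr rfl
  · exact Or.inr ⟨F.piPair_of hsq (by rw [F.ev_pi]) h1 h2, by rw [F.ev_pi]; exact h3⟩

/-- THE COSET of `π`, seen from a code moved by its lift. -/
theorem Pz_pi {b r : Fin 64} (hb : b = 26 ∨ b = 30) : F.Pz b (F.pb * F.rb r) ↔ inS r = true := by
  constructor
  · intro h
    by_contra hne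
    rw [Bool.not_eq_true] at hne
    obtain ⟨n1, n2⟩ := pi_neg r hne b hb
    rcases F.pi_cases h with ⟨-, hp, -⟩ | ⟨hp, -⟩
    · exact n1 hp
    · exact n2 hp
  · intro hin
    obtain ⟨c, hc⟩ := F.toFlip.RC_mul (F.toFlip.RC_self r) (F.toFlip.RC_self b)
    have hk := S.cz_mul (S.z_ψ piM).symm (F.toFlip.rR_z r)
    refine ⟨_, hk, by rw [pb, Mid.rb, S.kb_mul], ?_⟩
    have e : S.ψ piM * F.toFlip.rR r * F.toFlip.rR b = F.toFlip.ev (piC (x6 r b)) * F.toFlip.ev (tC c) := by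
      rw [mul_assoc, hc, ← mul_assoc, F.ev_pi]
    have hz : ∀ r, F.toFlip.ev (piC r) * S.z = S.z * F.toFlip.ev (piC r) := fun r => by
      rw [F.ev_pi]; exact S.cz_mul (S.z_ψ piM).symm (F.toFlip.rR_z _)
    rw [e, ← F.ev_pi, F.toFlip.ev_tC]
    rcases pi_pos r hin b hb with ⟨hp, ho⟩ | ⟨hp, ho⟩
    · obtain ⟨e1, e2, g, e3⟩ := F.pi_pair hp ho
      have hP : Pair (S := S) (F.toFlip.ev (piC r)) (F.toFlip.ev (piC (x6 r b))) :=
        ⟨e1, e2, by rw [e3]; simpa [Setup.E] using NE_pi (S := S) g⟩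
      left
      cases c
      · simpa [pw] using hP
      · exact (hP.tz (hz _) (hz _)).2.1
    · obtain ⟨e1, e2, g, e3⟩ := F.pi_pair hp ho
      have hP : Pair (S := S) (F.toFlip.ev (piC (x6 r b))) (F.toFlip.ev (piC r)) :=
        ⟨e1, e2, by rw [e3]; simpa [Setup.E] using NE_pi (S := S) g⟩
      right
      cases c
      · simpa [pw] using hP
      · exact (hP.tz (hz _) (hz _)).1

theorem not_NE_epi (g : M) : ¬ S.NE (S.e * S.ψ (g * piM * g⁻¹)) := by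
  obtain ⟨k, hke, hk⟩ := S.pi_conj
  intro h
  obtain ⟨g', hg'⟩ := S.conj_e_of_z (k := S.ψ g * k) (x := S.ψ (g * piM * g⁻¹))
    (Commute.mul_left (S.e_ψ g).symm hke) (by
      rw [map_mul, map_mul, map_inv, ← hk]; group)
  exact (h g').1 hg'

/-- THE REFLECTIONS never qualify. -/
theorem Pz_refl (r : Fin 64) : ¬ F.Pz 16 (F.pb * F.rb r) := by
  intro h
  rcases F.pi_cases h with ⟨y, hp, hne, hy⟩ | ⟨hp, hne⟩
  · obtain ⟨-, -, g, e⟩ := F.pi_pair hp ((pi_refl r).1 hp)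
    refine not_NE_epi (S := S) g ?_
    rw [show S.e * S.ψ (g * piM * g⁻¹) = F.toFlip.ev (piC (x6 r 16)) by rw [e]; rfl]
    rcases hy with rfl | rfl
    · exact hne
    · have := S.NE_z hne
      rwa [mul_assoc, S.zz, mul_one] at this
  · obtain ⟨-, -, g, e⟩ := F.pi_pair hp ((pi_refl r).2 hp)
    refine not_NE_epi (S := S) g ?_
    rw [show S.e * S.ψ (g * piM * g⁻¹) = F.toFlip.ev (piC r) by rw [e]; rfl]
    exact hne

theorem units_ext {q q' : S.Kb} {t t' : Fin 64 → Fin 64} (h : F.BAct q t) (h' : F.BAct q' t')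
    (hu : units t = units t') : t = t' := by
  rw [lin_lf (h.map_add F), lin_lf (h'.map_add F)]
  exact congrArg lf hu

theorem to_pi {q γ : S.Kb} {t m : Fin 64 → Fin 64} (hq : F.BAct q t) (hγ : F.BAct γ m)
    (hu : units (m ∘ t) = units (lf piL ∘ m)) : ∃ c, γ * q * γ⁻¹ = F.pb * F.rb c := by
  have e : m ∘ t = lf piL ∘ m := F.units_ext (hγ.comp F hq) (F.act_pb.comp F hγ) hu
  have hp : ∀ a, lf piL (lf piL a) = a := fun a => (d8_maps a).2.2.2.2.2.2
  choose m' hm' using Finite.injective_iff_surjective.1 (hγ.injective F)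
  have hA := (hγ.comp F hq).comp F (hγ.inv F hm')
  have ht : (m ∘ t) ∘ m' = lf piL := funext fun a => by
    rw [e, Function.comp_apply, Function.comp_apply, hm']
  rw [ht] at hA
  exact F.eq_rb_of_same hA F.act_pb hp

theorem NE_xg : S.NE F.xg := by
  obtain ⟨-, s, hsz, hsv, -, hs⟩ := F.toMid.cases_s
  obtain ⟨τ', t', hd', htt, hττ⟩ := F.toMid.VAct_inv dT_facts.1 F.toMid.d_act
  have hτ1 : id ∘ dT ∘ id ∘ τ' = id := funext hττ
  have hX := hs.comp (F.toMid.d_act.comp (hs.comp hd'))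
  rw [hτ1] at hX
  have hcode : ∀ b : Fin 64, lf (dV true) b = 46 → lf (sV true) (lf (dV true) (lf (sV true) b)) = 4 := by
    decide +kernel
  set x := s * (S.d * (s * S.d⁻¹))
  have h4 := hX.conj (F.toMid.WC_self 46)
  simp only [Function.comp_apply, F.hd] at h4
  have hb := htt 46
  rw [F.hd] at hb
  rw [hcode _ hb] at h4
  obtain ⟨c, hc⟩ := h4
  have e4 : F.toMid.rW 4 = S.ψ piM := by
    simp [Mid.rW, Mid.ev4, wC_units.2.2.2.2.2.2.2.1, Setup.E, Twist.W, Mid.H]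
  have hxz : x * S.z = S.z * x := by
    have := hX.1 1; rw [id, Mid.zc_one] at this; exact mul_inv_eq_iff_eq_mul.1 this
  obtain ⟨g, hg⟩ := piM_class c
  have e : x * F.xg * x⁻¹ = S.ψ (g * piM * g⁻¹) := by
    rw [show F.xg = F.toMid.rW 46 from rfl, hc, e4, hg, map_mul]; rfl
  have := S.NE_conj (S.cz_inv hxz) (e ▸ NE_pi (S := S) g : S.NE (x * F.xg * x⁻¹))
  rwa [show x⁻¹ * (x * F.xg * x⁻¹) * x⁻¹⁻¹ = F.xg by group] at this

theorem Pz_xc_one : F.Pz 16 F.xc := by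
  refine ⟨F.xg, F.xg_z, rfl, Or.inr ⟨?_, ?_, F.NE_xg⟩⟩
  · have h16 := F.toMid.WC_of_RC (a := 16) (by decide) (F.toFlip.RC_self 16)
    rw [dT_facts.2.2.2.2.2.2.2.2.1] at h16
    have h := F.toMid.WC_sq (F.toMid.WC_mul (F.toMid.WC_self 46) h16)
    rw [xc_q.2.2.2.1, F.hd, F.r_false, xc_q.2.1, Mid.zc_one] at h
    exact h
  · have h := F.toMid.WC_sq (F.toMid.WC_self 46)
    rw [F.hd, F.r_false, xc_q.1, Mid.zc_zero] at h
    exact h

theorem Pz_xc (a : Fin 64) : F.Pz 16 (F.xc * F.rb a) ↔ inFL a = true := by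
  obtain ⟨g, hg, -⟩ := F.toMid.autom_eq F.hd
  obtain ⟨⟨-, -, -, hlt⟩, -, -, -, -, hu, h16⟩ := row_facts g
  set m := mapOf ((grpOf true g.val).getD (rowOf g).2.2.2 (0, 0, 0)).2.2 with hm
  obtain ⟨k, hk⟩ := hg _ hlt
  have hγ : F.BAct (S.kb k hk.1) m := ⟨k, hk.1, rfl, hk⟩
  obtain ⟨c, hc⟩ := F.to_pi F.act_xc hγ hu
  set b : Fin 64 := m 16 with hbdef
  have hb : b = 26 ∨ b = 30 := by
    rcases h16 with h | h
    · exact Or.inr h
    · exact Or.inl h
  have key : ∀ a, F.Pz 16 (F.xc * F.rb a) ↔ inS (x6 c (m a)) = true := fun a => by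
    rw [← Pz.conj_iff F (hγ.conj F 16),
      show S.kb k hk.1 * (F.xc * F.rb a) * (S.kb k hk.1)⁻¹ =
        S.kb k hk.1 * F.xc * (S.kb k hk.1)⁻¹ * (S.kb k hk.1 * F.rb a * (S.kb k hk.1)⁻¹) by group,
      hc, hγ.conj F a, mul_assoc, F.toMid.rb_mul, F.Pz_pi hb]
  have hm0 : m 0 = 0 := by
    have := hγ.map_add F 0 0
    rw [x6_self, x6_self] at this
    exact this
  have hc0 : inS c = true := by
    have := (key 0).1 (by rw [F.toMid.rb_zero, mul_one]; exact F.Pz_xc_one)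
    rwa [hm0, (x6_zero c).2] at this
  rw [key, inS_sub.2 c (m a) hc0, hm, row_fix]

theorem Pz_yconj {q : S.Kb} (a : Fin 64) :
    F.Pz 16 (F.yb * q * F.yb⁻¹ * F.rb (lf yL a)) ↔ F.Pz 16 (q * F.rb a) := by
  have h16 : F.yb * F.rb 16 * F.yb⁻¹ = F.rb 16 := by rw [F.act_yb.conj F 16, y_pre.2.2.1]
  rw [← F.act_yb.conj F a, ← Pz.conj_iff F (q := q * F.rb a) h16]
  rw [show F.yb * q * F.yb⁻¹ * (F.yb * F.rb a * F.yb⁻¹) = F.yb * (q * F.rb a) * F.yb⁻¹ by group]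

theorem Pz_x1 (a : Fin 64) : F.Pz 16 (F.x1 * F.rb a) ↔ inFL a = true := by
  obtain ⟨b, rfl⟩ := Finite.injective_iff_surjective.1 (F.act_yb.injective F) a
  rw [x1, F.Pz_yconj, F.Pz_xc, (fl_y b).1]

theorem Pz_x2 (a : Fin 64) : F.Pz 16 (F.x2 * F.rb a) ↔ inFL a = true := by
  obtain ⟨b, rfl⟩ := Finite.injective_iff_surjective.1 (F.act_yb.injective F) a
  rw [x2, F.Pz_yconj, F.Pz_x1, (fl_y b).1]

theorem fl_shift {a c : Fin 64} (hc : inFL c = true) : inFL (x6 c a) = inFL a :=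
  (by decide +kernel : ∀ a c : Fin 64, inFL c = true → inFL (x6 c a) = inFL a) a c hc

theorem xp_x2 : ∃ b, inFL b = true ∧ F.xp = F.x2 * F.rb b := by
  have e : F.xp = F.yb * (F.yb * (F.pb * F.xc * F.pb⁻¹) * F.yb⁻¹) * F.yb⁻¹ := by
    rw [xp, x1, show F.pb * (F.yb * F.xc * F.yb⁻¹) * F.pb⁻¹ = (F.pb * F.yb) * F.xc * (F.pb * F.yb)⁻¹ by group, F.p_y]
    group
  rcases F.p_xc with h | h
  · exact ⟨0, by decide +kernel, by rw [e, h, x2, x1, F.toMid.rb_zero, mul_one]⟩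
  · refine ⟨lf yL (lf yL 4), p_units.2.2.2.2.2.2.2.1, ?_⟩
    rw [e, h, x2, x1, ← F.act_yb.conj F (lf yL 4), ← F.act_yb.conj F 4]
    group

theorem Pz_range (a : Fin 64) (k : Fin 8) : F.Pz 16 (F.qv a k) ↔ (k.val < 4 ∧ inFL a = true) := by
  obtain ⟨d1, d2, d3, d4, d5, hcases, hρ, hπ, hs⟩ := code_facts
  rcases hcases k with hk | rfl | rfl | hk
  · choose t' ht' using Finite.injective_iff_surjective.1 ((F.act_dd k).injective F)
    have e : F.qv a k = F.dd k * F.rb (t' a) := by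
      rw [qv, (F.act_dd k).comm F (t' a), ht']
    have ha : inFL (t' a) = inFL a := by
      conv_rhs => rw [← ht' a]
      exact ((fl_y (t' a)).2 k hk).symm
    rw [e, ← ha, and_iff_right hk]
    obtain ⟨b, hb, hxp⟩ := F.xp_x2
    obtain ⟨p, hp, hprod⟩ := F.four_prod
    have hkc : k = 0 ∨ k = 1 ∨ k = 2 ∨ k = 3 := by
      rcases k with ⟨k, hk8⟩
      simp only [Fin.ext_iff, Fin.val_zero, Fin.val_one, Fin.val_two, show ((3 : Fin 8).val) = 3 from rfl]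
      simp only at hk
      omega
    rcases hkc with rfl | rfl | rfl | rfl
    · have : F.dd 0 = 1 := by rw [dd, p_units.2.2.2.2.2.2.2.2]; simp [de, pg]
      rw [this, one_mul]; exact F.Pz_rad _
    · have h12 : F.x1 * F.x2 = F.xc * F.rb p := by
        rw [← hprod, ← mul_assoc, ← mul_assoc, F.xc_sq, one_mul]
      have : F.dd 1 = F.xc * F.rb (x6 p b) := by
        rw [dd, d1]
        simp only [de, pg, cond_true, cond_false, mul_one]
        rw [hxp, ← mul_assoc, h12, mul_assoc, F.toMid.rb_mul]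
      rw [this, mul_assoc, F.toMid.rb_mul, F.Pz_xc, fl_shift]
      exact (fl_shift hp).trans hb
    · have : F.dd 2 = F.x1 := by rw [dd, d2]; simp [de, pg]
      rw [this]; exact F.Pz_x1 _
    · have : F.dd 3 = F.x2 * F.rb b := by rw [dd, d3]; simp [de, pg, hxp]
      rw [this, mul_assoc, F.toMid.rb_mul, F.Pz_x2, fl_shift hb]
  · refine iff_of_false ?_ (fun h => absurd h.1 (by decide))
    have : F.qv a 4 = F.pb * F.rb (lf piL a) := by
      rw [qv, F.act_pb.comm F, (d8_maps a).2.2.2.2.2.2, dd, d4]; simp [de, pg]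
    rw [this]
    exact F.Pz_refl _
  · refine iff_of_false ?_ (fun h => absurd h.1 (by decide))
    obtain ⟨s, hsz, -, hA⟩ := F.toMid.exists_s0
    rw [F.hd, F.r_false, hs] at hA
    have hγ : F.BAct (S.kb s hsz) rhoConj := ⟨s, hsz, rfl, hA⟩
    obtain ⟨c, hc⟩ := F.to_pi (F.act_qv a 5) hγ hρ
    rw [← Pz.conj_iff F (hγ.conj F 16), hc, rho_conj.2]
    exact F.Pz_refl c
  · refine iff_of_false (fun h => hk ?_) (fun h => ?_)
    · have h2 := (F.act_qv a k).comp F (F.act_qv a k)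
      rw [Pz.sq F h] at h2
      rw [h2.unique F (BAct.one F)]
    · exact hk ((by decide +kernel : ∀ k : Fin 8, k.val < 4 → units (tD k ∘ tD k) = units id) k h.1)

open Cfsg.Lib.AltTwelveType in
theorem mem_V5_psi {x : ↥F.fH} : x ∈ Cf.V5.map F.psiH ↔ x.1 ∈ F.psi.range ∧ F.Pz 16 x.1 := by
  have key : ∀ m : ↥Sm, m ∈ Cf.V5 ↔ F.Pz 16 (F.psi m) := by
    intro m
    obtain ⟨a, k, hk, hm⟩ := m.2
    rw [F.psi_eq m hk hm, F.Pz_range]
    refine Iff.trans ?_ (v5_split a k hk)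
    show (∀ i : Fin 12, ((m : Mh).1 i).val / 2 = i.val / 2) ↔ _
    rw [hm]
    rfl
  constructor
  · rintro ⟨m, hm, rfl⟩
    exact ⟨⟨m, rfl⟩, (key m).1 hm⟩
  · rintro ⟨⟨m, hm⟩, hP⟩
    exact ⟨m, (key m).2 (hm ▸ hP), Subtype.ext hm⟩

/-- THE IMAGE of the flips is strongly closed. -/
theorem strongly_closed : Cfsg.IsStronglyClosed (Cf.V5.map F.psiH) F.psiH.range := by
  refine ⟨fun x ⟨m, _, hm⟩ => ⟨m, hm⟩, fun x hx g hg => ?_⟩
  obtain ⟨m, hm⟩ := hg
  refine F.mem_V5_psi.2 ⟨⟨m, congrArg Subtype.val hm⟩, ?_⟩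
  have h16 : g.1 * F.rb 16 * g.1⁻¹ = F.rb 16 :=
    mul_inv_eq_iff_eq_mul.2 (mem_centralizer_singleton_iff.1 g.2)
  exact (Pz.conj F (F.mem_V5_psi.1 hx).2 h16 : F.Pz 16 (g.1 * x.1 * g.1⁻¹))

end Co

end Cfsg.Lib.CoThreeM
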