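/-
In the configuration of `Co₃` the hypotheses of the endgame hold.
-/
import Cfsg.Agent.CoThreeM.Strong
import Cfsg.Agent.CoThreeM.Core

set_option autoImplicit false
set_option linter.unusedSectionVars false
set_option linter.style.haveILetI false
set_option maxRecDepth 10000

namespace Cfsg.Lib.CoThreeM

open Subgroup Cfsg.Lib.M12Cent

universe u

variable {G : Type u} [Group G] [Finite G] {S : Setup G}

namespace Co

variable (F : Co S)

theorem pK_w : S.pK ⟨F.w, mem_centralizer_singleton_iff.2 F.toFlip.wz⟩ = F.rb 16 :=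
  F.toMid.kb_RC F.toFlip.RC_w F.toFlip.wz

theorem act_units {k : G} {t t' : Fin 64 → Fin 64} (h : F.toFlip.Act k t)
    (h' : ∀ a b, t' (x6 a b) = x6 (t' a) (t' b)) (hu : units t = units t') : t = t' := by
  rw [lin_lf h.map_add, lin_lf h']
  exact congrArg lf hu

/-- THE STABILISER is the centraliser in the alternating group of degree twelve. -/
theorem stab_iso : Nonempty (↥F.fH ≃* AltTwelveType.Mh) :=
  Cf.cf_recognition F.oddCore_fH F.psiH F.psiH_inj F.psiH_index F.psiH_alpha F.strongly_closed F.card_norm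
    F.norm_ne_top

theorem exists_seven : ∃ k t, F.toFlip.Act k t ∧ t^[7] = id ∧ t 16 ≠ 16 := by
  obtain ⟨g, hg, -⟩ := F.toMid.autom_eq F.hd
  obtain ⟨⟨h1, -⟩, h7, h16, -⟩ := row_facts g
  obtain ⟨k, hk⟩ := hg _ h1
  refine ⟨k, _, hk, ?_, h16⟩
  exact F.act_units (F.toMid.act_pow hk 7) (fun a b => rfl) h7

theorem exists_three : ∃ k1 t1 k2 t2, F.toFlip.Act k1 t1 ∧ F.toFlip.Act k2 t2 ∧ x6 8 (t1 8) = t2 8 ∧ t1 8 ≠ 8 := by
  obtain ⟨g, hg, -⟩ := F.toMid.autom_eq F.hd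
  obtain ⟨⟨-, h2, h3, -⟩, -, -, e, hne, -⟩ := row_facts g
  obtain ⟨k1, hk1⟩ := hg _ h2
  obtain ⟨k2, hk2⟩ := hg _ h3
  exact ⟨k1, _, k2, _, hk1, hk2, e, hne⟩

end Co

end Cfsg.Lib.CoThreeM
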