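/-
Tables for the wreathed configuration.
-/
import Cfsg.Agent.CoThreeM.XUnits
import Cfsg.Agent.CoThreeM.XModel

set_option autoImplicit false
set_option maxRecDepth 100000

namespace Cfsg.Lib.CoThreeM

open Cfsg.Lib.M12Cent

/-- a power of a map -/
def pu (b : Bool) (t : Fin 64 → Fin 64) : Fin 64 → Fin 64 := bif b then t else id

/-- the first generator acting on the group modulo the pair -/
def uS : Fin 64 → Fin 64 := lf (sV false)
/-- its conjugate -/
def uA (x : Fin 64) : Fin 64 := lf (dV false) (lf (sV false) (lf (dV false) (lf (dV false) x)))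
/-- the other conjugate -/
def uB (x : Fin 64) : Fin 64 := lf (dV false) (lf (dV false) (lf (sV false) (lf (dV false) x)))
/-- the group of eight maps modulo the pair -/
def tU (i : Fin 8) : Fin 64 → Fin 64 :=
  pu (i.val.testBit 0) uS ∘ pu (i.val.testBit 1) uA ∘ pu (i.val.testBit 2) uB
/-- displacement -/
def dU (i : Fin 8) (x : Fin 64) : Fin 64 := x6 (tU i x) x
/-- a code squaring into `⟨z⟩` -/
def isoZ (x : Fin 64) : Bool := decide ((q4 false true x).val < 2)

theorem u_mul : ∀ i j : Fin 8, ∃ k : Fin 8, k.val = i.val ^^^ j.val ∧ units (tU i ∘ tU j) = units (tU k) := by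
  decide +kernel

theorem u_basic : units (tU 0) = units id ∧ (∀ i : Fin 8, i ≠ 0 → tU i 8 ≠ 8) ∧
    (∀ i j : Fin 8, units (tU i) = units (tU j) → i = j) := by decide +kernel

theorem u_orbit : ∀ c : Fin 64, q4 false true c = 0 →
    (∃ i : Fin 8, tU i 8 = c) ∨ ∃ i : Fin 8, i ≠ 0 ∧ tU i c = c := by decide +kernel

theorem u_derived : ∀ i : Fin 8, i ≠ 0 → ∃ (j : Fin 8) (x : Fin 64), tU i (dU j x) ≠ dU j x := by decide +kernel

theorem u_small : ∀ i : Fin 8, i ≠ 0 → i ≠ 6 →
    (∃ m : Fin 64, isoZ (dU i m) = false) ∨ 8 ≤ (Finset.univ.image fun m : Fin 64 => dU i m).card := by decide +kernel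

/-- a code compatible with a map in the group -/
def okU (i : Fin 8) (x : Fin 64) : Bool :=
  (tU i x == x) && all64.all fun m => isoZ (x6 (dU i m) x)

theorem u_iso : ∀ i : Fin 8, i ≠ 0 → ∀ x y : Fin 64, okU i x = true → okU i y = true → B4 false true x y = 0 := by
  decide +kernel

/-- the codes whose orbit gives no central one -/
def inSix (x : Fin 64) : Bool := ([0, 2, 24, 26, 42, 50] : List ℕ).contains x.val

theorem u_central : ∀ x : Fin 64, inSix x = false →
    (∃ i : Fin 8, isoZ (tU i x) = false) ∨ (∃ i : Fin 8, isoZ (dU i x) = false) ∨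
    (∃ i j : Fin 8, isoZ (dU j (dU i x)) = false) ∨
    (∃ i : Fin 8, dU i x = 40 ∨ dU i x = 48) ∨ (∃ i j : Fin 8, dU j (dU i x) = 40 ∨ dU j (dU i x) = 48) ∨
    x = 40 ∨ x = 48 := by decide +kernel

theorem u_perp : ∀ x : Fin 64,
    (isoZ x = true → isoZ (x6 x 40) = true → B4 false true 40 x = 0) ∧
    (isoZ x = true → isoZ (x6 x 48) = true → B4 false true 48 x = 0) := by decide +kernel

theorem w_facts : (∀ s : Fin 4, ∃ a : Fin 64, B4 false true a 8 = s) ∧ (∀ a b : Fin 64, B4 false true a b = B4 false true b a) ∧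
    (∀ x : Fin 64, x6 x 0 = x ∧ x6 0 x = x ∧ x6 x x = 0) ∧ q4 false true 8 = 0 := by decide +kernel

theorem phi_facts : q6 24 = false ∧ B6 8 24 = true ∧ B6 24 24 = false ∧
    (∀ a : Fin 64, B6 a 24 = false → (∀ b : Fin 64, B6 b 24 = false → B6 a b = false) → a = 0 ∨ a = 24) ∧
    (Finset.univ.filter fun a : Fin 64 => B6 a 24 = false).card = 32 ∧
    (∀ a b : Fin 64, B6 (x6 a b) 24 = xor (B6 a 24) (B6 b 24)) := by decide +kernel

theorem cands : ∀ c : Fin 64, lf piL c = c → B6 8 c = true → q6 c = false → c = 18 ∨ c = 22 ∨ c = 24 ∨ c = 28 := by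
  decide +kernel

/-- the row indices of a Sylow subgroup of the table -/
def p32 : List ℕ := [0, 2, 3, 4, 10, 11, 13, 25, 36, 38, 39, 41, 42, 46, 67, 68, 69, 70, 71, 72, 73, 74, 75, 77, 78,
  80, 82, 91, 92, 93, 94, 95]
/-- a map of the Sylow subgroup of the table -/
def tP (i : Fin 32) : Fin 64 → Fin 64 := mapOf (grpW.getD (p32.getD i.val 0) (0, 0, 0)).2.2
/-- a map of the table -/
def tR (i : Fin 96) : Fin 64 → Fin 64 := mapOf (grpW.getD i.val (0, 0, 0)).2.2

/-- the product table of the Sylow subgroup -/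
def p32M (i j : Fin 32) : Fin 32 :=
  ⟨((0x302c349f650ad82939e4ab6714655dbfa18a735f01902c85443f5e36cd858c9d5b276bd7f10e52fe7b076bccbb77808804caa60fc1689f4ae4dac73d189e691667255004aac15e77d635d1852faf7f1c6cb59147fda92090530b09b87b8fc54298f74edb09dc4a818234b655d9434f5199c5edf5e9c863fa74c2aa30087c0bbf0c96bfc5a3f0d85a6b1937b921541589001a667abdc69458ddf6d9a43dfbeb9838665899e303544ea362caec975592feb94c43d7ac68b0ca09683fd26bd9116e3e1f06521d363f764580cc282edf06fd1453fdc9e340f46c729eae5510d80691c12c6c6ced07ea54b7ca75c7357ffa14ca70d07791586f217b5520fe581a876391656df3da8b3fd86f4682ee00ecc50d0278578b7abca6b2b20cf86cf35504cb906ef68bf0603c955395f5b129367e8ec6165c18b2606d5f252d09e63fed5e905f7d5226f2c8b910e28d01e06f97437315b45a6f4e61232e95e9f4d1fef128bc4c03817cec8da98e56c8ef204cb5cf3a182f870182fc7aac97d4e62deaff12e74d48e953c39230700f12e29bf6ab21cc63c48d388a9fcd6c1c1be40341dcbecf5b28d52b936e91d7cb897193721d38281d0be4b6dec9b90a9b8fbe3cd66608af88a8d78770d010ee6356c9698d79d3b71991bcb2dfe919342a0600dda6e7b148d5db867e3cf393042f3455bbb93eb300443214c7f7d7455d30d223c736b864e4feef360808510ce6c433a473bfa2a57655be73e334d97b1100609c6586137b517ee6dba7c65f9b2aeca3aa194c038444a72be74257c33bf5657a46d368cdaf20827018a3e523f9e1ba83d7eda7b7b2b28aba4c28ce130082bea507fab4fcf38b753cda16a6b22e31c6229001ffbbcdeb38bdab49ca307b9ac5a928398a418820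 : ℕ) >>> (5 * (32 * i.val + j.val))) % 32, Nat.mod_lt _ (by norm_num)⟩
/-- pack a list of images -/
def packU (L : List ℕ) : ℕ := L.foldr (fun a r => a + 64 * r) 0
/-- the packed map of a row -/
def nR (i : Fin 96) : ℕ := (grpW.getD i.val (0, 0, 0)).2.2

theorem p32_mul : ∀ i j : Fin 32, units (tP i ∘ tP j) = units (tP (p32M i j)) := by
  intro i
  fin_cases i <;> decide +kernel

theorem pack_row : ∀ i : Fin 96, packU (units (tR i)) = nR i := by decide +kernel
theorem nR_inj : ∀ i j : Fin 96, nR i = nR j → i = j := by decide +kernel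

theorem p32_basic : p32.length = 32 ∧ grpW.length = 96 ∧ (∀ i : Fin 32, p32.getD i.val 0 < 96) ∧
    units (tP 0) = units id ∧ (∀ i j : Fin 32, p32.getD i.val 0 = p32.getD j.val 0 → i = j) ∧
    (∀ i : Fin 32, tP i 24 = 24) := by
  decide +kernel

theorem tR_facts : (∀ i : Fin 96, tR i 24 = 24) ∧ tR 4 8 = 18 ∧ tR 13 8 = 22 ∧ tR 38 28 = 4 := by decide +kernel

theorem tR_inj (i j : Fin 96) (h : units (tR i) = units (tR j)) : i = j :=
  nR_inj i j (by rw [← pack_row i, ← pack_row j, h])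

theorem tP_inj (i j : Fin 32) (h : units (tP i) = units (tP j)) : i = j := by
  obtain ⟨-, -, hlt, -, hinj, -⟩ := p32_basic
  exact hinj i j (congrArg Fin.val (tR_inj ⟨_, hlt i⟩ ⟨_, hlt j⟩ h))

end Cfsg.Lib.CoThreeM
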