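/-
In the wreathed configuration the normaliser of the group modulo the pair is a Sylow subgroup of the centraliser of
the pair.
-/
import Cfsg.Agent.CoThreeM.Quot
import Cfsg.Agent.CoThreeM.WreathModel

set_option autoImplicit false
set_option linter.unusedSectionVars false
set_option linter.style.haveILetI false
set_option maxRecDepth 10000

namespace Cfsg.Lib.CoThreeM

open Subgroup Cfsg.Lib.M12Cent

universe u

/-- the wreathed configuration -/
structure Wr {G : Type u} [Group G] [Finite G] (S : Setup G) extends Mid S where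
  hd : δ = false

theorem rW_fix : wC 0 = (false, 1, false, false) := by decide +kernel

variable {G : Type u} [Group G] [Finite G] {S : Setup G}

namespace Wr

variable (F : Wr S)

theorem r_true : F.r = true := by rw [F.toMid.cases_s.1, F.hd]; rfl

include F in
theorem comm_of {k : G} {τ : Fin 4 → Fin 4} (hτ : τ = id) (h : ∀ s, k * S.zc s * k⁻¹ = S.zc (τ s)) :
    k * S.z = S.z * k ∧ k * S.v = S.v * k := by
  subst hτ
  constructor
  · have := h 1; rw [id, Mid.zc_one] at this; exact mul_inv_eq_iff_eq_mul.1 this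
  · have := h 2; rw [id, Mid.zc_two] at this; exact mul_inv_eq_iff_eq_mul.1 this

theorem vact_cent {k : G} {t : Fin 64 → Fin 64} (h : F.toMid.VAct k id t) :
    k * S.z = S.z * k ∧ k * S.v = S.v * k := F.comm_of rfl h.1

theorem WC_cent {a : Fin 64} {k : G} (h : F.toMid.WC a k) : k * S.z = S.z * k ∧ k * S.v = S.v * k := by
  obtain ⟨s, rfl⟩ := h
  obtain ⟨h1, h2⟩ := F.toMid.rW_cent a
  refine ⟨S.cz_mul h1 ?_, Commute.mul_left h2 ?_⟩
  · rw [Setup.zc]; exact (S.z_ψ _).symm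
  · show S.zc s * S.v = S.v * S.zc s
    rw [← Mid.zc_two, Mid.zc_mul, Mid.zc_mul, (x4_facts s 2 0).2.2.2.1]

theorem WC_vact {a : Fin 64} {k : G} (h : F.toMid.WC a k) : F.toMid.VAct k id id := by
  obtain ⟨hz, hv⟩ := F.WC_cent h
  refine ⟨fun s => Mid.id_pair hz hv s, fun b => ⟨B4 false true a b, ?_⟩⟩
  have e := F.toMid.WC_comm h (F.toMid.WC_self b)
  rw [F.hd, F.r_true] at e
  rw [e]
  calc S.zc (B4 false true a b) * (F.toMid.rW b * k) * k⁻¹ = S.zc (B4 false true a b) * F.toMid.rW b := by group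
    _ = _ := (Mid.zc_central _ (F.toMid.rW_cent b).1 (F.toMid.rW_cent b).2).symm

/-- THE STABILISER of `e` modulo the pair. -/
theorem fix_e {k : G} (hz : k * S.z = S.z * k) (hv : k * S.v = S.v * k) (h : F.toMid.WC 8 (k * S.e * k⁻¹)) :
    ∃ a, F.toMid.WC a k := by
  obtain ⟨s', hs'⟩ := F.toMid.WC_e
  obtain ⟨s, hs⟩ := h
  have hcen : ∀ {g : G}, g * S.z = S.z * g → g * S.v = S.v * g → ∀ d, g * S.zc d = S.zc d * g :=
    fun h1 h2 d => Mid.zc_central d h1 h2
  have e1 : k * S.e * k⁻¹ = S.zc (x4 s' s) * S.e := by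
    have hr8 : F.toMid.rW 8 = S.e * S.zc s' := by
      rw [hs', mul_assoc, Mid.zc_mul, (x4_facts s' 0 0).1, Mid.zc_zero, mul_one]
    rw [hs, hr8, mul_assoc, Mid.zc_mul, Mid.zc_central _ S.e_z (S.e_ψ _)]
  obtain ⟨a, ha⟩ := w_facts.1 (x4 s' s)
  have hw := F.toMid.WC_self a
  obtain ⟨hwz, hwv⟩ := F.WC_cent hw
  have e2 := F.toMid.WC_comm hw F.toMid.WC_e
  rw [F.hd, F.r_true, ha] at e2
  set w := F.toMid.rW a
  have e3 : w * S.e * w⁻¹ = S.zc (x4 s' s) * S.e := by
    rw [e2]; group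
  set m0 := w⁻¹ * k with hm0
  have hme : m0 * S.e = S.e * m0 := by
    calc m0 * S.e = w⁻¹ * (k * S.e * k⁻¹) * k := by rw [hm0]; group
      _ = w⁻¹ * (w * S.e * w⁻¹) * k := by rw [e1, e3]
      _ = S.e * m0 := by rw [hm0]; group
  have hmz : m0 * S.z = S.z * m0 := S.cz_mul (S.cz_inv hwz) hz
  have hmv : m0 * S.v = S.v * m0 := Commute.mul_left (Commute.inv_left hwv) hv
  obtain ⟨m, hm⟩ := S.cent_ez hme hmz
  obtain ⟨i, hm⟩ : ∃ i, m0 = S.E i * S.ψ m := by
    rcases hm with h | h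
    · exact ⟨false, by simp [Setup.E, h]⟩
    · exact ⟨true, h⟩
  have hK : inK m = true := by
    refine (inK_iff m).2 ?_
    rw [hm] at hmv
    have h1 : S.E i * S.ψ (m * a6) = S.E i * S.ψ (a6 * m) := by
      rw [map_mul, map_mul, ← mul_assoc, ← mul_assoc, show S.ψ a6 = S.v from rfl, hmv, ← mul_assoc]
      congr 1
      exact (S.E_ψ i a6).symm
    exact (S.Eψ_inj h1).2
  obtain ⟨b, d, hb⟩ := wC_cover i false false m hK
  simp only [Prod.mk.injEq] at hb
  have hWb : F.toMid.WC b m0 := by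
    refine ⟨d, ?_⟩
    rw [F.toMid.rW_zc, ← hb.1, ← hb.2.1, ← hb.2.2.1, ← hb.2.2.2, hm]
    simp [Mid.ev4, Twist.W, Mid.H]
  refine ⟨x6 a b, ?_⟩
  have := F.toMid.WC_mul hw hWb
  rwa [hm0, mul_inv_cancel_left] at this

theorem exists_lifts : ∃ l : Fin 8 → G, ∀ i, F.toMid.VAct (l i) id (tU i) := by
  obtain ⟨-, s, -, -, -, hs⟩ := F.toMid.cases_s
  obtain ⟨τ', t', hd', htt, hττ⟩ := F.toMid.VAct_inv dT_facts.1 F.toMid.d_act
  have ht' : t' = fun a => lf (dV false) (lf (dV false) a) := funext fun a => by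
    have h1 : ∀ b c, lf (dV false) b = lf (dV false) c → b = c := fun b c h => by
      rw [← d_cube false b, ← d_cube false c, h]
    have := htt a
    rw [F.hd] at this
    exact h1 _ _ (this.trans (d_cube false a).symm)
  have hτ1 : dT ∘ id ∘ τ' = id := funext hττ
  have hτ2 : τ' ∘ id ∘ dT = id := funext fun a => dT_facts.1.1 (hττ (dT a))
  have hA := F.toMid.d_act.comp (hs.comp hd')
  rw [hτ1] at hA
  have hB := hd'.comp (hs.comp F.toMid.d_act)
  rw [hτ2] at hB
  rw [F.hd, ht'] at hA hB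
  rw [F.hd] at hs
  have hp : ∀ (b : Bool) {g : G} {t : Fin 64 → Fin 64}, F.toMid.VAct g id t →
      F.toMid.VAct (bif b then g else 1) id (pu b t) := fun b g t h => by
    cases b
    · exact F.toMid.one_vact
    · exact h
  exact ⟨_, fun i => (hp (i.val.testBit 0) hs).comp ((hp (i.val.testBit 1) hA).comp (hp (i.val.testBit 2) hB))⟩

/-- chosen lifts -/
noncomputable def lU (i : Fin 8) : G := F.exists_lifts.choose i

theorem act_lU (i : Fin 8) : F.toMid.VAct (F.lU i) id (tU i) := F.exists_lifts.choose_spec i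

theorem vunits {k l : G} {τ τ' : Fin 4 → Fin 4} {t t' : Fin 64 → Fin 64} (h : F.toMid.VAct k τ t)
    (h' : F.toMid.VAct l τ' t') (hu : units t = units t') : t = t' := by
  rw [lin_lf h.map_add, lin_lf h'.map_add]
  exact congrArg lf hu

theorem vuniq {k : G} {τ τ' : Fin 4 → Fin 4} {t t' : Fin 64 → Fin 64} (h : F.toMid.VAct k τ t)
    (h' : F.toMid.VAct k τ' t') : t = t' := funext fun a => F.toMid.WC_inj (h.2 a) (h'.2 a)

theorem vact_injective {k : G} {t : Fin 64 → Fin 64} (h : F.toMid.VAct k id t) : Function.Injective t := by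
  obtain ⟨τ', t', h', htt, -⟩ := F.toMid.VAct_inv Function.bijective_id h
  exact Finite.injective_iff_surjective.2 fun a => ⟨t' a, htt a⟩

/-- THE NORMALISER modulo the pair. -/
theorem classify {k : G} {t : Fin 64 → Fin 64} (h : F.toMid.VAct k id t) :
    ∃ i a, F.toMid.WC a ((F.lU i)⁻¹ * k) ∧ t = tU i := by
  have hq : q4 false true (t 8) = 0 := by
    have := h.q 8
    rw [F.hd, F.r_true, w_facts.2.2.2] at this
    exact this
  obtain ⟨hkz, hkv⟩ := F.vact_cent h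
  rcases u_orbit _ hq with ⟨i, hi⟩ | ⟨i, hi0, hi⟩
  · obtain ⟨hlz, hlv⟩ := F.vact_cent (F.act_lU i)
    obtain ⟨τ', t', hl', htt, hττ⟩ := F.toMid.VAct_inv Function.bijective_id (F.act_lU i)
    have hτ : τ' = id := funext hττ
    subst hτ
    have hm := hl'.comp h
    have h8 : F.toMid.WC 8 ((F.lU i)⁻¹ * k * S.e * ((F.lU i)⁻¹ * k)⁻¹) := by
      have := hm.conj F.toMid.WC_e
      rwa [Function.comp_apply, show t' (t 8) = 8 from F.vact_injective (F.act_lU i) (by rw [htt, hi])] at this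
    obtain ⟨a, ha⟩ := F.fix_e (S.cz_mul (S.cz_inv hlz) hkz) (Commute.mul_left (Commute.inv_left hlv) hkv) h8
    refine ⟨i, a, ha, ?_⟩
    have := (F.act_lU i).comp (F.WC_vact ha)
    rw [mul_inv_cancel_left] at this
    exact F.vuniq h this
  · exfalso
    obtain ⟨hlz, hlv⟩ := F.vact_cent (F.act_lU i)
    obtain ⟨τ', t', hk', htt, hττ⟩ := F.toMid.VAct_inv Function.bijective_id h
    have hτ : τ' = id := funext hττ
    subst hτ
    have hm := hk'.comp ((F.act_lU i).comp h)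
    have h8 : F.toMid.WC 8 (k⁻¹ * (F.lU i * k) * S.e * (k⁻¹ * (F.lU i * k))⁻¹) := by
      have := hm.conj F.toMid.WC_e
      rwa [Function.comp_apply, Function.comp_apply, hi,
        show t' (t 8) = 8 from F.vact_injective h (htt _)] at this
    obtain ⟨a, ha⟩ := F.fix_e (S.cz_mul (S.cz_inv hkz) (S.cz_mul hlz hkz))
      (Commute.mul_left (Commute.inv_left hkv) (Commute.mul_left hlv hkv)) h8
    have hl : F.toMid.VAct (F.lU i) id (tU i ∘ id) := F.act_lU i
    have := (h.comp (F.WC_vact ha)).comp hk'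
    rw [show k * (k⁻¹ * (F.lU i * k)) * k⁻¹ = F.lU i by group] at this
    have e : tU i = t ∘ t' := F.vuniq (F.act_lU i) this
    refine u_basic.2.1 i hi0 ?_
    rw [e, Function.comp_apply, htt]

/-- the Sylow subgroup of the centraliser of the pair -/
def U : Subgroup G where
  carrier := {k | ∃ t, F.toMid.VAct k id t}
  one_mem' := ⟨id, F.toMid.one_vact⟩
  mul_mem' := fun {a b} ⟨t, h⟩ ⟨t', h'⟩ => ⟨t ∘ t', h.comp h'⟩
  inv_mem' := fun {a} ⟨t, h⟩ => by
    obtain ⟨τ', t', h', -, hττ⟩ := F.toMid.VAct_inv Function.bijective_id h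
    exact ⟨t', (funext hττ : τ' = id) ▸ h'⟩

theorem card_U : Nat.card ↥F.U = 2048 := by
  let f : Fin 8 × Fin 64 × Fin 4 → ↥F.U := fun x => ⟨F.lU x.1 * (F.toMid.rW x.2.1 * S.zc x.2.2),
    tU x.1 ∘ id, (F.act_lU x.1).comp (F.WC_vact ⟨x.2.2, rfl⟩)⟩
  have hf : Function.Bijective f := by
    constructor
    · rintro ⟨i, a, s⟩ ⟨j, b, t⟩ e
      have e' : F.lU i * (F.toMid.rW a * S.zc s) = F.lU j * (F.toMid.rW b * S.zc t) := congrArg Subtype.val e
      have h1 := (F.act_lU i).comp (F.WC_vact (a := a) (k := F.toMid.rW a * S.zc s) ⟨s, rfl⟩)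
      rw [e'] at h1
      have h2 := (F.act_lU j).comp (F.WC_vact (a := b) (k := F.toMid.rW b * S.zc t) ⟨t, rfl⟩)
      have hij : i = j := u_basic.2.2 i j (congrArg units (F.vuniq h1 h2 : tU i = tU j))
      subst hij
      have e2 := mul_left_cancel e'
      have hab := F.toMid.WC_inj (a := a) (b := b) ⟨s, rfl⟩ ⟨t, e2⟩
      subst hab
      rw [Mid.zc_inj (mul_left_cancel e2)]
    · rintro ⟨k, t, hk⟩
      obtain ⟨i, a, ⟨s, hs⟩, -⟩ := F.classify hk
      exact ⟨(i, a, s), Subtype.ext (by show F.lU i * (F.toMid.rW a * S.zc s) = k; rw [← hs, mul_inv_cancel_left])⟩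
  rw [← Nat.card_congr (Equiv.ofBijective f hf), Nat.card_prod, Nat.card_prod, Nat.card_fin, Nat.card_fin, Nat.card_fin]

theorem U_two : IsPGroup 2 ↥F.U := IsPGroup.of_card (n := 11) (by rw [F.card_U]; rfl)

/-- the centraliser of the pair -/
def X (_ : Wr S) : Subgroup G := centralizer {S.z, S.v}

theorem mem_X {k : G} : k ∈ F.X ↔ k * S.z = S.z * k ∧ k * S.v = S.v * k := by
  show k ∈ centralizer {S.z, S.v} ↔ _
  rw [mem_centralizer_iff]
  constructor
  · intro h; exact ⟨(h S.z (by simp)).symm, (h S.v (by simp)).symm⟩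
  · rintro ⟨h1, h2⟩ g hg
    rcases hg with rfl | rfl
    · exact h1.symm
    · exact h2.symm

theorem U_le : F.U ≤ F.X := fun _ ⟨_, h⟩ => F.mem_X.2 (F.vact_cent h)

/-- THE SUBGROUP is its own normaliser. -/
theorem U_self {g : G} (hg : g ∈ F.X) (hn : ∀ x ∈ F.U, g * x * g⁻¹ ∈ F.U) : g ∈ F.U := by
  obtain ⟨hgz, hgv⟩ := F.mem_X.1 hg
  have hninv : ∀ x ∈ F.U, g⁻¹ * x * g ∈ F.U := by
    let c : ↥F.U → ↥F.U := fun x => ⟨g * x.1 * g⁻¹, hn _ x.2⟩
    have hc : Function.Injective c := fun x y h =>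
      Subtype.ext (mul_left_cancel (mul_right_cancel (congrArg Subtype.val h)))
    intro x hx
    obtain ⟨y, hy⟩ := Finite.injective_iff_surjective.1 hc ⟨x, hx⟩
    have : g * y.1 * g⁻¹ = x := congrArg Subtype.val hy
    rw [← this, show g⁻¹ * (g * y.1 * g⁻¹) * g = y.1 by group]
    exact y.2
  have heU : S.e ∈ F.U := ⟨id, F.WC_vact F.toMid.WC_e⟩
  set u := g * S.e * g⁻¹ with hu
  obtain ⟨t, hut⟩ := hn _ heU
  obtain ⟨i, a, ha, hti⟩ := F.classify hut
  by_cases hi : i = 0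
  · subst hi
    have hid : t = id := by rw [hti]; exact F.vunits (F.act_lU 0) F.toMid.one_vact u_basic.1
    have hcl : ∀ y, F.toMid.VAct y id id → ∃ b, F.toMid.WC b y := fun y hy =>
      F.fix_e (F.vact_cent hy).1 (F.vact_cent hy).2 (hy.conj F.toMid.WC_e)
    obtain ⟨c, hc⟩ := hcl u (hid ▸ hut)
    -- the conjugate centralises the group modulo the pair
    have hback : ∀ b, ∃ b', F.toMid.WC b' (g⁻¹ * F.toMid.rW b * g) := fun b => by
      have hy : g⁻¹ * F.toMid.rW b * g ∈ F.U := hninv _ ⟨id, F.WC_vact (F.toMid.WC_self b)⟩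
      obtain ⟨hyz, hyv⟩ := F.mem_X.1 (F.U_le hy)
      refine F.fix_e hyz hyv ?_
      obtain ⟨d, hd⟩ : ∃ d, F.toMid.rW b * u * (F.toMid.rW b)⁻¹ = S.zc d * u := by
        refine ⟨B4 false true b c, ?_⟩
        have e := F.toMid.WC_comm (F.toMid.WC_self b) hc
        rw [F.hd, F.r_true] at e
        rw [e]; group
      refine ⟨x4 (F.toMid.WC_e).choose d, ?_⟩
      have hch := (F.toMid.WC_e).choose_spec
      calc g⁻¹ * F.toMid.rW b * g * S.e * (g⁻¹ * F.toMid.rW b * g)⁻¹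
          = g⁻¹ * (F.toMid.rW b * u * (F.toMid.rW b)⁻¹) * g := by rw [hu]; group
        _ = (g⁻¹ * S.zc d * g) * S.e := by rw [hd, hu]; group
        _ = S.zc d * S.e := by rw [mul_assoc g⁻¹, ← Mid.zc_central d hgz hgv, inv_mul_cancel_left]
        _ = _ := by
          rw [← Mid.zc_mul, ← mul_assoc, ← hch, Mid.zc_central d S.e_z (S.e_ψ _)]
    choose φ hφ using hback
    have hinj : Function.Injective φ := fun b b' e => by
      obtain ⟨s, hs⟩ := hφ b
      obtain ⟨s', hs'⟩ := hφ b'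
      rw [← e] at hs'
      have h1 : F.toMid.rW b = F.toMid.rW b' * S.zc (x4 s' s) := by
        have hw : F.toMid.rW (φ b) = g⁻¹ * F.toMid.rW b' * g * S.zc s' := by
          rw [hs', mul_assoc, Mid.zc_mul, (x4_facts s' 0 0).1, Mid.zc_zero, mul_one]
        calc F.toMid.rW b = g * (g⁻¹ * F.toMid.rW b * g) * g⁻¹ := by group
          _ = g * (g⁻¹ * F.toMid.rW b' * g * S.zc s' * S.zc s) * g⁻¹ := by rw [hs, hw]
          _ = F.toMid.rW b' * (g * S.zc (x4 s' s) * g⁻¹) := by rw [← Mid.zc_mul]; group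
          _ = _ := by rw [mul_inv_eq_iff_eq_mul.2 (Mid.zc_central _ hgz hgv)]
      exact F.toMid.WC_inj (F.toMid.WC_self b) ⟨_, h1⟩
    choose ψ' hψ' using Finite.injective_iff_surjective.1 hinj
    refine ⟨ψ', fun s => Mid.id_pair hgz hgv s, fun b => ?_⟩
    obtain ⟨s, hs⟩ := hφ (ψ' b)
    rw [hψ' b] at hs
    refine ⟨s, ?_⟩
    have hsg : g * S.zc s * g⁻¹ = S.zc s := mul_inv_eq_iff_eq_mul.2 (Mid.zc_central _ hgz hgv)
    have hw : F.toMid.rW b = g⁻¹ * F.toMid.rW (ψ' b) * g * S.zc s := by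
      rw [hs, mul_assoc, Mid.zc_mul, (x4_facts s 0 0).1, Mid.zc_zero, mul_one]
    calc g * F.toMid.rW b * g⁻¹ = F.toMid.rW (ψ' b) * (g * S.zc s * g⁻¹) := by rw [hw]; group
      _ = _ := by rw [hsg]
  · exfalso
    obtain ⟨j, x, hjx⟩ := u_derived i hi
    refine hjx ?_
    set l := F.lU j
    set w := F.toMid.rW x
    set m := l * w * l⁻¹ * w⁻¹ with hm
    have hwc : F.toMid.WC x w⁻¹ := by
      refine ⟨q4 F.δ F.r x, inv_eq_of_mul_eq_one_right ?_⟩
      rw [← mul_assoc, F.toMid.WC_sq (F.toMid.WC_self x), Mid.zc_mul, (x4_facts _ 0 0).1, Mid.zc_zero]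
    have hmc : F.toMid.WC (dU j x) m := F.toMid.WC_mul ((F.act_lU j).2 x) hwc
    -- commutators of the normaliser centralise `e` modulo the pair
    have hm' : ∃ d, F.toMid.WC d (g⁻¹ * m * g) := by
      obtain ⟨t1, h1⟩ := hninv l ⟨_, F.act_lU j⟩
      obtain ⟨t2, h2⟩ := hninv w ⟨id, F.WC_vact (F.toMid.WC_self x)⟩
      obtain ⟨i1, -, -, e1⟩ := F.classify h1
      obtain ⟨i2, -, -, e2⟩ := F.classify h2
      have hmem : g⁻¹ * m * g ∈ F.U := hninv m ⟨id, F.WC_vact hmc⟩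
      obtain ⟨t3, h3⟩ := hmem
      have hc12 : t1 ∘ t2 = t2 ∘ t1 := by
        obtain ⟨k1, hk1, hu1⟩ := u_mul i1 i2
        obtain ⟨k2, hk2, hu2⟩ := u_mul i2 i1
        have hk : k1 = k2 := Fin.ext (by rw [hk1, hk2, Nat.xor_comm])
        rw [e1, e2]
        exact F.vunits ((F.act_lU i1).comp (F.act_lU i2)) ((F.act_lU i2).comp (F.act_lU i1))
          (by rw [hu1, hu2, hk])
      have h4 : F.toMid.VAct (g⁻¹ * l * g * (g⁻¹ * w * g)) id (t3 ∘ (t2 ∘ t1)) := by
        have := h3.comp (h2.comp h1)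
        rwa [show g⁻¹ * m * g * (g⁻¹ * w * g * (g⁻¹ * l * g)) = g⁻¹ * l * g * (g⁻¹ * w * g) by
          rw [hm]; group] at this
      have e := F.vuniq h4 (h1.comp h2)
      rw [hc12] at e
      have hbij : Function.Surjective (t2 ∘ t1) :=
        (Finite.injective_iff_surjective.1 (F.vact_injective (h2.comp h1) : Function.Injective (t2 ∘ t1)))
      have hid : t3 = id := funext fun b => by
        obtain ⟨c, rfl⟩ := hbij b
        exact congrFun e c
      subst hid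
      exact F.fix_e (F.vact_cent h3).1 (F.vact_cent h3).2 (h3.conj F.toMid.WC_e)
    obtain ⟨d, hd⟩ := hm'
    have hfix : ∃ s, u * m * u⁻¹ = m * S.zc s := by
      have h := F.toMid.WC_comm F.toMid.WC_e hd
      refine ⟨B4 F.δ F.r 8 d, ?_⟩
      have hzg : g * S.zc (B4 F.δ F.r 8 d) * g⁻¹ = S.zc (B4 F.δ F.r 8 d) :=
        mul_inv_eq_iff_eq_mul.2 (Mid.zc_central _ hgz hgv)
      have hzm : m * S.zc (B4 F.δ F.r 8 d) = S.zc (B4 F.δ F.r 8 d) * m :=
        Mid.zc_central _ (F.WC_cent hmc).1 (F.WC_cent hmc).2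
      calc u * m * u⁻¹ = g * (S.e * (g⁻¹ * m * g)) * S.e⁻¹ * g⁻¹ := by rw [hu]; group
        _ = g * S.zc (B4 F.δ F.r 8 d) * g⁻¹ * m := by rw [h]; group
        _ = _ := by rw [hzg, hzm]
    obtain ⟨s, hs⟩ := hfix
    have h1 := hut.conj hmc
    rw [hs, hti] at h1
    have h2 := F.toMid.WC_mul hmc (F.toMid.WC_zero s)
    rw [(x6_zero _).2] at h2
    exact F.toMid.WC_inj h1 h2

/-- THE SUBGROUP has odd index in the centraliser of the pair. -/
theorem U_index : ¬ 2 ∣ (F.U.subgroupOf F.X).index := by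
  intro h
  haveI : Fact (Nat.Prime 2) := ⟨Nat.prime_two⟩
  set V := F.U.subgroupOf F.X
  have hcard : Nat.card ↥V = 2 ^ 11 := by
    rw [Nat.card_congr (Subgroup.subgroupOfEquivOfLe F.U_le).toEquiv, F.card_U]; rfl
  have hd : 2 ^ (11 + 1) ∣ Nat.card ↥F.X := by
    rw [← V.card_mul_index, hcard]
    exact mul_dvd_mul (dvd_refl (2 ^ 11)) h
  obtain ⟨K, hK, hle⟩ := Sylow.exists_subgroup_card_pow_succ hd hcard
  have hidx : (V.subgroupOf K).index = 2 := by
    have h1 := (V.subgroupOf K).card_mul_index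
    rw [Nat.card_congr (Subgroup.subgroupOfEquivOfLe hle).toEquiv, hcard, hK] at h1
    omega
  have hn := Subgroup.normal_of_index_eq_two hidx
  obtain ⟨y, hyK, hyV⟩ : ∃ y ∈ K, y ∉ V := by
    by_contra hh
    push Not at hh
    have h1 : Nat.card ↥V = Nat.card ↥K := by rw [le_antisymm hle hh]
    rw [hcard, hK] at h1
    omega
  refine hyV (Subgroup.mem_subgroupOf.2 (F.U_self y.2 fun x hx => ?_))
  have hxV : (⟨x, F.U_le hx⟩ : ↥F.X) ∈ V := Subgroup.mem_subgroupOf.2 hx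
  exact hn.conj_mem ⟨⟨x, F.U_le hx⟩, hle hxV⟩ hxV ⟨y, hyK⟩

end Wr

end Cfsg.Lib.CoThreeM
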