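/-
In the wreathed configuration `e f` is not conjugate to `v` in the centraliser of `z`.
-/
import Cfsg.Agent.CoThreeM.WreathU

set_option autoImplicit false
set_option linter.unusedSectionVars false
set_option linter.style.haveILetI false
set_option maxRecDepth 10000

namespace Cfsg.Lib.CoThreeM

open Subgroup Cfsg.Lib.M12Cent

universe u

variable {G : Type u} [Group G] [Finite G] {S : Setup G}

namespace Wr

variable (F : Wr S)

/-- the product of `e` and `f` -/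
def φ : G := F.toFlip.rR 24

theorem RC_act {a : Fin 64} {x : G} (h : F.toFlip.RC a x) : F.toFlip.Act x id := by
  refine ⟨F.toFlip.RC_z h, fun b => ⟨B6 a b, mul_inv_eq_iff_eq_mul.2 ?_⟩⟩
  rw [F.toFlip.RC_comm h (F.toFlip.RC_self b), ← mul_assoc, ← F.toFlip.tC_central _ _ (F.toFlip.rR_z b)]
  rfl

theorem RC_comm_phi {a : Fin 64} {x : G} (h : F.toFlip.RC a x) : B6 a 24 = false ↔ x * F.φ = F.φ * x := by
  have e := F.toFlip.RC_comm h (F.toFlip.RC_self 24)
  constructor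
  · intro hb
    rw [hb, F.toFlip.ev_tC] at e
    simpa [pw, φ] using e
  · intro hc
    cases hb : B6 a 24
    · rfl
    exfalso
    rw [hb, F.toFlip.ev_tC] at e
    change x * F.φ = S.z * (F.φ * x) at e
    rw [hc] at e
    exact S.z_ne (mul_eq_right.1 e.symm)

theorem units_act {k l : G} {t t' : Fin 64 → Fin 64} (h : F.toFlip.Act k t) (h' : F.toFlip.Act l t')
    (hu : units t = units t') : t = t' := by
  rw [lin_lf h.map_add, lin_lf h'.map_add]
  exact congrArg lf hu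

theorem exists_adjust (i : Fin 32) : ∃ k, F.toFlip.Act k (tP i) ∧ k * F.φ = F.φ * k := by
  obtain ⟨g, hg⟩ := F.toMid.exists_table
  rw [F.hd] at hg
  obtain ⟨-, hlen, hlt, -, -, h24⟩ := p32_basic
  obtain ⟨k, hk⟩ := hg (p32.getD i.val 0) (by
    show _ < grpW.length
    rw [hlen]; exact hlt i)
  change F.toFlip.Act k (tP i) at hk
  obtain ⟨c, hc⟩ := hk.2 24
  rw [h24 i] at hc
  cases c
  · refine ⟨k, hk, mul_inv_eq_iff_eq_mul.1 ?_⟩
    rw [φ, hc, F.toFlip.ev_tC]; simp [pw]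
  · refine ⟨k * S.e, hk.comp (F.RC_act F.toFlip.RC_e), mul_inv_eq_iff_eq_mul.1 ?_⟩
    have he : S.e * F.φ * S.e⁻¹ = S.z * F.φ := by
      have e := F.toFlip.RC_comm F.toFlip.RC_e (F.toFlip.RC_self 24)
      rw [phi_facts.2.1, F.toFlip.ev_tC] at e
      change S.e * F.φ = S.z * (F.φ * S.e) at e
      rw [e]; group
    calc k * S.e * F.φ * (k * S.e)⁻¹ = k * (S.e * F.φ * S.e⁻¹) * k⁻¹ := by group
      _ = k * S.z * k⁻¹ * (k * F.φ * k⁻¹) := by rw [he]; group
      _ = S.z * (F.φ * S.z) := by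
        rw [mul_inv_eq_iff_eq_mul.2 hk.1]
        congr 1
        rw [φ, hc, F.toFlip.ev_tC]; rfl
      _ = F.φ := by rw [φ, F.toFlip.rR_z, ← mul_assoc, S.zz, one_mul]

/-- a Sylow subgroup of the stabiliser of `e f` in the normaliser of `R` -/
def P : Subgroup G where
  carrier := {g | ∃ i, F.toFlip.Act g (tP i) ∧ g * F.φ = F.φ * g}
  one_mem' := ⟨0, by
    have h := F.toFlip.one_act
    obtain ⟨k, hk, -⟩ := F.exists_adjust 0
    rwa [F.units_act hk h p32_basic.2.2.2.1], by simp⟩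
  mul_mem' := fun {a b} ⟨i, ha, ha'⟩ ⟨j, hb, hb'⟩ => by
    obtain ⟨k, hk, -⟩ := F.exists_adjust (p32M i j)
    refine ⟨p32M i j, ?_, Commute.mul_left ha' hb'⟩
    rw [← F.units_act (ha.comp hb) hk (p32_mul i j)]
    exact ha.comp hb
  inv_mem' := fun {a} ⟨i, ha, ha'⟩ => by
    have hpow : ∀ n : ℕ, ∃ j, F.toFlip.Act (a ^ (n + 1)) (tP j) ∧ a ^ (n + 1) * F.φ = F.φ * a ^ (n + 1) := by
      intro n
      induction n with
      | zero => rw [pow_one]; exact ⟨i, ha, ha'⟩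
      | succ n ih =>
        obtain ⟨j, hj, hj'⟩ := ih
        obtain ⟨k, hk, -⟩ := F.exists_adjust (p32M j i)
        rw [pow_succ _ (n + 1)]
        refine ⟨p32M j i, ?_, Commute.mul_left hj' ha'⟩
        rw [← F.units_act (hj.comp ha) hk (p32_mul j i)]
        exact hj.comp ha
    have hinv : a⁻¹ = a ^ (2 * orderOf a - 1) := by
      refine inv_eq_of_mul_eq_one_right ?_
      have hp := orderOf_pos a
      rw [← pow_succ', show 2 * orderOf a - 1 + 1 = orderOf a * 2 by omega, pow_mul, pow_orderOf_eq_one, one_pow]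
    obtain ⟨j, hj⟩ := hpow (2 * orderOf a - 2)
    have hp := orderOf_pos a
    rw [show 2 * orderOf a - 2 + 1 = 2 * orderOf a - 1 by omega, ← hinv] at hj
    exact ⟨j, hj⟩

/-- the centraliser of `e f` in `R` -/
def Rphi : Subgroup G where
  carrier := {x | ∃ a, B6 a 24 = false ∧ F.toFlip.RC a x}
  one_mem' := ⟨0, by decide +kernel, F.toFlip.RC_one⟩
  mul_mem' := fun {x y} ⟨a, ha, hx⟩ ⟨b, hb, hy⟩ => ⟨x6 a b, by rw [phi_facts.2.2.2.2.2, ha, hb]; rfl,
    F.toFlip.RC_mul hx hy⟩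
  inv_mem' := fun {x} ⟨a, ha, hx⟩ => ⟨a, ha, F.toFlip.RC_inv hx⟩

theorem Rphi_le : F.Rphi ≤ F.P := by
  rintro x ⟨a, ha, hx⟩
  refine ⟨0, ?_, (F.RC_comm_phi hx).1 ha⟩
  obtain ⟨k, hk, -⟩ := F.exists_adjust 0
  rw [F.units_act hk F.toFlip.one_act p32_basic.2.2.2.1]
  exact F.RC_act hx

theorem Rphi_norm {g : G} (hg : g ∈ F.P) {x : G} (hx : x ∈ F.Rphi) : g * x * g⁻¹ ∈ F.Rphi := by
  obtain ⟨i, hA, -⟩ := hg
  obtain ⟨a, ha, hx⟩ := hx
  refine ⟨tP i a, ?_, hA.conj hx⟩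
  rw [← p32_basic.2.2.2.2.2 i, hA.B, ha]

theorem card_Rphi : Nat.card ↥F.Rphi = 64 := by
  let f : {a : Fin 64 // B6 a 24 = false} × Bool → ↥F.Rphi := fun p =>
    ⟨F.toFlip.rR p.1.1 * F.toFlip.ev (tC p.2), p.1.1, p.1.2, p.2, rfl⟩
  have hf : Function.Bijective f := by
    constructor
    · rintro ⟨⟨a, ha⟩, c⟩ ⟨⟨b, hb⟩, d⟩ e
      have e' : F.toFlip.rR a * F.toFlip.ev (tC c) = F.toFlip.rR b * F.toFlip.ev (tC d) := congrArg Subtype.val e
      have hab := F.toFlip.RC_inj (a := a) (b := b) ⟨c, rfl⟩ ⟨d, e'⟩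
      subst hab
      have e2 := F.toFlip.ev_inj (mul_left_cancel e')
      cases c <;> cases d <;> first | rfl | exact absurd e2 (by decide +kernel)
    · rintro ⟨x, a, ha, c, rfl⟩
      exact ⟨(⟨a, ha⟩, c), rfl⟩
  rw [← Nat.card_congr (Equiv.ofBijective f hf), Nat.card_prod, Nat.card_eq_fintype_card, Fintype.card_subtype,
    phi_facts.2.2.2.2.1]
  simp

theorem card_P : Nat.card ↥F.P = 2048 := by
  choose l hl hlφ using F.exists_adjust
  let f : Fin 32 × ↥F.Rphi → ↥F.P := fun p =>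
    ⟨l p.1 * p.2.1, F.P.mul_mem ⟨p.1, hl p.1, hlφ p.1⟩ (F.Rphi_le p.2.2)⟩
  have hid : ∀ x : ↥F.Rphi, F.toFlip.Act x.1 id := fun ⟨x, a, _, hx⟩ => F.RC_act hx
  have hf : Function.Bijective f := by
    constructor
    · rintro ⟨i, x⟩ ⟨j, y⟩ e
      have e' : l i * x.1 = l j * y.1 := congrArg Subtype.val e
      have h1 := (hl i).comp (hid x)
      rw [e'] at h1
      have hij : i = j := tP_inj i j (congrArg units (h1.unique ((hl j).comp (hid y))))
      subst hij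
      exact Prod.ext rfl (Subtype.ext (mul_left_cancel e'))
    · rintro ⟨g, i, hg, hgφ⟩
      obtain ⟨t', ht', htt⟩ := (hl i).inv
      have hA := ht'.comp hg
      have hcomp : t' ∘ tP i = id := funext fun a => (hl i).injective (htt (tP i a))
      rw [hcomp] at hA
      obtain ⟨a, ha⟩ := F.toMid.act_id_mem hA
      have hc : (l i)⁻¹ * g * F.φ = F.φ * ((l i)⁻¹ * g) := Commute.mul_left (Commute.inv_left (hlφ i)) hgφ
      exact ⟨(i, ⟨(l i)⁻¹ * g, a, (F.RC_comm_phi ha).2 hc, ha⟩), Subtype.ext (mul_inv_cancel_left _ _)⟩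
  rw [← Nat.card_congr (Equiv.ofBijective f hf), Nat.card_prod, Nat.card_fin, F.card_Rphi]

/-- THE CONTRADICTION in the group modulo the pair. -/
theorem no_image {g : G} (hgz : g * S.z = S.z * g) (hgv : g * F.φ * g⁻¹ = S.v)
    (hU : ∀ x ∈ F.U, g⁻¹ * x * g ∈ F.P) (hP : ∀ x ∈ F.P, g * x * g⁻¹ ∈ F.U) : False := by
  classical
  set R := F.Rphi.map (MulAut.conj g).toMonoidHom with hR
  have hmem : ∀ r, r ∈ R ↔ g⁻¹ * r * g ∈ F.Rphi := by
    intro r
    constructor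
    · rintro ⟨x, hx, rfl⟩; simpa [mul_assoc] using hx
    · intro h; exact ⟨_, h, by simp [mul_assoc]⟩
  have hcardR : Nat.card ↥R = 64 := by
    rw [hR, card_map_of_injective (MulEquiv.injective _), F.card_Rphi]
  have hRU : ∀ r ∈ R, r ∈ F.U := fun r hr => by
    have := hP _ (F.Rphi_le ((hmem r).1 hr))
    rwa [show g * (g⁻¹ * r * g) * g⁻¹ = r by group] at this
  have hnorm : ∀ x ∈ F.U, ∀ r ∈ R, x * r * x⁻¹ ∈ R := fun x hx r hr => by
    rw [hmem, show g⁻¹ * (x * r * x⁻¹) * g = g⁻¹ * x * g * (g⁻¹ * r * g) * (g⁻¹ * x * g)⁻¹ by group]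
    exact F.Rphi_norm (hU x hx) ((hmem r).1 hr)
  have hgz' : g * S.z * g⁻¹ = S.z := mul_inv_eq_iff_eq_mul.2 hgz
  have hzR : S.z ∈ R := by
    refine ⟨S.z, ⟨0, by decide +kernel, F.toFlip.RC_zz⟩, ?_⟩
    simpa using hgz'
  have hvR : S.v ∈ R := ⟨F.φ, ⟨24, phi_facts.2.2.1, F.toFlip.RC_self 24⟩, by simpa using hgv⟩
  have hzc : ∀ s : Fin 4, S.zc s ∈ R := fun s => by
    rcases (by decide : ∀ s : Fin 4, s = 0 ∨ s = 1 ∨ s = 2 ∨ s = x4 1 2) s with rfl | rfl | rfl | rfl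
    · rw [Mid.zc_zero]; exact one_mem _
    · rw [Mid.zc_one]; exact hzR
    · rw [Mid.zc_two]; exact hvR
    · rw [← Mid.zc_mul, Mid.zc_one, Mid.zc_two]; exact mul_mem hzR hvR
  have htC : ∀ c : Bool, g * F.toFlip.ev (tC c) * g⁻¹ = 1 ∨ g * F.toFlip.ev (tC c) * g⁻¹ = S.z := fun c => by
    rw [F.toFlip.ev_tC]
    cases c
    · left; simp [pw]
    · right; exact hgz'
  have hcommR : ∀ r ∈ R, ∀ s ∈ R, r * s = s * r ∨ r * s = S.z * (s * r) := by
    rintro _ ⟨x, ⟨a, _, hx⟩, rfl⟩ _ ⟨y, ⟨b, _, hy⟩, rfl⟩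
    simp only [MulEquiv.coe_toMonoidHom, MulAut.conj_apply]
    have e := F.toFlip.RC_comm hx hy
    have e2 : g * x * g⁻¹ * (g * y * g⁻¹) = g * F.toFlip.ev (tC (B6 a b)) * g⁻¹ * (g * y * g⁻¹ * (g * x * g⁻¹)) := by
      calc g * x * g⁻¹ * (g * y * g⁻¹) = g * (x * y) * g⁻¹ := by group
        _ = _ := by rw [e]; group
    rcases htC (B6 a b) with h | h
    · left; rw [e2, h, one_mul]
    · right; rw [e2, h]
  have hsqR : ∀ r ∈ R, r * r = 1 ∨ r * r = S.z := by
    rintro _ ⟨x, ⟨a, _, hx⟩, rfl⟩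
    simp only [MulEquiv.coe_toMonoidHom, MulAut.conj_apply]
    rw [show g * x * g⁻¹ * (g * x * g⁻¹) = g * (x * x) * g⁻¹ by group, F.toFlip.RC_sq hx]
    exact htC _
  have hcentral : ∀ {c : Fin 64} {y : G}, y ∈ R → F.toMid.WC c y → (∀ r ∈ R, y * r = r * y) → c = 0 := by
    intro c y hy hyc hall
    obtain ⟨x, ⟨a, ha, hx⟩, rfl⟩ := hy
    simp only [MulEquiv.coe_toMonoidHom, MulAut.conj_apply] at hyc hall
    have hB : ∀ b, B6 b 24 = false → B6 a b = false := fun b hb => by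
      have h := hall (g * F.toFlip.rR b * g⁻¹) ⟨_, ⟨b, hb, F.toFlip.RC_self b⟩, rfl⟩
      have h' : x * F.toFlip.rR b = F.toFlip.rR b * x := by
        have := congrArg (fun u => g⁻¹ * u * g) h
        simpa [mul_assoc] using this
      cases hbb : B6 a b
      · rfl
      exfalso
      have e := F.toFlip.RC_comm hx (F.toFlip.RC_self b)
      rw [hbb, F.toFlip.ev_tC] at e
      change x * F.toFlip.rR b = S.z * (F.toFlip.rR b * x) at e
      rw [h'] at e
      exact S.z_ne (mul_eq_right.1 e.symm)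
    obtain ⟨d, rfl⟩ := hx
    have hzc0 : ∀ s, F.toMid.WC 0 (S.zc s) := fun s => F.toMid.WC_zero s
    refine F.toMid.WC_inj hyc ?_
    have hg2 : g * (F.toFlip.rR a * F.toFlip.ev (tC d)) * g⁻¹ =
        g * F.toFlip.rR a * g⁻¹ * (g * F.toFlip.ev (tC d) * g⁻¹) := by group
    rw [hg2]
    obtain ⟨s1, hs1⟩ : ∃ s, g * F.toFlip.rR a * g⁻¹ = S.zc s := by
      rcases phi_facts.2.2.2.1 a ha hB with rfl | rfl
      · refine ⟨0, ?_⟩
        rw [Flip.rR, rC_zero.1, F.toFlip.ev_tC, Mid.zc_zero]; simp [pw]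
      · exact ⟨2, by rw [Mid.zc_two]; exact hgv⟩
    obtain ⟨s2, hs2⟩ : ∃ s, g * F.toFlip.ev (tC d) * g⁻¹ = S.zc s := by
      rcases htC d with h | h
      · exact ⟨0, by rw [h, Mid.zc_zero]⟩
      · exact ⟨1, by rw [h, Mid.zc_one]⟩
    rw [hs1, hs2, Mid.zc_mul]
    exact hzc0 _
  let W : Finset (Fin 64) := Finset.univ.filter fun a => ∃ r ∈ R, F.toMid.WC a r
  have hW : ∀ a, a ∈ W ↔ ∃ r ∈ R, F.toMid.WC a r := fun a => by simp [W]
  have hWall : ∀ a ∈ W, ∀ s, F.toMid.rW a * S.zc s ∈ R := fun a ha s => by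
    obtain ⟨r, hr, s', hs'⟩ := (hW a).1 ha
    have h1 := mul_mem (mul_mem hr (hzc s')) (hzc s)
    rwa [hs', mul_assoc (F.toMid.rW a), Mid.zc_mul, (x4_facts s' 0 0).1, Mid.zc_zero, mul_one] at h1
  have hWR : ∀ a ∈ W, F.toMid.rW a ∈ R := fun a ha => by
    have := hWall a ha 0
    rwa [Mid.zc_zero, mul_one] at this
  have hWadd : ∀ a ∈ W, ∀ b ∈ W, x6 a b ∈ W := fun a ha b hb => (hW _).2
    ⟨_, mul_mem (hWR a ha) (hWR b hb), F.toMid.WC_mul (F.toMid.WC_self a) (F.toMid.WC_self b)⟩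
  have hiso : ∀ a ∈ W, isoZ a = true := fun a ha => by
    have e := F.toMid.WC_sq (F.toMid.WC_self a)
    rw [F.hd, F.r_true] at e
    rcases hsqR _ (hWR a ha) with h | h
    · rw [h] at e
      simp [isoZ, Mid.zc_inj (e.symm.trans (Mid.zc_zero (S := S)).symm)]
    · rw [h] at e
      simp [isoZ, Mid.zc_inj (e.symm.trans (Mid.zc_one (S := S)).symm)]
  have hWinv : ∀ i, ∀ a ∈ W, tU i a ∈ W := fun i a ha => (hW _).2
    ⟨_, hnorm _ ⟨_, F.act_lU i⟩ _ (hWR a ha), (F.act_lU i).2 a⟩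
  have hWd : ∀ i, ∀ a ∈ W, dU i a ∈ W := fun i a ha => hWadd _ (hWinv i a ha) _ ha
  have hclass : ∀ r ∈ R, ∃ i, F.toMid.VAct r id (tU i) := fun r hr => by
    obtain ⟨t, ht⟩ := hRU r hr
    obtain ⟨i, -, -, hti⟩ := F.classify ht
    exact ⟨i, hti ▸ ht⟩
  have hzero : ∀ r, F.toMid.VAct r id (tU 0) → ∃ a, F.toMid.WC a r := fun r hr => by
    rw [F.vunits (F.act_lU 0) F.toMid.one_vact u_basic.1] at hr
    exact F.fix_e (F.vact_cent hr).1 (F.vact_cent hr).2 (hr.conj F.toMid.WC_e)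
  have hdisp : ∀ i, ∀ r ∈ R, F.toMid.VAct r id (tU i) → ∀ m, dU i m ∈ W := fun i r hr hA m => by
    have hmU : F.toMid.rW m ∈ F.U := ⟨id, F.WC_vact (F.toMid.WC_self m)⟩
    have hinv : F.toMid.WC m (F.toMid.rW m)⁻¹ := by
      refine ⟨q4 F.δ F.r m, inv_eq_of_mul_eq_one_right ?_⟩
      rw [← mul_assoc, F.toMid.WC_sq (F.toMid.WC_self m), Mid.zc_mul, (x4_facts _ 0 0).1, Mid.zc_zero]
    refine (hW _).2 ⟨r * F.toMid.rW m * r⁻¹ * (F.toMid.rW m)⁻¹, ?_, F.toMid.WC_mul (hA.2 m) hinv⟩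
    rw [show r * F.toMid.rW m * r⁻¹ * (F.toMid.rW m)⁻¹ = r * (F.toMid.rW m * r⁻¹ * (F.toMid.rW m)⁻¹) by group]
    exact mul_mem hr (hnorm _ hmU _ (inv_mem hr))
  by_cases hall : ∀ r ∈ R, F.toMid.VAct r id (tU 0)
  · have hle : 64 ≤ W.card * 4 := by
      choose c hc using fun r : ↥R => hzero r.1 (hall r.1 r.2)
      choose s hs using hc
      have hinj : Function.Injective fun r : ↥R => ((⟨c r, (hW _).2 ⟨r.1, r.2, s r, hs r⟩⟩ : ↥W), s r) := by
        intro r r' e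
        obtain ⟨e1, e2⟩ := Prod.mk.injEq _ _ _ _ ▸ e
        exact Subtype.ext (by rw [hs r, hs r', Subtype.mk.inj e1, e2])
      have := Nat.card_le_card_of_injective _ hinj
      rw [hcardR, Nat.card_prod, Nat.card_eq_fintype_card (α := ↥W), Fintype.card_coe, Nat.card_fin] at this
      exact this
    obtain ⟨x, hxW, hx6⟩ : ∃ x ∈ W, inSix x = false := by
      by_contra hh
      push Not at hh
      have hsub : W ⊆ Finset.univ.filter fun x : Fin 64 => inSix x = true := fun x hx => by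
        simp only [Finset.mem_filter, Finset.mem_univ, true_and]
        exact (Bool.not_eq_false _).mp (hh x hx)
      have h6 : (Finset.univ.filter fun x : Fin 64 => inSix x = true).card = 6 := by decide +kernel
      have := Finset.card_le_card hsub
      omega
    obtain ⟨f, hfW, hf⟩ : ∃ f ∈ W, f = 40 ∨ f = 48 := by
      rcases u_central x hx6 with ⟨i, h⟩ | ⟨i, h⟩ | ⟨i, j, h⟩ | ⟨i, h⟩ | ⟨i, j, h⟩ | h | h
      · rw [hiso _ (hWinv i x hxW)] at h; exact absurd h (by decide)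
      · rw [hiso _ (hWd i x hxW)] at h; exact absurd h (by decide)
      · rw [hiso _ (hWd j _ (hWd i x hxW))] at h; exact absurd h (by decide)
      · exact ⟨_, hWd i x hxW, h⟩
      · exact ⟨_, hWd j _ (hWd i x hxW), h⟩
      · exact ⟨x, hxW, Or.inl h⟩
      · exact ⟨x, hxW, Or.inr h⟩
    have hf0 : f ≠ 0 := by rcases hf with rfl | rfl <;> decide
    refine hf0 (hcentral (hWR f hfW) (F.toMid.WC_self f) fun r hr => ?_)
    obtain ⟨b, hb⟩ := hzero r (hall r hr)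
    have hbW : b ∈ W := (hW b).2 ⟨r, hr, hb⟩
    have e := F.toMid.WC_comm (F.toMid.WC_self f) hb
    have hB : B4 false true f b = 0 := by
      rcases hf with rfl | rfl
      · exact (u_perp b).1 (hiso b hbW) (hiso _ (hWadd b hbW _ hfW))
      · exact (u_perp b).2 (hiso b hbW) (hiso _ (hWadd b hbW _ hfW))
    rw [F.hd, F.r_true, hB, Mid.zc_zero, one_mul] at e
    exact e
  · push Not at hall
    obtain ⟨r0, hr0, hn0⟩ := hall
    obtain ⟨i, hi⟩ := hclass r0 hr0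
    have hi0 : i ≠ 0 := fun h => hn0 (h ▸ hi)
    have hfix : ∀ a ∈ W, tU i a = a := fun a ha => by
      have h1 := hi.2 a
      rcases hcommR r0 hr0 _ (hWR a ha) with h | h
      · refine F.toMid.WC_inj h1 ?_
        rw [h, mul_inv_cancel_right]; exact F.toMid.WC_self a
      · refine F.toMid.WC_inj h1 ⟨1, ?_⟩
        rw [h, Mid.zc_one, (F.toMid.rW_cent a).1]; group
    have hok : ∀ a ∈ W, okU i a = true := fun a ha => by
      simp only [okU, Bool.and_eq_true, beq_iff_eq, List.all_eq_true]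
      exact ⟨hfix a ha, fun m _ => hiso _ (hWadd _ (hdisp i r0 hr0 hi m) _ ha)⟩
    have hab : ∀ a ∈ W, ∀ b ∈ W, F.toMid.rW a * F.toMid.rW b = F.toMid.rW b * F.toMid.rW a := fun a ha b hb => by
      have e := F.toMid.WC_comm (F.toMid.WC_self a) (F.toMid.WC_self b)
      rw [F.hd, F.r_true, u_iso i hi0 a b (hok a ha) (hok b hb), Mid.zc_zero, one_mul] at e
      exact e
    have hact : ∀ (k : G) (j : Fin 8), F.toMid.VAct k id (tU j) → ∀ (a : Fin 64) (s : Fin 4),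
        F.toMid.VAct (k * (F.toMid.rW a * S.zc s)) id (tU j) := fun k j h a s =>
      h.comp (F.WC_vact (a := a) ⟨s, rfl⟩)
    have honly : ∀ r ∈ R, F.toMid.VAct r id (tU 0) ∨ F.toMid.VAct r id (tU i) := by
      intro r hr
      obtain ⟨j, hj⟩ := hclass r hr
      by_cases hj0 : j = 0
      · exact Or.inl (hj0 ▸ hj)
      by_cases hji : j = i
      · exact Or.inr (hji ▸ hj)
      exfalso
      obtain ⟨k, hk0, hk6, q, hq, hqA⟩ : ∃ k : Fin 8, k ≠ 0 ∧ k ≠ 6 ∧ ∃ q ∈ R, F.toMid.VAct q id (tU k) := by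
        by_cases hi6 : i = 6
        · exact ⟨j, hj0, fun h => hji (h.trans hi6.symm), r, hr, hj⟩
        · exact ⟨i, hi0, hi6, r0, hr0, hi⟩
      have h8 : 8 ≤ W.card := by
        rcases u_small k hk0 hk6 with ⟨m, hm⟩ | h
        · rw [hiso _ (hdisp k q hq hqA m)] at hm; exact absurd hm (by decide)
        · refine h.trans (Finset.card_le_card fun x hx => ?_)
          obtain ⟨m, -, rfl⟩ := Finset.mem_image.1 hx
          exact hdisp k q hq hqA m
      let ρ : Fin 3 → G := ![1, r0, r]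
      let κ : Fin 3 → Fin 8 := ![0, i, j]
      have hρ : ∀ n, ρ n ∈ R := by intro n; fin_cases n; exacts [one_mem _, hr0, hr]
      have hκ : ∀ n, F.toMid.VAct (ρ n) id (tU (κ n)) := by
        intro n; fin_cases n
        · show F.toMid.VAct 1 id (tU 0)
          rw [F.vunits (F.act_lU 0) F.toMid.one_vact u_basic.1]; exact F.toMid.one_vact
        · exact hi
        · exact hj
      have hκinj : Function.Injective κ := by
        intro m n e
        fin_cases m <;> fin_cases n <;> simp [κ, hi0, hj0, hji, Ne.symm hi0, Ne.symm hj0, Ne.symm hji] at e ⊢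
      let f : Fin 3 × ↥W × Fin 4 → ↥R := fun p =>
        ⟨ρ p.1 * (F.toMid.rW p.2.1.1 * S.zc p.2.2), mul_mem (hρ _) (hWall _ p.2.1.2 _)⟩
      have hf : Function.Injective f := by
        rintro ⟨n, ⟨a, ha⟩, s⟩ ⟨n', ⟨b, hb⟩, s'⟩ e
        have e' : ρ n * (F.toMid.rW a * S.zc s) = ρ n' * (F.toMid.rW b * S.zc s') := congrArg Subtype.val e
        have h1 := hact _ _ (hκ n) a s
        rw [e'] at h1
        have hn : n = n' := hκinj (u_basic.2.2 _ _ (congrArg units (F.vuniq h1 (hact _ _ (hκ n') b s'))))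
        subst hn
        have e2 := mul_left_cancel e'
        have hab' := F.toMid.WC_inj (a := a) (b := b) ⟨s, rfl⟩ ⟨s', e2⟩
        subst hab'
        rw [Mid.zc_inj (mul_left_cancel e2)]
      have h := Nat.card_le_card_of_injective f hf
      rw [hcardR, Nat.card_prod, Nat.card_prod, Nat.card_eq_fintype_card (α := ↥W), Fintype.card_coe, Nat.card_fin,
        Nat.card_fin] at h
      omega
    have hdec : ∀ r ∈ R, ∃ (b : Bool) (a : Fin 64), a ∈ W ∧
        ∃ s, r = (bif b then r0 else 1) * (F.toMid.rW a * S.zc s) := fun r hr => by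
      rcases honly r hr with h | h
      · obtain ⟨a, s, hs⟩ := hzero r h
        exact ⟨false, a, (hW a).2 ⟨r, hr, s, hs⟩, s, by simpa using hs⟩
      · obtain ⟨τ', t', h', htt, hττ⟩ := F.toMid.VAct_inv Function.bijective_id hi
        have hτ : τ' = id := funext hττ
        subst hτ
        have h2 := h'.comp h
        have hid : t' ∘ tU i = tU 0 := by
          rw [F.vunits (F.act_lU 0) F.toMid.one_vact u_basic.1]
          exact funext fun a => F.vact_injective hi (htt (tU i a))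
        rw [hid] at h2
        obtain ⟨a, s, hs⟩ := hzero _ h2
        exact ⟨true, a, (hW a).2 ⟨_, mul_mem (inv_mem hr0) hr, s, hs⟩, s,
          by show r = r0 * _; rw [← hs, mul_inv_cancel_left]⟩
    have h3 : 3 ≤ W.card := by
      choose b a ha s hs using hdec
      have hinj : Function.Injective fun r : ↥R => (b r.1 r.2, (⟨a r.1 r.2, ha r.1 r.2⟩ : ↥W), s r.1 r.2) := by
        intro r r' e
        obtain ⟨e1, e2⟩ := Prod.mk.injEq _ _ _ _ ▸ e
        obtain ⟨e3, e4⟩ := Prod.mk.injEq _ _ _ _ ▸ e2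
        exact Subtype.ext (by rw [hs r.1 r.2, hs r'.1 r'.2, e1, Subtype.mk.inj e3, e4])
      have := Nat.card_le_card_of_injective _ hinj
      rw [hcardR, Nat.card_prod, Nat.card_prod, Nat.card_eq_fintype_card (α := ↥W), Fintype.card_coe,
        Nat.card_eq_fintype_card (α := Bool), Fintype.card_bool, Nat.card_fin] at this
      omega
    obtain ⟨a, ha, hane⟩ : ∃ a ∈ W, a ≠ 0 := by
      by_contra hh
      push Not at hh
      have := Finset.card_le_card (show W ⊆ {0} from fun x hx => by simp [hh x hx])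
      simp at this; omega
    obtain ⟨b, hb, hb0, hba⟩ : ∃ b ∈ W, b ≠ 0 ∧ b ≠ a := by
      by_contra hh
      push Not at hh
      have := Finset.card_le_card (show W ⊆ {0, a} from fun x hx => by
        by_cases h0 : x = 0
        · simp [h0]
        · simp [hh x hx h0])
      have h2 : ({0, a} : Finset (Fin 64)).card ≤ 2 := Finset.card_le_two
      omega
    obtain ⟨y, c, hyR, hyc, hc0, hy0⟩ : ∃ y c, y ∈ R ∧ (c ∈ W ∧ ∃ s, y = F.toMid.rW c * S.zc s) ∧ c ≠ 0 ∧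
        r0 * y = y * r0 := by
      rcases hcommR r0 hr0 _ (hWR a ha) with h | h
      · exact ⟨_, a, hWR a ha, ⟨ha, F.toMid.WC_self a⟩, hane, h⟩
      rcases hcommR r0 hr0 _ (hWR b hb) with h' | h'
      · exact ⟨_, b, hWR b hb, ⟨hb, F.toMid.WC_self b⟩, hb0, h'⟩
      refine ⟨F.toMid.rW a * F.toMid.rW b, x6 a b, mul_mem (hWR a ha) (hWR b hb),
        ⟨hWadd a ha b hb, F.toMid.WC_mul (F.toMid.WC_self a) (F.toMid.WC_self b)⟩, ?_, ?_⟩
      · intro e
        exact hba (((by decide +kernel : ∀ a b : Fin 64, x6 a b = 0 → a = b) a b e)).symm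
      · calc r0 * (F.toMid.rW a * F.toMid.rW b) = r0 * F.toMid.rW a * F.toMid.rW b := by group
          _ = S.z * F.toMid.rW a * (r0 * F.toMid.rW b) := by rw [h]; group
          _ = S.z * F.toMid.rW a * S.z * (F.toMid.rW b * r0) := by rw [h']; group
          _ = F.toMid.rW a * F.toMid.rW b * r0 := by
            rw [mul_assoc S.z, (F.toMid.rW_cent a).1, ← mul_assoc S.z, S.zz, one_mul, mul_assoc]
    refine hc0 (hcentral hyR hyc.2 fun r hr => ?_)
    obtain ⟨b', a', ha', s', rfl⟩ := hdec r hr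
    obtain ⟨hcW, s, rfl⟩ := hyc
    have hyz : ∀ d, F.toMid.rW c * S.zc s * S.zc d = S.zc d * (F.toMid.rW c * S.zc s) := fun d =>
      Mid.zc_central d (F.WC_cent (a := c) ⟨s, rfl⟩).1 (F.WC_cent (a := c) ⟨s, rfl⟩).2
    have h1 : Commute (F.toMid.rW c * S.zc s) (F.toMid.rW a') :=
      Commute.mul_left (hab c hcW a' ha') (Mid.zc_central s (F.toMid.rW_cent a').1 (F.toMid.rW_cent a').2).symm
    refine Commute.mul_right ?_ (Commute.mul_right h1 (hyz s'))
    cases b'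
    · exact Commute.one_right _
    · exact hy0.symm

/-- NO FUSION of `e f` with `v`. -/
theorem not_conj_phi (k : G) (hk : k * S.z = S.z * k) : k * S.v * k⁻¹ ≠ F.φ := by
  intro hkv
  haveI : Fact (Nat.Prime 2) := ⟨Nat.prime_two⟩
  have hgX : ∀ y ∈ F.P, k⁻¹ * y * k ∈ F.X := by
    rintro y ⟨i, hA, hy⟩
    refine F.mem_X.2 ⟨Commute.mul_left (Commute.mul_left (Commute.inv_left hk) hA.1) hk, ?_⟩
    calc k⁻¹ * y * k * S.v = k⁻¹ * (y * (k * S.v * k⁻¹)) * k := by group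
      _ = k⁻¹ * ((k * S.v * k⁻¹) * y) * k := by rw [hkv, hy]
      _ = S.v * (k⁻¹ * y * k) := by group
  let P' : Subgroup ↥F.X :=
    { carrier := {y | k * y.1 * k⁻¹ ∈ F.P}
      one_mem' := by simp
      mul_mem' := fun {a b} ha hb => by
        show k * (a.1 * b.1) * k⁻¹ ∈ F.P
        rw [show k * (a.1 * b.1) * k⁻¹ = k * a.1 * k⁻¹ * (k * b.1 * k⁻¹) by group]
        exact mul_mem ha hb
      inv_mem' := fun {a} ha => by
        show k * a.1⁻¹ * k⁻¹ ∈ F.P
        rw [show k * a.1⁻¹ * k⁻¹ = (k * a.1 * k⁻¹)⁻¹ by group]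
        exact inv_mem ha }
  have hP'card : Nat.card ↥P' = 2048 := by
    rw [← F.card_P]
    exact Nat.card_congr
      { toFun := fun y => ⟨k * y.1.1 * k⁻¹, y.2⟩
        invFun := fun y => ⟨⟨k⁻¹ * y.1 * k, hgX y.1 y.2⟩,
          by show k * (k⁻¹ * y.1 * k) * k⁻¹ ∈ F.P; rw [show k * (k⁻¹ * y.1 * k) * k⁻¹ = y.1 by group]; exact y.2⟩
        left_inv := fun y => Subtype.ext (Subtype.ext (by show k⁻¹ * (k * y.1.1 * k⁻¹) * k = y.1.1; group))
        right_inv := fun y => Subtype.ext (by show k * (k⁻¹ * y.1 * k) * k⁻¹ = y.1; group) }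
  have hP'2 : IsPGroup 2 ↥P' := IsPGroup.of_card (n := 11) (by rw [hP'card]; rfl)
  let US : Sylow 2 ↥F.X := (F.U_two.comap_of_injective F.X.subtype (subtype_injective _)).toSylow F.U_index
  obtain ⟨Q, hQ⟩ := hP'2.exists_le_sylow
  obtain ⟨x, hx⟩ := MulAction.exists_smul_eq ↥F.X Q US
  obtain ⟨hxz, hxv⟩ := F.mem_X.1 x.2
  have hinU : ∀ y ∈ P', x.1 * y.1 * x.1⁻¹ ∈ F.U := fun y hy => by
    have h : x * y * x⁻¹ ∈ ((x • Q : Sylow 2 ↥F.X) : Subgroup ↥F.X) := by
      rw [Sylow.coe_subgroup_smul, Subgroup.mem_pointwise_smul_iff_inv_smul_mem]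
      simp only [MulAut.smul_def, MulAut.conj_inv_apply]
      rw [show x⁻¹ * (x * y * x⁻¹) * x = y by group]
      exact hQ hy
    rw [hx] at h
    exact Subgroup.mem_subgroupOf.1 h
  set g := x.1 * k⁻¹ with hg
  have hPU : ∀ y ∈ F.P, g * y * g⁻¹ ∈ F.U := fun y hy => by
    have h := hinU ⟨k⁻¹ * y * k, hgX y hy⟩ (by
      show k * (k⁻¹ * y * k) * k⁻¹ ∈ F.P
      rw [show k * (k⁻¹ * y * k) * k⁻¹ = y by group]; exact hy)
    rwa [show g * y * g⁻¹ = x.1 * (k⁻¹ * y * k) * x.1⁻¹ by rw [hg]; group]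
  have hUP : ∀ y ∈ F.U, g⁻¹ * y * g ∈ F.P := by
    let f : ↥F.P → ↥F.U := fun y => ⟨g * y.1 * g⁻¹, hPU _ y.2⟩
    have hinj : Function.Injective f := fun y y' e =>
      Subtype.ext (mul_left_cancel (mul_right_cancel (congrArg Subtype.val e)))
    have hbij := hinj.bijective_of_nat_card_le (by rw [F.card_U, F.card_P])
    intro y hy
    obtain ⟨y', hy'⟩ := hbij.2 ⟨y, hy⟩
    have e : g * y'.1 * g⁻¹ = y := congrArg Subtype.val hy'
    rw [← e, show g⁻¹ * (g * y'.1 * g⁻¹) * g = y'.1 by group]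
    exact y'.2
  refine F.no_image (g := g) (S.cz_mul hxz (S.cz_inv hk)) ?_ hUP hPU
  rw [hg, ← hkv]
  calc x.1 * k⁻¹ * (k * S.v * k⁻¹) * (x.1 * k⁻¹)⁻¹ = x.1 * S.v * x.1⁻¹ := by group
    _ = S.v := mul_inv_eq_iff_eq_mul.2 hxv

end Wr

end Cfsg.Lib.CoThreeM
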