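/-
Finite facts for the sign argument in the wreathed configuration.
-/
import Cfsg.Agent.CoThreeM.RadModel

set_option autoImplicit false
set_option maxRecDepth 10000

namespace Cfsg.Lib.CoThreeM

open Cfsg.Lib.M12Cent

theorem sylow_mod_centre : ∀ m : M,
    (∀ l : M, inS l = true → m * l * m⁻¹ * l⁻¹ = 1 ∨ m * l * m⁻¹ * l⁻¹ = tau) → inQ m = true := by
  decide +kernel

theorem code_24 : rC 24 = (true, 1, true) ∧ (∀ a : Fin 64, x6 a 24 = x6 24 a) := by decide +kernel

end Cfsg.Lib.CoThreeM
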