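/-
The wreathed configuration: `e` is an odd permutation on the class of `φ = rR 24` in the centraliser of `z`.
-/
import Cfsg.Agent.CoThreeM.WreathModel
import Cfsg.Agent.CoThreeM.WreathSignModel
import Cfsg.Agent.CoThreeM.Autom
import Cfsg.Agent.CoThreeM.Quot

set_option autoImplicit false
set_option linter.unusedSectionVars false
set_option linter.style.haveILetI false
set_option maxRecDepth 10000

namespace Cfsg.Lib.CoThreeM

open Subgroup Cfsg.Lib.M12Cent

universe u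

/-- An involutory permutation of sign one moves a multiple of four points. -/
theorem four_dvd_support {X : Type*} [Fintype X] [DecidableEq X] (σ : Equiv.Perm X) (hσ : σ * σ = 1)
    (hs : Equiv.Perm.sign σ = 1) : 4 ∣ σ.support.card := by
  by_cases h1 : σ = 1
  · simp [h1]
  have hord : orderOf σ = 2 := orderOf_eq_prime (by rw [pow_two]; exact hσ) h1
  obtain ⟨k, hk⟩ := Equiv.Perm.cycleType_prime_order (hord.symm ▸ Nat.prime_two)
  have hsum := σ.sum_cycleType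
  rw [hk, Multiset.sum_replicate, smul_eq_mul, hord] at hsum
  rcases Nat.even_or_odd (k + 1) with ⟨j, hj⟩ | hodd
  · exact ⟨j, by omega⟩
  · exfalso
    have : Equiv.Perm.sign σ = -1 := by
      rw [Equiv.Perm.sign_of_cycleType, hk, Multiset.sum_replicate, Multiset.card_replicate, hord, smul_eq_mul]
      exact Odd.neg_one_pow ((Even.mul_left even_two (k + 1)).add_odd hodd)
    rw [hs] at this
    exact absurd this (by decide)

variable {G : Type u} [Group G] [Finite G] {S : Setup G}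

namespace Mid

variable (F : Mid S)

theorem rR_24 : F.toFlip.rR 24 = S.e * F.w := by simp [Flip.rR, code_24.1, Twist.ev, Twist.W, Setup.E]

theorem rR_24_sq : F.toFlip.rR 24 * F.toFlip.rR 24 = 1 := by
  rw [F.toFlip.RC_sq (F.toFlip.RC_self 24), phi_facts.1, F.toFlip.ev_tC]
  simp [pw]

theorem cent_24 (hd : F.δ = false) (m : M) : F.toFlip.rR 24 * S.ψ m = S.ψ m * F.toFlip.rR 24 := by
  have h := F.toFlip.wψ_tw m
  rw [hd, tw, Bool.false_and, show pw false tau = (1 : M) from rfl, mul_one] at h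
  rw [F.rR_24]
  exact Commute.mul_left (S.e_ψ m) (mul_inv_eq_iff_eq_mul.1 h)

theorem kb_conj_eq {k g : G} (hk : k * S.z = S.z * k) (hg : g * S.z = S.z * g)
    (h : k * g * k⁻¹ * S.z = S.z * (k * g * k⁻¹)) :
    S.kb k hk * S.kb g hg * (S.kb k hk)⁻¹ = S.kb (k * g * k⁻¹) h := by
  rw [S.kb_inv, S.kb_mul, S.kb_mul]

/-- The centraliser of `ē` is small, that of `φ̄` is large. -/
theorem not_conj_24_8 (hd : F.δ = false) (q : S.Kb) : q * F.rb 24 * q⁻¹ ≠ F.rb 8 := by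
  classical
  intro hq
  obtain ⟨g, hg⟩ := F.exists_table
  have hgrp : grpOf F.δ g.val = grpW := by rw [hd]; rfl
  rw [hgrp, p32_basic.2.1] at hg
  have hlift : ∀ i : Fin 96, ∃ k, F.toFlip.Act k (tR i) := fun i => hg i.val i.isLt
  choose k hk using hlift
  have he : S.kb S.e S.e_z = F.rb 8 := F.kb_RC F.toFlip.RC_e _
  let f : Fin 96 × Fin 64 → centralizer ({F.rb 8} : Set S.Kb) := fun x =>
    ⟨q * (S.kb (k x.1) (hk x.1).1 * F.rb x.2) * q⁻¹, mem_centralizer_singleton_iff.2 (by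
      rw [← hq]
      have h1 : Commute (S.kb (k x.1) (hk x.1).1 * F.rb x.2) (F.rb 24) := by
        refine Commute.mul_left ?_ ?_
        · have h2 := F.rb_comm (hk x.1) 24
          rwa [tR_facts.1 x.1] at h2
        · show F.rb x.2 * F.rb 24 = F.rb 24 * F.rb x.2
          rw [F.rb_mul, F.rb_mul, code_24.2]
      calc q * (S.kb (k x.1) (hk x.1).1 * F.rb x.2) * q⁻¹ * (q * F.rb 24 * q⁻¹)
          = q * (S.kb (k x.1) (hk x.1).1 * F.rb x.2 * F.rb 24) * q⁻¹ := by group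
        _ = q * (F.rb 24 * (S.kb (k x.1) (hk x.1).1 * F.rb x.2)) * q⁻¹ := by rw [h1.eq]
        _ = q * F.rb 24 * q⁻¹ * (q * (S.kb (k x.1) (hk x.1).1 * F.rb x.2) * q⁻¹) := by group)⟩
  have hf : Function.Injective f := by
    intro x y hxy
    have h1 : S.kb (k x.1) (hk x.1).1 * F.rb x.2 = S.kb (k y.1) (hk y.1).1 * F.rb y.2 :=
      mul_left_cancel (mul_right_cancel (congrArg Subtype.val hxy))
    have hi : x.1 = y.1 := by
      refine tR_inj _ _ (congrArg units (funext fun a => F.rb_inj ?_))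
      have hc : ∀ (i : Fin 96) (b : Fin 64), S.kb (k i) (hk i).1 * F.rb b * F.rb a * (S.kb (k i) (hk i).1 * F.rb b)⁻¹ =
          F.rb (tR i a) := fun i b => by
        have h2 : F.rb b * F.rb a = F.rb a * F.rb b := by
          rw [F.rb_mul, F.rb_mul]
          congr 1
          have : ∀ a b : Fin 64, x6 b a = x6 a b := by decide +kernel
          exact this a b
        rw [mul_assoc _ (F.rb b), h2, ← F.rb_conj (hk i) a]
        group
      rw [← hc x.1 x.2, h1, hc]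
    obtain ⟨i, a⟩ := x
    obtain ⟨j, b⟩ := y
    obtain rfl : i = j := hi
    exact Prod.ext rfl (F.rb_inj (mul_left_cancel h1))
  let g' : centralizer ({F.rb 8} : Set S.Kb) → Bool × M × Bool := fun c =>
    if h : ∃ x, ∃ hx : F.ev x * S.z = S.z * F.ev x, S.kb (F.ev x) hx = c.1 then h.choose else (false, 1, false)
  have hg' : ∀ c : centralizer ({F.rb 8} : Set S.Kb),
      ∃ x, ∃ hx : F.ev x * S.z = S.z * F.ev x, S.kb (F.ev x) hx = c.1 := by
    rintro ⟨c, hc⟩
    obtain ⟨x, hx, rfl⟩ := S.kb_surj c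
    have h1 := mem_centralizer_singleton_iff.1 hc
    rw [← he, S.kb_mul, S.kb_mul, S.kb_eq] at h1
    have h2 : x * S.e * x⁻¹ = S.e ∨ x * S.e * x⁻¹ = S.e * S.z := by
      rcases h1 with h | h
      · exact Or.inl (mul_inv_eq_iff_eq_mul.2 h)
      · refine Or.inr ?_
        rw [h, mul_assoc S.e x, hx]; group
    obtain ⟨y, rfl⟩ := F.toTwist.mem_K0 hx h2
    exact ⟨y, hx, rfl⟩
  have hinj : Function.Injective g' := fun c d hcd => by
    simp only [g', dif_pos (hg' c), dif_pos (hg' d)] at hcd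
    obtain ⟨hx, e1⟩ := (hg' c).choose_spec
    obtain ⟨hy, e2⟩ := (hg' d).choose_spec
    refine Subtype.ext ?_
    rw [← e1, ← e2]
    congr 1
    rw [hcd]
  have hle := Nat.card_le_card_of_injective _ (hinj.comp hf)
  have hM : Nat.card M = 192 := card_M
  rw [Nat.card_prod, Nat.card_fin, Nat.card_fin, Nat.card_prod, Nat.card_prod, hM, Nat.card_eq_fintype_card,
    Fintype.card_bool] at hle
  omega

/-- The only class element over a pair fixed by `Pe` is that of `φ`. -/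
theorem fixed_is_24 (hd : F.δ = false)
    (hv : ∀ k : G, k * S.z = S.z * k → k * S.v * k⁻¹ ≠ F.toFlip.rR 24)
    {k x : G} (hk : k * S.z = S.z * k) (hx : k * F.toFlip.rR 24 * k⁻¹ = x) (hex : S.e * x * S.e⁻¹ = x * S.z)
    (hfix : ∀ g ∈ S.Pe, g * x * g⁻¹ = x ∨ g * x * g⁻¹ = x * S.z) : F.toFlip.RC 24 x := by
  have hxz : x * S.z = S.z * x := by
    rw [← hx]; exact Commute.mul_left (Commute.mul_left hk (F.toFlip.rR_z 24)) (Commute.inv_left hk)
  have hx2 : x * x = 1 := by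
    rw [← hx, show k * F.toFlip.rR 24 * k⁻¹ * (k * F.toFlip.rR 24 * k⁻¹) =
      k * (F.toFlip.rR 24 * F.toFlip.rR 24) * k⁻¹ by group, F.rR_24_sq]
    group
  have hxe : x * S.e * x⁻¹ = S.e * S.z := by
    refine mul_inv_eq_iff_eq_mul.2 ?_
    calc x * S.e = x * S.z * (S.z * S.e) := by rw [← mul_assoc (x * S.z), mul_assoc x, S.zz, mul_one]
      _ = S.e * x * S.e⁻¹ * (S.e * S.z) := by rw [← hex, S.e_z]
      _ = S.e * (x * S.z) := by group
      _ = S.e * S.z * x := by rw [hxz, mul_assoc]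
  obtain ⟨⟨i, m, j⟩, rfl⟩ := F.toTwist.mem_K0 hxz (Or.inr hxe)
  have hm : inQ m = true := by
    refine sylow_mod_centre m fun l hl => ?_
    have hW : F.W j * S.ψ l * (F.W j)⁻¹ = S.ψ l := by
      cases j
      · simp [Twist.W]
      · have h := F.toFlip.wψ_tw l
        rw [hd, tw, Bool.false_and, show pw false tau = (1 : M) from rfl, mul_one] at h
        exact h
    have h1 : F.ev (i, m, j) * S.ψ l * (F.ev (i, m, j))⁻¹ = S.ψ (m * l * m⁻¹) := by
      calc F.ev (i, m, j) * S.ψ l * (F.ev (i, m, j))⁻¹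
          = S.E i * (S.ψ m * (F.W j * S.ψ l * (F.W j)⁻¹) * (S.ψ m)⁻¹) * (S.E i)⁻¹ := by
            show S.E i * S.ψ m * F.W j * S.ψ l * (S.E i * S.ψ m * F.W j)⁻¹ = _
            group
        _ = S.ψ (m * l * m⁻¹) := by
            rw [hW, ← map_inv, ← map_mul, ← map_mul, S.E_ψ, mul_inv_cancel_right]
    set x := F.ev (i, m, j)
    have h2 : S.ψ (m * l * m⁻¹ * l⁻¹) = 1 ∨ S.ψ (m * l * m⁻¹ * l⁻¹) = S.z := by
      rw [map_mul, ← h1, map_inv]
      rcases hfix _ (S.ψ_mem_Pe hl) with h | h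
      · left
        rw [mul_assoc (x * S.ψ l), show x * S.ψ l * (x⁻¹ * (S.ψ l)⁻¹) = x * (S.ψ l * x * (S.ψ l)⁻¹)⁻¹ by group, h,
          mul_inv_cancel]
      · right
        rw [mul_assoc (x * S.ψ l), show x * S.ψ l * (x⁻¹ * (S.ψ l)⁻¹) = x * (S.ψ l * x * (S.ψ l)⁻¹)⁻¹ by group, h,
          mul_inv_rev, S.z_inv, ← mul_assoc, hxz, mul_inv_cancel_right]
    rcases h2 with h | h
    · exact Or.inl (S.ψ_inj (h.trans (map_one S.ψ).symm))
    · exact Or.inr (S.ψ_inj h)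
  obtain ⟨c, hc⟩ := F.toFlip.mem_R_of_ev (c := (i, m, j)) hm
  set x := F.ev (i, m, j)
  have hB : B6 8 c = true := by
    by_contra hB
    rw [Bool.not_eq_true] at hB
    have h1 := F.toFlip.RC_comm F.toFlip.RC_e hc
    rw [hB, F.toFlip.ev_tC, show pw false tau = (1 : M) from rfl, map_one, one_mul] at h1
    rw [h1, mul_inv_cancel_right] at hex
    exact S.z_ne (mul_eq_left.1 hex.symm)
  have hq : q6 c = false := by
    by_contra hq
    rw [Bool.not_eq_false] at hq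
    have h1 := F.toFlip.RC_sq hc
    rw [hx2, hq, F.toFlip.ev_tC] at h1
    exact S.z_ne h1.symm
  have hpi : lf piL c = c := by
    refine F.toFlip.RC_inj (F.toFlip.act_piM.conj hc) ?_
    rcases hfix _ (S.ψ_mem_Pe sm_comm.1) with h | h <;> rw [h]
    · exact hc
    · have := F.toFlip.RC_mul hc F.toFlip.RC_zz
      rwa [(x6_zero c).2] at this
  have hbad : ∀ i : Fin 96, tR i 8 = c → False := fun r hr => by
    obtain ⟨g, hg⟩ := F.exists_table
    have hgrp : grpOf F.δ g.val = grpW := by rw [hd]; rfl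
    rw [hgrp, p32_basic.2.1] at hg
    obtain ⟨k', hk'⟩ := hg r.val r.isLt
    have h1 : S.kb k hk * F.rb 24 * (S.kb k hk)⁻¹ = F.rb c := by
      show S.kb k hk * S.kb (F.toFlip.rR 24) (F.toFlip.rR_z 24) * (S.kb k hk)⁻¹ = _
      rw [kb_conj_eq hk _ (by rw [hx]; exact hxz)]
      exact F.kb_RC (hx ▸ hc) _
    have h2 := F.rb_conj (t := tR r) hk' 8
    rw [hr] at h2
    refine F.not_conj_24_8 hd ((S.kb k' hk'.1)⁻¹ * S.kb k hk) ?_
    calc (S.kb k' hk'.1)⁻¹ * S.kb k hk * F.rb 24 * ((S.kb k' hk'.1)⁻¹ * S.kb k hk)⁻¹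
        = (S.kb k' hk'.1)⁻¹ * (S.kb k hk * F.rb 24 * (S.kb k hk)⁻¹) * S.kb k' hk'.1 := by group
      _ = F.rb 8 := by rw [h1, ← h2]; group
  obtain ⟨-, r18, r22, r38⟩ := tR_facts
  rcases cands c hpi hB hq with rfl | rfl | rfl | rfl
  · exact (hbad 4 r18).elim
  · exact (hbad 13 r22).elim
  · exact hc
  · exfalso
    obtain ⟨g, hg⟩ := F.exists_table
    have hgrp : grpOf F.δ g.val = grpW := by rw [hd]; rfl
    rw [hgrp, p32_basic.2.1] at hg
    obtain ⟨k', hk'⟩ := hg 38 (by norm_num)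
    have h4 := (show F.toFlip.Act k' (tR 38) from hk').conj hc
    rw [r38] at h4
    obtain ⟨d, hd4⟩ := h4
    have hR4 : F.toFlip.rR 4 = S.v := by
      simp [Flip.rR, rC_zero.2.2.1, Twist.ev, Twist.W, Setup.E]; rfl
    rw [hR4, F.toFlip.ev_tC] at hd4
    obtain ⟨l, hl, hlv⟩ : ∃ l : G, l * S.z = S.z * l ∧ l * x * l⁻¹ = S.v := by
      cases d
      · exact ⟨k', hk'.1, by simpa [pw] using hd4⟩
      · refine ⟨S.ψ nM * k', Commute.mul_left (S.z_ψ _).symm hk'.1, ?_⟩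
        have hn : S.ψ nM * S.v * (S.ψ nM)⁻¹ = S.v * S.z := by
          rw [Setup.v, Setup.z, ← map_inv, ← map_mul, ← map_mul, ← map_mul,
            elt_facts.2.2.2.2.2.2.2.2.2.2.2.2.2.1]
        calc S.ψ nM * k' * x * (S.ψ nM * k')⁻¹ = S.ψ nM * (k' * x * k'⁻¹) * (S.ψ nM)⁻¹ := by group
          _ = S.ψ nM * S.v * (S.ψ nM)⁻¹ * (S.ψ nM * S.z * (S.ψ nM)⁻¹) := by
            rw [hd4, show S.ψ (pw true tau) = S.z from rfl]; group
          _ = S.v := by rw [hn, mul_inv_eq_iff_eq_mul.2 (S.z_ψ nM).symm, mul_assoc, S.zz, mul_one]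
    refine hv (k⁻¹ * l⁻¹) (Commute.mul_left (Commute.inv_left hk) (Commute.inv_left hl)) ?_
    rw [← hlv, ← hx]
    group

/-- THE SIGN CONTRADICTION. -/
theorem wreath_sign (hd : F.δ = false)
    (hv : ∀ k : G, k * S.z = S.z * k → k * S.v * k⁻¹ ≠ F.toFlip.rR 24) : False := by
  classical
  set φ := F.toFlip.rR 24 with hφ
  have hφz : φ * S.z = S.z * φ := F.toFlip.rR_z 24
  have heφ : S.e * φ * S.e⁻¹ = φ * S.z := by
    have h := F.toFlip.RC_comm F.toFlip.RC_e (F.toFlip.RC_self 24)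
    rw [phi_facts.2.1, F.toFlip.ev_tC, show S.ψ (pw true tau) = S.z from rfl] at h
    rw [h, ← mul_assoc, ← hφz, mul_inv_cancel_right]
  let X := {x : G // ∃ k ∈ S.K, k * φ * k⁻¹ = x}
  haveI : Fintype X := Fintype.ofFinite X
  letI : MulAction ↥S.K X :=
    { smul := fun k x => ⟨(k : G) * x.1 * (k : G)⁻¹, by
        obtain ⟨l, hl, hx⟩ := x.2
        exact ⟨k * l, mul_mem k.2 hl, by rw [← hx]; group⟩⟩
      one_smul := fun x => Subtype.ext (show (1 : G) * x.1 * (1 : G)⁻¹ = x.1 by group)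
      mul_smul := fun a b x => Subtype.ext (show ((a : G) * b) * x.1 * ((a : G) * b)⁻¹ =
        (a : G) * ((b : G) * x.1 * (b : G)⁻¹) * (a : G)⁻¹ by group) }
  let σ : Equiv.Perm X := MulAction.toPermHom ↥S.K X ⟨S.e, S.e_mem_K⟩
  have hσ : σ * σ = 1 := by
    show MulAction.toPermHom ↥S.K X ⟨S.e, S.e_mem_K⟩ * MulAction.toPermHom ↥S.K X ⟨S.e, S.e_mem_K⟩ = 1
    rw [← map_mul, show (⟨S.e, S.e_mem_K⟩ : ↥S.K) * ⟨S.e, S.e_mem_K⟩ = 1 from Subtype.ext S.ee, map_one]
  have h4 : 4 ∣ σ.support.card :=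
    four_dvd_support σ hσ (S.hom_e (Equiv.Perm.sign.comp (MulAction.toPermHom ↥S.K X)))
  have hXz : ∀ x : X, x.1 * S.z = S.z * x.1 := fun x => by
    obtain ⟨l, hl, hx⟩ := x.2
    rw [← hx]
    exact Commute.mul_left (Commute.mul_left (mem_centralizer_singleton_iff.1 hl) hφz)
      (Commute.inv_left (mem_centralizer_singleton_iff.1 hl))
  let f : X → S.Kb := fun x => S.kb x.1 (hXz x)
  -- multiplication by the centre
  have hτ : ∀ x : X, ∃ y : X, y.1 = x.1 * S.z := fun x => by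
    obtain ⟨l, hl, hx⟩ := x.2
    refine ⟨⟨x.1 * S.z, l * S.e, mul_mem hl S.e_mem_K, ?_⟩, rfl⟩
    calc l * S.e * φ * (l * S.e)⁻¹ = l * (S.e * φ * S.e⁻¹) * l⁻¹ := by group
      _ = l * φ * (S.z * l⁻¹) := by rw [heφ]; group
      _ = l * φ * (l⁻¹ * S.z) := by rw [(show Commute l⁻¹ S.z from Commute.inv_left (mem_centralizer_singleton_iff.1 hl)).eq]
      _ = x.1 * S.z := by rw [← hx]; group
  have hsupp : ∀ x : X, x ∈ σ.support ↔ S.e * x.1 * S.e⁻¹ ≠ x.1 := fun x => by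
    rw [Equiv.Perm.mem_support]
    exact not_congr Subtype.ext_iff
  let Y := σ.support.image f
  have hfib : ∀ q ∈ Y, (σ.support.filter fun x => f x = q).card = 2 := by
    intro q hq
    obtain ⟨x, hx, rfl⟩ := Finset.mem_image.1 hq
    obtain ⟨y, hy⟩ := hτ x
    have hxy : x ≠ y := fun h => S.z_ne (mul_eq_left.1 (((congrArg Subtype.val h).trans hy).symm))
    have hys : y ∈ σ.support := by
      rw [hsupp, hy]
      intro h
      refine (hsupp x).1 hx (mul_right_cancel (b := S.z) ?_)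
      calc S.e * x.1 * S.e⁻¹ * S.z = S.e * x.1 * (S.e⁻¹ * S.z) := by group
        _ = S.e * (x.1 * S.z) * S.e⁻¹ := by rw [(show Commute S.e⁻¹ S.z from Commute.inv_left S.e_z).eq]; group
        _ = x.1 * S.z := h
    refine Finset.card_eq_two.2 ⟨x, y, hxy, ?_⟩
    ext w
    simp only [Finset.mem_filter, Finset.mem_insert, Finset.mem_singleton]
    constructor
    · rintro ⟨-, hw⟩
      rcases (S.kb_eq (hXz w) (hXz x)).1 hw with h | h
      · exact Or.inl (Subtype.ext h)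
      · exact Or.inr (Subtype.ext (h.trans hy.symm))
    · rintro (rfl | rfl)
      · exact ⟨hx, rfl⟩
      · exact ⟨hys, (S.kb_eq _ _).2 (Or.inr hy)⟩
  have hcard : σ.support.card = 2 * Y.card := by
    rw [Finset.card_eq_sum_card_image f, Finset.sum_const_nat hfib, mul_comm]
  -- the action of `Pe` on the pairs
  have hPK : ∀ g ∈ S.Pe, g * S.z = S.z * g := fun g hg => S.z_central_Pe hg
  have hmaps : ∀ (g : S.Pe) (q : S.Kb), q ∈ Y →
      S.kb g.1 (hPK _ g.2) * q * (S.kb g.1 (hPK _ g.2))⁻¹ ∈ Y := fun g q hq => by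
    obtain ⟨x, hx, rfl⟩ := Finset.mem_image.1 hq
    refine Finset.mem_image.2 ⟨(⟨g.1, mem_centralizer_singleton_iff.2 (hPK _ g.2)⟩ : ↥S.K) • x, ?_, ?_⟩
    · rw [hsupp]
      intro h
      change S.e * (g.1 * x.1 * g.1⁻¹) * S.e⁻¹ = g.1 * x.1 * g.1⁻¹ at h
      refine (hsupp x).1 hx ?_
      have hge : g.1 * S.e = S.e * g.1 := mem_centralizer_singleton_iff.1 (S.Pe_le g.2)
      refine mul_left_cancel (a := g.1) (mul_right_cancel (b := g.1⁻¹) ?_)
      calc g.1 * (S.e * x.1 * S.e⁻¹) * g.1⁻¹ = (g.1 * S.e) * x.1 * (g.1 * S.e)⁻¹ := by group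
        _ = S.e * (g.1 * x.1 * g.1⁻¹) * S.e⁻¹ := by rw [hge]; group
        _ = _ := h
    · exact (kb_conj_eq (hPK _ g.2) (hXz x) _).symm
  letI : MulAction ↥S.Pe {q // q ∈ Y} :=
    { smul := fun g q => ⟨_, hmaps g q.1 q.2⟩
      one_smul := fun q => Subtype.ext (by
        show S.kb (1 : G) _ * q.1 * (S.kb (1 : G) _)⁻¹ = q.1
        rw [show S.kb (1 : G) (hPK 1 (one_mem _)) = 1 from S.pK.map_one]; group)
      mul_smul := fun a b q => Subtype.ext (by
        show S.kb (a.1 * b.1) _ * q.1 * (S.kb (a.1 * b.1) _)⁻¹ =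
          S.kb a.1 _ * (S.kb b.1 _ * q.1 * (S.kb b.1 _)⁻¹) * (S.kb a.1 _)⁻¹
        rw [← S.kb_mul (hPK _ a.2) (hPK _ b.2)]; group) }
  haveI : Fact (Nat.Prime 2) := ⟨Nat.prime_two⟩
  have hmod := S.Pe_pgroup.card_modEq_card_fixedPoints {q // q ∈ Y}
  have hY24 : F.rb 24 ∈ Y := Finset.mem_image.2 ⟨⟨φ, 1, one_mem _, by group⟩, by
    rw [hsupp]
    show S.e * φ * S.e⁻¹ ≠ φ
    rw [heφ]
    exact fun h => S.z_ne (mul_eq_left.1 h), rfl⟩
  have hone : MulAction.fixedPoints ↥S.Pe {q // q ∈ Y} = {⟨F.rb 24, hY24⟩} := by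
    ext q
    rw [MulAction.mem_fixedPoints, Set.mem_singleton_iff]
    constructor
    · intro hq
      obtain ⟨x, hx, hxq⟩ := Finset.mem_image.1 q.2
      have hfix : ∀ g ∈ S.Pe, g * x.1 * g⁻¹ = x.1 ∨ g * x.1 * g⁻¹ = x.1 * S.z := fun g hg => by
        have h1 : S.kb g (hPK g hg) * q.1 * (S.kb g (hPK g hg))⁻¹ = q.1 := congrArg Subtype.val (hq ⟨g, hg⟩)
        rw [← hxq, kb_conj_eq (hPK g hg) (hXz x) (Commute.mul_left (Commute.mul_left (hPK g hg) (hXz x))
          (Commute.inv_left (hPK g hg)))] at h1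
        exact (S.kb_eq _ _).1 h1
      have hex := (hfix S.e S.e_mem_Pe).resolve_left ((hsupp x).1 hx)
      obtain ⟨l, hl, hlx⟩ := x.2
      refine Subtype.ext ?_
      rw [← hxq]
      exact F.kb_RC (F.fixed_is_24 hd hv (mem_centralizer_singleton_iff.1 hl) hlx hex hfix) _
    · rintro rfl g
      refine Subtype.ext ?_
      show S.kb g.1 (hPK _ g.2) * F.rb 24 * (S.kb g.1 (hPK _ g.2))⁻¹ = F.rb 24
      rw [show F.rb 24 = S.kb φ hφz from rfl, kb_conj_eq (hPK _ g.2) hφz (Commute.mul_left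
        (Commute.mul_left (hPK _ g.2) hφz) (Commute.inv_left (hPK _ g.2)))]
      refine (S.kb_eq _ _).2 ?_
      obtain ⟨i, m, -, hgm⟩ := S.mem_Pe g.2
      have hψ : S.ψ m * φ * (S.ψ m)⁻¹ = φ := mul_inv_eq_iff_eq_mul.2 (F.cent_24 hd m).symm
      rw [hgm, show S.E i * S.ψ m * φ * (S.E i * S.ψ m)⁻¹ = S.E i * (S.ψ m * φ * (S.ψ m)⁻¹) * (S.E i)⁻¹ by group, hψ]
      cases i
      · left; simp [Setup.E]
      · right; exact heφ
  rw [hone, Nat.card_coe_set_eq, Set.ncard_singleton, Nat.card_eq_fintype_card, Fintype.card_coe] at hmod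
  have : Y.card % 2 = 1 := hmod
  omega

end Mid

end Cfsg.Lib.CoThreeM
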