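/-
The wreathed configuration does not occur.
-/
import Cfsg.Agent.CoThreeM.WreathPhi
import Cfsg.Agent.CoThreeM.WreathSign
import Cfsg.Agent.CoThreeM.CoData

set_option autoImplicit false

namespace Cfsg.Lib.CoThreeM

universe u

variable {G : Type u} [Group G] [Finite G] {S : Setup G}

/-- THE TWIST is the one of the third Conway group. -/
theorem Mid.δ_true (F : Mid S) : F.δ = true := by
  cases hd : F.δ
  · exact (F.wreath_sign hd (Wr.not_conj_phi { F with hd := hd })).elim
  · rfl

/-- the configuration -/
theorem Setup.exists_co (S : Setup G) : Nonempty (Co S) := by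
  obtain ⟨F⟩ := S.exists_mid
  exact ⟨{ F with hd := F.δ_true }⟩

end Cfsg.Lib.CoThreeM
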