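/-
The third Conway group from the centraliser of an involution.
-/
import Cfsg.Agent.CoThreeM.Pieces
import Cfsg.Agent.CoThreeM.End.Main

set_option autoImplicit false

namespace Cfsg.Lib.CoThreeM

open Subgroup

universe u

variable {G : Type u} [Group G] [Finite G]

/-- THE CHARACTERISATION. -/
theorem isoCo3_of_cent {e : G} (he : orderOf e = 2)
    (hC : Nonempty (↥(centralizer ({e} : Set G)) ≃* (Multiplicative (ZMod 2) × ↥Cfsg.Spor.M12)))
    (hO : e ∈ Cfsg.pResidual 2 G) : Cfsg.Spor.IsoCo3 G := by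
  obtain ⟨S, rfl⟩ := exists_setup he hC hO
  obtain ⟨F⟩ := S.exists_co
  have hw : S.pK ⟨F.w, mem_centralizer_singleton_iff.2 F.toFlip.wz⟩ = F.rb 16 := F.pK_w
  refine End.endgame_hom F.toFlip S.pK S.pK_surj S.pK_ker ?_ ?_ F.exists_seven F.exists_three
  · rw [hw]; exact F.stab_iso
  · rw [hw]; exact F.fH_index

end Cfsg.Lib.CoThreeM
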